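import Groth.Prelude.Def_ModSite

/-!
# Sheaves of modules on a topological space, examined on a basis
-/

universe u

open CategoryTheory CategoryTheory.Limits TopologicalSpace Opposite

set_option autoImplicit false
set_option backward.isDefEq.respectTransparency false
set_option linter.style.haveILetI false

noncomputable section

namespace Groth.Agent.FSchCoh

variable {Y : TopCat.{u}} {O : Sheaf (Opens.grothendieckTopology Y) CommRingCat.{u}}

/-- restriction of sections -/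
abbrev rs (M : ModSite.Mod O) {V U : Opens Y} (i : V ≤ U) : ModSite.sect M U → ModSite.sect M V :=
  fun x => M.val.presheaf.map (homOfLE i).op x

/-- the map on sections -/
abbrev app {M N : ModSite.Mod O} (φ : M ⟶ N) (U : Opens Y) : ModSite.sect M U → ModSite.sect N U :=
  fun x => φ.val.app (op U) x

theorem app_rs {M N : ModSite.Mod O} (φ : M ⟶ N) {V U : Opens Y} (i : V ≤ U) (x : ModSite.sect M U) :
    app φ V (rs M i x) = rs N i (app φ U x) :=
  PresheafOfModules.naturality_apply φ.val (homOfLE i).op x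

theorem sect_ext {M : ModSite.Mod O} {U : Opens Y} {s t : ModSite.sect M U}
    (h : ∀ x ∈ U, ∃ (W : Opens Y) (hW : W ≤ U), x ∈ W ∧ rs M hW s = rs M hW t) : s = t :=
  TopCat.Presheaf.IsSheaf.section_ext M.isSheaf fun x hx =>
    let ⟨W, hW, hxW, e⟩ := h x hx
    ⟨W, hW, hxW, e⟩

variable {B : Set (Opens Y)} (hB : Opens.IsBasis B)
include hB

theorem hom_ext_basis {M N : ModSite.Mod O} {φ ψ : M ⟶ N} (h : ∀ U ∈ B, ∀ x, app φ U x = app ψ U x) : φ = ψ := by
  refine SheafOfModules.hom_ext (PresheafOfModules.hom_ext fun U => ?_)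
  ext s
  refine sect_ext fun x hx => ?_
  obtain ⟨W, hWB, hxW, hW⟩ := Opens.isBasis_iff_nbhd.mp hB hx
  refine ⟨W, hW, hxW, ?_⟩
  show rs N hW (app φ U.unop s) = rs N hW (app ψ U.unop s)
  rw [← app_rs, ← app_rs]
  exact h W hWB _

theorem epi_of_basis {M N : ModSite.Mod O} (φ : M ⟶ N) (h : ∀ U ∈ B, Function.Surjective (app φ U)) : Epi φ :=
  ⟨fun {P} a b e => hom_ext_basis hB fun U hU t => by
    obtain ⟨s, rfl⟩ := h U hU t
    exact congrArg (fun ψ => app ψ U s) e⟩

theorem epi_of_locally {M N : ModSite.Mod O} (φ : M ⟶ N)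
    (h : ∀ U ∈ B, ∀ (t : ModSite.sect N U) (x : Y), x ∈ U →
      ∃ (W : Opens Y) (hW : W ≤ U), x ∈ W ∧ ∃ s, app φ W s = rs N hW t) : Epi φ :=
  ⟨fun {P} a b e => hom_ext_basis hB fun U hU t => sect_ext fun x hx => by
    obtain ⟨W, hW, hxW, s, hs⟩ := h U hU t x hx
    refine ⟨W, hW, hxW, ?_⟩
    rw [← app_rs, ← app_rs, ← hs]
    exact congrArg (fun ψ => app ψ W s) e⟩

/-- a map killing the kernel on a basis kills the kernel -/
theorem kernel_comp_eq_zero {M N P : ModSite.Mod O} (φ : M ⟶ N) (ψ : M ⟶ P)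
    (h : ∀ U ∈ B, ∀ x, app φ U x = 0 → app ψ U x = 0) : kernel.ι φ ≫ ψ = 0 :=
  hom_ext_basis hB fun U hU k => h U hU _
    (congrArg (fun θ => app θ U k) (kernel.condition φ))

/-- factor through an epimorphism -/
theorem exists_factor {M N P : ModSite.Mod O} (φ : M ⟶ N) [Epi φ] (ψ : M ⟶ P)
    (h : ∀ U ∈ B, ∀ x, app φ U x = 0 → app ψ U x = 0) : ∃ θ : N ⟶ P, φ ≫ θ = ψ :=
  ⟨Abelian.epiDesc φ ψ (kernel_comp_eq_zero hB φ ψ h), Abelian.comp_epiDesc _ _ _⟩

end Groth.Agent.FSchCoh
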