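import Groth.Agent.KosTwist.Tools

/-!
# Sections of the inverse image to a closed subscheme over an affine open
-/

universe u

open CategoryTheory CategoryTheory.Limits AlgebraicGeometry TopologicalSpace Opposite

set_option autoImplicit false
set_option backward.isDefEq.respectTransparency false
set_option backward.isDefEq.respectTransparency.types false
set_option linter.style.haveILetI false

noncomputable section

namespace Groth.Agent.FSchCoh

variable {Z X : Scheme.{u}}

theorem pullSect_eq_zero_iff (i : Z ⟶ X) [IsClosedImmersion i] {M : X.Modules} (hM : Coh.IsQCoh M)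
    (W : X.affineOpens) (m : Γ(M, W.1)) :
    OmegaSh.pullSect i M W.1 m = 0 ↔
      m ∈ (RingHom.ker (i.app W.1).hom • ⊤ : Submodule Γ(X, W.1) Γ(M, W.1)) := by
  constructor
  · intro hm
    let φ : Γ(X, W.1) →+* Γ(Z, i ⁻¹ᵁ W.1) := (i.app W.1).hom
    have hφ : Function.Surjective φ := i.app_surjective W.1 W.2
    let N := Γ(M, W.1) ⧸ (RingHom.ker φ • ⊤ : Submodule Γ(X, W.1) Γ(M, W.1))
    let ε : (Γ(X, W.1) ⧸ RingHom.ker φ) ≃+* Γ(Z, i ⁻¹ᵁ W.1) := RingHom.quotientKerEquivOfSurjective hφ
    letI : Module Γ(Z, i ⁻¹ᵁ W.1) N := Module.compHom N ε.symm.toRingHom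
    have hsm : ∀ (r : Γ(X, W.1)) (y : Γ(M, W.1)),
        φ r • (Submodule.Quotient.mk y : N) = Submodule.Quotient.mk (r • y) := fun r y => by
      have : ε.symm (φ r) = Ideal.Quotient.mk _ r := by
        rw [RingEquiv.symm_apply_eq]
        rfl
      show ε.symm (φ r) • (Submodule.Quotient.mk y : N) = _
      rw [this]
      rfl
    have happ : ∀ r, (i.appLE W.1 (i ⁻¹ᵁ W.1) le_rfl).hom r = φ r := fun r => by
      rw [← Scheme.Hom.app_eq_appLE]
    let w : Γ(M, W.1) →ₛₗ[(i.appLE W.1 (i ⁻¹ᵁ W.1) le_rfl).hom] N :=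
      { toFun := fun y => Submodule.Quotient.mk y
        map_add' := fun a b => rfl
        map_smul' := fun r y => by rw [happ, hsm] }
    obtain ⟨f, hf, -⟩ := RelTilde.isBC_unit i hM W.2 (W.2.preimage _) le_rfl N w
    have h0 : RelTilde.resθ i ((Scheme.Modules.pullbackPushforwardAdjunction i).unit.app M)
        (le_rfl : i ⁻¹ᵁ W.1 ≤ i ⁻¹ᵁ W.1) m = 0 :=
      (QC.res_self _ _ _).trans hm
    have h1 := hf m
    rw [h0, map_zero] at h1
    exact (Submodule.Quotient.mk_eq_zero _).1 h1.symm
  · intro hm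
    refine Submodule.smul_induction_on hm (fun a ha y _ => ?_) fun a b ha hb => ?_
    · rw [PBundle.pullSect_smul, (RingHom.mem_ker.1 ha : i.app W.1 a = 0), zero_smul]
    · show (((Scheme.Modules.pullbackPushforwardAdjunction i).unit.app M).app W.1) (a + b) = 0
      rw [map_add]
      exact (congrArg₂ (· + ·) ha hb).trans (add_zero 0)

theorem pullSect_surjective (i : Z ⟶ X) [IsClosedImmersion i] {M : X.Modules} (hM : Coh.IsQCoh M)
    (W : X.affineOpens) : Function.Surjective (OmegaSh.pullSect i M W.1) :=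
  AmpleHomeo.pullSect_surjective i hM W.2

end Groth.Agent.FSchCoh
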