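import Groth.Agent.FSchCoh.Ring
import Groth.Agent.FSchCoh.Unit
import Groth.Agent.FSchCoh.Basis
import Groth.Agent.QC.FiniteType

/-!
# Sections of the module of a coherent system over an affine open
-/

universe u

open CategoryTheory CategoryTheory.Limits AlgebraicGeometry TopologicalSpace Opposite

set_option autoImplicit false
set_option backward.isDefEq.respectTransparency false
set_option linter.style.haveILetI false

noncomputable section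

namespace Groth.Agent.FSchCoh

theorem ker_comp_equiv_smul {R : Type u} [CommRing R] {A : Type u} [CommRing A] [Algebra A R]
    (I : Ideal A) (M : Type u) [AddCommGroup M] [Module A M] [Module R M] [IsScalarTower A R M] :
    ((I • (⊤ : Submodule A M) : Submodule A M) : Set M) = ((I.map (algebraMap A R)) • (⊤ : Submodule R M) : Submodule R M) := by
  have h := congrArg (fun S : Submodule A M => (S : Set M))
    (Ideal.smul_restrictScalars (S := R) I (⊤ : Submodule R M))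
  simp only [Submodule.restrictScalars_top] at h
  exact h.symm

variable (𝔛 : FSch.Sys.{u}) (h : 𝔛.IsFormal) (𝔐 : FSch.ModSys 𝔛) (U : (𝔛.X 0).Opens)

/-- sections of the `n`-th level, as sections of its direct image -/
abbrev MA (n : ℕ) : Type u := ModSite.sect ((FSch.levelMor 𝔛 h n).push.obj (𝔐.F n)) U

/-- sections of the module of the system -/
abbrev ML : Type u := ModSite.sect (𝔐.realMod h) U

/-- the transition map -/
def transM (n : ℕ) : MA 𝔛 h 𝔐 U (n + 1) →ₗ[OA 𝔛 h U] MA 𝔛 h 𝔐 U n :=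
  (((FSch.levelMor 𝔛 h (n + 1)).push.map (𝔐.toPush n) ≫ (FSch.pushCompare 𝔛 h n).app (𝔐.F n)).val.app (op U)).hom

/-- the projection -/
def projM (n : ℕ) : ML 𝔛 h 𝔐 U →ₗ[OA 𝔛 h U] MA 𝔛 h 𝔐 U n :=
  ((FSch.realProj 𝔛 h 𝔐.F 𝔐.toPush n).val.app (op U)).hom

theorem transM_projM (n : ℕ) (x : ML 𝔛 h 𝔐 U) :
    transM 𝔛 h 𝔐 U n (projM 𝔛 h 𝔐 U (n + 1) x) = projM 𝔛 h 𝔐 U n x :=
  congrArg (fun φ => app φ U x) (FSch.realProj_map 𝔛 h 𝔐.F 𝔐.toPush n)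

theorem projM_eq_app (n : ℕ) (x : ML 𝔛 h 𝔐 U) :
    app (FSch.realProj 𝔛 h 𝔐.F 𝔐.toPush n) U x = projM 𝔛 h 𝔐 U n x := rfl

theorem transM_apply (n : ℕ) (y : MA 𝔛 h 𝔐 U (n + 1)) :
    transM 𝔛 h 𝔐 U n y = (𝔐.F n).presheaf.map (homOfLE (𝔛.lvU_le h n U)).op
      ((𝔐.e n).hom.app _ (OmegaSh.pullSect (𝔛.ι n) (𝔐.F (n + 1)) (𝔛.lvU h (n + 1) U) y)) := by
  show (𝔐.F n).presheaf.map (homOfLE (𝔛.lvU_le h n U)).op ((𝔐.toPush n).app (𝔛.lvU h (n + 1) U) y) = _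
  rw [FSch.ModSys.toPush, Adjunction.homEquiv_unit]
  rfl

/-- the functor taking sections over `U` -/
abbrev sectM : FSch.ModF 𝔛 h ⥤ Type u :=
  SheafOfModules.evaluation (ModSite.ringSh (𝔛.Osh h)) (op U) ⋙ forget _

theorem ML_ext {x y : ML 𝔛 h 𝔐 U} (hxy : ∀ n, projM 𝔛 h 𝔐 U n x = projM 𝔛 h 𝔐 U n y) : x = y :=
  seq_ext (isLimitOfPreserves (sectM 𝔛 h U) (limit.isLimit (FSch.levelSysOf 𝔛 h 𝔐.F 𝔐.toPush))) hxy

theorem ML_lift (a : ∀ n, MA 𝔛 h 𝔐 U n) (ha : ∀ n, transM 𝔛 h 𝔐 U n (a (n + 1)) = a n) :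
    ∃ x : ML 𝔛 h 𝔐 U, ∀ n, projM 𝔛 h 𝔐 U n x = a n := by
  refine seq_lift (isLimitOfPreserves (sectM 𝔛 h U)
    (limit.isLimit (FSch.levelSysOf 𝔛 h 𝔐.F 𝔐.toPush))) a fun n => ?_
  change app ((FSch.levelSysOf 𝔛 h 𝔐.F 𝔐.toPush).map (homOfLE (Nat.le_add_right n 1)).op) U _ = _
  rw [FSch.levelSysOf_map_succ]
  exact ha n

variable {U}

theorem transM_surjective (hM : 𝔐.IsCoh) (hU : IsAffineOpen U) (n : ℕ) :
    Function.Surjective (transM 𝔛 h 𝔐 U n) := by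
  haveI := (h n).1
  intro z
  let W : (𝔛.X (n + 1)).affineOpens := ⟨_, FSchAff.isAffineOpen_lvU 𝔛 h hU (n + 1)⟩
  let j := homOfLE (𝔛.lvU_le h n U)
  haveI : IsIso j := ⟨homOfLE (𝔛.lvU_succ h n U).le, Subsingleton.elim _ _, Subsingleton.elim _ _⟩
  obtain ⟨z₁, hz₁⟩ := (ConcreteCategory.bijective_of_isIso ((𝔐.F n).presheaf.map j.op)).2 z
  obtain ⟨z₂, hz₂⟩ := (ConcreteCategory.bijective_of_isIso ((𝔐.e n).hom.app (𝔛.ι n ⁻¹ᵁ W.1))).2 z₁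
  obtain ⟨y, hy⟩ := pullSect_surjective (𝔛.ι n) (hM (n + 1)).1 W z₂
  exact ⟨y, by rw [transM_apply, ← hz₁, ← hz₂, ← hy]⟩

theorem transM_eq_zero_iff (hM : 𝔐.IsCoh) (hU : IsAffineOpen U) (n : ℕ) (y : MA 𝔛 h 𝔐 U (n + 1)) :
    transM 𝔛 h 𝔐 U n y = 0 ↔ (show Γ(𝔐.F (n + 1), 𝔛.lvU h (n + 1) U) from y) ∈
      (RingHom.ker (transR 𝔛 h U n) • ⊤ : Submodule (RA 𝔛 h U (n + 1)) Γ(𝔐.F (n + 1), 𝔛.lvU h (n + 1) U)) := by
  haveI := (h n).1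
  let W : (𝔛.X (n + 1)).affineOpens := ⟨_, FSchAff.isAffineOpen_lvU 𝔛 h hU (n + 1)⟩
  let j := homOfLE (𝔛.lvU_le h n U)
  haveI : IsIso j := ⟨homOfLE (𝔛.lvU_succ h n U).le, Subsingleton.elim _ _, Subsingleton.elim _ _⟩
  have hk : RingHom.ker (transR 𝔛 h U n) = RingHom.ker ((𝔛.ι n).app W.1).hom := by
    rw [ker_appLE_eq (𝔛.ι n) W.2 (𝔛.lvU_succ h n U).symm |> (fun e => show RingHom.ker (transR 𝔛 h U n) = _ from e),
      Scheme.Hom.ker_apply]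
  rw [hk, ← pullSect_eq_zero_iff (𝔛.ι n) (hM (n + 1)).1 W, transM_apply]
  constructor
  · intro h0
    apply (ConcreteCategory.bijective_of_isIso ((𝔐.e n).hom.app (𝔛.ι n ⁻¹ᵁ W.1))).1
    apply (ConcreteCategory.bijective_of_isIso ((𝔐.F n).presheaf.map j.op)).1
    rw [map_zero, map_zero]
    exact h0
  · intro h0
    exact (congrArg (fun t => (𝔐.F n).presheaf.map j.op ((𝔐.e n).hom.app _ t)) h0).trans
      ((congrArg _ (map_zero _)).trans (map_zero _))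

theorem main_mod (h𝔛 : 𝔛.IsLocNoethFormal) (hM : 𝔐.IsCoh) (hU : IsAffineOpen U) :
    Module.Finite (OA 𝔛 h U) (ML 𝔛 h 𝔐 U) ∧
      (∀ n, Function.Surjective (projM 𝔛 h 𝔐 U n)) ∧
      ∀ n, LinearMap.ker (projM 𝔛 h 𝔐 U n) = JA 𝔛 h U ^ (n + 1) • ⊤ := by
  obtain ⟨hN, hC, hk⟩ := main 𝔛 h h𝔛 hU
  haveI := hC
  have hlim : AdicLim.IsLimit (transM 𝔛 h 𝔐 U) (projM 𝔛 h 𝔐 U) :=
    { comm := fun n => LinearMap.ext (transM_projM 𝔛 h 𝔐 U n)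
      inj := fun x hx => ML_ext 𝔛 h 𝔐 U fun n => (hx n).trans (map_zero _).symm
      lift := fun y hy => ML_lift 𝔛 h 𝔐 U y hy }
  have hsurj := transM_surjective 𝔛 h 𝔐 hM hU
  have hfk : ∀ n, LinearMap.ker (transM 𝔛 h 𝔐 U n) =
      JA 𝔛 h U ^ (n + 1) • (⊤ : Submodule (OA 𝔛 h U) (MA 𝔛 h 𝔐 U (n + 1))) := fun n => by
    letI : Module (RA 𝔛 h U (n + 1)) (MA 𝔛 h 𝔐 U (n + 1)) :=
      inferInstanceAs (Module (RA 𝔛 h U (n + 1)) Γ(𝔐.F (n + 1), 𝔛.lvU h (n + 1) U))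
    haveI : IsScalarTower (OA 𝔛 h U) (RA 𝔛 h U (n + 1)) (MA 𝔛 h 𝔐 U (n + 1)) :=
      IsScalarTower.of_algebraMap_smul fun _ _ => rfl
    have hr : RingHom.ker (transR 𝔛 h U n) =
        (JA 𝔛 h U ^ (n + 1)).map (algebraMap (OA 𝔛 h U) (RA 𝔛 h U (n + 1))) := by
      rw [← hk n]
      ext x
      show transR 𝔛 h U n x = 0 ↔ x ∈ (RingHom.ker (projR 𝔛 h U n)).map (projR 𝔛 h U (n + 1))
      rw [Ideal.mem_map_iff_of_surjective _ (projR_surjective 𝔛 h hU (n + 1))]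
      constructor
      · intro hx
        obtain ⟨y, rfl⟩ := projR_surjective 𝔛 h hU (n + 1) x
        exact ⟨y, by rw [RingHom.mem_ker, ← transR_projR]; exact hx, rfl⟩
      · rintro ⟨y, hy, rfl⟩
        rw [transR_projR]
        exact hy
    refine Submodule.ext fun y => ?_
    rw [LinearMap.mem_ker, transM_eq_zero_iff 𝔛 h 𝔐 hM hU, hr]
    exact (Set.ext_iff.1 (ker_comp_equiv_smul (R := RA 𝔛 h U (n + 1)) (JA 𝔛 h U ^ (n + 1)) _) y).symm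
  haveI : Module.Finite (OA 𝔛 h U) (MA 𝔛 h 𝔐 U 0) := by
    letI : Module (RA 𝔛 h U 0) (MA 𝔛 h 𝔐 U 0) :=
      inferInstanceAs (Module (RA 𝔛 h U 0) Γ(𝔐.F 0, 𝔛.lvU h 0 U))
    haveI : IsScalarTower (OA 𝔛 h U) (RA 𝔛 h U 0) (MA 𝔛 h 𝔐 U 0) :=
      IsScalarTower.of_algebraMap_smul fun _ _ => rfl
    haveI : Module.Finite (OA 𝔛 h U) (RA 𝔛 h U 0) :=
      Module.Finite.of_surjective (Algebra.linearMap (OA 𝔛 h U) (RA 𝔛 h U 0)) (projR_surjective 𝔛 h hU 0)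
    haveI : Module.Finite (RA 𝔛 h U 0) (MA 𝔛 h 𝔐 U 0) :=
      QC.finite_sections (FSchAff.isAffineOpen_lvU 𝔛 h hU 0) (hM := (hM 0).1) (hM 0).2
    exact Module.Finite.trans (RA 𝔛 h U 0) _
  obtain ⟨hf, hker⟩ := hlim.finite_and_ker_eq (JA 𝔛 h U) hsurj hfk
  exact ⟨hf, hlim.surjective hsurj, hker⟩

theorem realProj_app_surjective (h𝔛 : 𝔛.IsLocNoethFormal) (hM : 𝔐.IsCoh) (hU : IsAffineOpen U) (n : ℕ) :
    Function.Surjective (app (FSch.realProj 𝔛 h 𝔐.F 𝔐.toPush n) U) :=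
  (main_mod 𝔛 h 𝔐 h𝔛 hM hU).2.1 n

end Groth.Agent.FSchCoh
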