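import Groth.Prelude.Def_FSch5
import Groth.Agent.QC.PullSect
import Groth.Agent.FSchCoh.Level
import Groth.Agent.S3854

/-!
# Sections of the completion of a coherent module over affine opens
-/

universe u

open CategoryTheory CategoryTheory.Limits AlgebraicGeometry TopologicalSpace Opposite

set_option autoImplicit false
set_option backward.isDefEq.respectTransparency false
set_option linter.style.haveILetI false

noncomputable section

namespace Groth.Agent.FSchCoh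

theorem map_map' {M : AlgebraicGeometry.Scheme.{u}} (N : M.Modules) {A B C : M.Opens} (h₁ : B ≤ A) (h₂ : C ≤ B) (x : Γ(N, A)) :
    N.presheaf.map (homOfLE h₂).op (N.presheaf.map (homOfLE h₁).op x) = N.presheaf.map (homOfLE (h₂.trans h₁)).op x := by
  rw [← ConcreteCategory.comp_apply, ← Functor.map_comp]
  rfl

theorem pullSect_comp {Z Y X : Scheme.{u}} (i : Z ⟶ Y) (g : Y ⟶ X) (f : Z ⟶ X) (e : i ≫ g = f) (F : X.Modules)
    (W : X.Opens) (V : Y.Opens) (hV : V ≤ g ⁻¹ᵁ W) (T : Z.Opens) (hT : T ≤ i ⁻¹ᵁ V) (hT' : T ≤ f ⁻¹ᵁ W) (m : Γ(F, W)) :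
    ((Scheme.Modules.pullback f).obj F).presheaf.map (homOfLE hT).op
      (((Scheme.Modules.pullbackComp i g ≪≫ Scheme.Modules.pullbackCongr e).hom.app F).app (i ⁻¹ᵁ V)
        (OmegaSh.pullSect i _ V (((Scheme.Modules.pullback g).obj F).presheaf.map (homOfLE hV).op
          (OmegaSh.pullSect g F W m)))) =
      ((Scheme.Modules.pullback f).obj F).presheaf.map (homOfLE hT').op (OmegaSh.pullSect f F W m) := by
  subst e
  have hid : (Scheme.Modules.pullbackComp i g ≪≫ Scheme.Modules.pullbackCongr rfl).hom =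
      (Scheme.Modules.pullbackComp i g).hom := by simp [Scheme.Modules.pullbackCongr]
  rw [hid, OmegaSh.pullSect_map]
  have h1 := congr($((Scheme.Modules.Hom.mapPresheaf ((Scheme.Modules.pullbackComp i g).hom.app F)).naturality
    (homOfLE (i.preimage_mono hV)).op) (OmegaSh.pullSect i _ (g ⁻¹ᵁ W) (OmegaSh.pullSect g F W m)))
  refine (congrArg _ h1).trans ?_
  refine (map_map' _ _ hT _).trans ?_
  exact congrArg _ (QC.pullbackComp_hom_pullSect i g F W m)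

section Gen

variable {X : Scheme.{u}} (𝔛 : FSch.Sys.{u}) (g : ∀ n, 𝔛.X n ⟶ X) (hg : ∀ n, 𝔛.ι n ≫ g (n + 1) = g n)

/-- the system of inverse images of a module along a cone of the system -/
def gMod (F : X.Modules) : FSch.ModSys 𝔛 where
  F n := (Scheme.Modules.pullback (g n)).obj F
  e n := (Scheme.Modules.pullbackComp (𝔛.ι n) (g (n + 1)) ≪≫ Scheme.Modules.pullbackCongr (hg n)).app F

include hg in
theorem toX_g : ∀ n, 𝔛.toX n ≫ g n = g 0
  | 0 => Category.id_comp _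
  | n + 1 => by
    show (𝔛.toX n ≫ 𝔛.ι n) ≫ g (n + 1) = _
    rw [Category.assoc, hg n]
    exact toX_g n

variable (h : 𝔛.IsFormal) (F : X.Modules) (W : X.Opens)

include hg in
theorem lvU_g (n : ℕ) : 𝔛.lvU h n (g 0 ⁻¹ᵁ W) = g n ⁻¹ᵁ W := by
  ext x
  show (g 0).base (𝔛.gInv h n x) ∈ W ↔ (g n).base x ∈ W
  rw [← toX_g 𝔛 g hg n]
  show (g n).base ((𝔛.toX n).base (𝔛.gInv h n x)) ∈ W ↔ _
  rw [show (𝔛.toX n).base (𝔛.gInv h n x) = x from ConcreteCategory.congr_hom (𝔛.gInv_toX_base h n) x]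

/-- the image of a section in a level -/
def gS (n : ℕ) (m : Γ(F, W)) : MA 𝔛 h (gMod 𝔛 g hg F) (g 0 ⁻¹ᵁ W) n :=
  ((Scheme.Modules.pullback (g n)).obj F).presheaf.map
    (homOfLE (lvU_g 𝔛 g hg h W n).le).op (OmegaSh.pullSect (g n) F W m)

theorem gS_add (n : ℕ) (a b : Γ(F, W)) :
    gS 𝔛 g hg h F W n (a + b) = gS 𝔛 g hg h F W n a + gS 𝔛 g hg h F W n b :=
  (congrArg _ (map_add (ConcreteCategory.hom
    (((Scheme.Modules.pullbackPushforwardAdjunction (g n)).unit.app F).app W)) a b)).trans (map_add _ _ _)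

theorem gS_sub (n : ℕ) (a b : Γ(F, W)) :
    gS 𝔛 g hg h F W n (a - b) = gS 𝔛 g hg h F W n a - gS 𝔛 g hg h F W n b :=
  eq_sub_of_add_eq (by rw [← gS_add, sub_add_cancel])

theorem gS_trans (n : ℕ) (m : Γ(F, W)) :
    transM 𝔛 h (gMod 𝔛 g hg F) (g 0 ⁻¹ᵁ W) n (gS 𝔛 g hg h F W (n + 1) m) = gS 𝔛 g hg h F W n m := by
  rw [transM_apply]
  exact pullSect_comp (𝔛.ι n) (g (n + 1)) (g n) (hg n) F W (𝔛.lvU h (n + 1) (g 0 ⁻¹ᵁ W))
    (lvU_g 𝔛 g hg h W (n + 1)).le (𝔛.lvU h n (g 0 ⁻¹ᵁ W)) (𝔛.lvU_le h n (g 0 ⁻¹ᵁ W)) (lvU_g 𝔛 g hg h W n).le m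

theorem gS_app {G : X.Modules} (φ : F ⟶ G) (n : ℕ) (m : Γ(F, W)) :
    ((Scheme.Modules.pullback (g n)).map φ).app _ (gS 𝔛 g hg h F W n m) = gS 𝔛 g hg h G W n (φ.app W m) := by
  have h1 := congr($((Scheme.Modules.Hom.mapPresheaf ((Scheme.Modules.pullback (g n)).map φ)).naturality
      (homOfLE (lvU_g 𝔛 g hg h W n).le).op) (OmegaSh.pullSect (g n) F W m))
  exact h1.trans (congrArg _ (QC.app_pullSect _ φ W m))

theorem gS_surjective [∀ n, IsClosedImmersion (g n)] (hF : Coh.IsQCoh F) (hW : IsAffineOpen W) (n : ℕ) :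
    Function.Surjective (gS 𝔛 g hg h F W n) := by
  intro z
  let j := homOfLE (lvU_g 𝔛 g hg h W n).le
  haveI : IsIso j := ⟨homOfLE (lvU_g 𝔛 g hg h W n).ge, Subsingleton.elim _ _, Subsingleton.elim _ _⟩
  obtain ⟨z₁, rfl⟩ := (ConcreteCategory.bijective_of_isIso
    (((Scheme.Modules.pullback (g n)).obj F).presheaf.map j.op)).2 z
  obtain ⟨m, rfl⟩ := pullSect_surjective (g n) hF ⟨W, hW⟩ z₁
  exact ⟨m, rfl⟩

theorem gS_eq_zero_iff [∀ n, IsClosedImmersion (g n)] (hF : Coh.IsQCoh F) (hW : IsAffineOpen W) (n : ℕ)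
    (m : Γ(F, W)) :
    gS 𝔛 g hg h F W n m = 0 ↔ m ∈ (RingHom.ker ((g n).app W).hom • ⊤ : Submodule Γ(X, W) Γ(F, W)) := by
  let j := homOfLE (lvU_g 𝔛 g hg h W n).le
  haveI : IsIso j := ⟨homOfLE (lvU_g 𝔛 g hg h W n).ge, Subsingleton.elim _ _, Subsingleton.elim _ _⟩
  have hb := (ConcreteCategory.bijective_of_isIso
    (((Scheme.Modules.pullback (g n)).obj F).presheaf.map j.op)).1
  refine (⟨fun h0 => hb (h0.trans (map_zero _).symm), fun h0 => ?_⟩ :
    gS 𝔛 g hg h F W n m = 0 ↔ OmegaSh.pullSect (g n) F W m = 0).trans (pullSect_eq_zero_iff (g n) hF ⟨W, hW⟩ m)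
  exact (congrArg _ h0).trans (map_zero _)

theorem isBasis_g [IsClosedImmersion (g 0)] :
    Opens.IsBasis {U : Opens (𝔛.X 0) | ∃ W, IsAffineOpen W ∧ U = g 0 ⁻¹ᵁ W} := by
  rw [Opens.isBasis_iff_nbhd]
  intro U x hx
  obtain ⟨V', hV', e⟩ := (g 0).isEmbedding.isInducing.isOpen_iff.1 U.isOpen
  have hx' : (g 0).base x ∈ (⟨V', hV'⟩ : X.Opens) := by
    show x ∈ (g 0).base ⁻¹' V'
    rw [e]; exact hx
  obtain ⟨W, hW, hxW, hle⟩ := exists_isAffineOpen_mem_and_subset hx'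
  refine ⟨g 0 ⁻¹ᵁ W, ⟨W, hW, rfl⟩, hxW, fun y hy => ?_⟩
  show y ∈ (U : Set _)
  rw [← e]
  exact hle hy

end Gen

variable {X : Scheme.{u}} (𝓘 : X.IdealSheafData)

theorem completion_hg (n : ℕ) :
    (FSch.completionAlong X 𝓘).ι n ≫ FSch.completionToX X 𝓘 (n + 1) = FSch.completionToX X 𝓘 n :=
  Scheme.IdealSheafData.inclusion_subschemeι _

theorem complMod_eq (F : X.Modules) :
    FSch.complMod 𝓘 F = gMod (FSch.completionAlong X 𝓘) (FSch.completionToX X 𝓘) (completion_hg 𝓘) F :=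
  rfl

theorem ker_completionToX {W : X.Opens} (hW : IsAffineOpen W) (n : ℕ) :
    RingHom.ker ((FSch.completionToX X 𝓘 n).app W).hom = (𝓘.ideal ⟨W, hW⟩) ^ (n + 1) := by
  have h1 := Scheme.Hom.ker_apply (FSch.completionToX X 𝓘 n) ⟨W, hW⟩
  rw [Scheme.IdealSheafData.ker_subschemeι, Scheme.IdealSheafData.ideal_pow, Pi.pow_apply] at h1
  exact h1.symm

end Groth.Agent.FSchCoh
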