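import Groth.Agent.FSchCoh.LimCoh

/-!
# Colimits of unions of coherent modules
-/

universe u

open CategoryTheory CategoryTheory.Limits AlgebraicGeometry TopologicalSpace Opposite
open Groth.Agent.RSFin (sc rsR Gen Rel spanOn leg)
open Groth.Agent.FSchCoh.LimGen (JointSurj)

set_option autoImplicit false
set_option backward.isDefEq.respectTransparency false
set_option linter.style.haveILetI false

noncomputable section

namespace Groth.Agent.FSchCoh

variable {𝔛 : FSch.Sys.{u}} {h𝔛 : 𝔛.IsLocNoethFormal}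

/-- relations killed by several maps into good modules are finitely generated -/
theorem exists_rel_maps {U : (𝔛.X 0).Opens} (hU : IsAffineOpen U) {ι : Type} [Fintype ι] [DecidableEq ι] :
    ∀ {n : ℕ} (N : Fin n → FSch.ModF 𝔛 h𝔛.1) (_ : ∀ a, Good h𝔛 (N a)) (v : ∀ a, ι → ModSite.sect (N a) U),
      ∃ (κ : Type) (_ : Fintype κ) (e : κ → ι → sc (𝔛.Osh h𝔛.1) U), (∀ k a, ∑ j, e k j • v a j = 0) ∧
        ∀ ⦃V : (𝔛.X 0).Opens⦄ (h : V ≤ U) (d : ι → sc (𝔛.Osh h𝔛.1) V),
          (∀ a, ∑ j, d j • RSFin.rs (N a) h (v a j) = 0) → ∀ y ∈ V, ∃ (W : (𝔛.X 0).Opens) (hW : W ≤ V), y ∈ W ∧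
            ∃ f : κ → sc (𝔛.Osh h𝔛.1) W, ∀ j, ∑ k, f k * rsR (hW.trans h) (e k j) = rsR hW (d j)
  | 0, N, _, v => by
    refine ⟨ι, inferInstance, fun k => Pi.single k 1, fun k a => a.elim0, fun V h d _ y hy =>
      ⟨V, le_rfl, hy, d, fun j => ?_⟩⟩
    rw [RSFin.rsR_self, Finset.sum_eq_single j (fun k _ hk => by simp [Ne.symm hk]) (by simp)]
    simp
  | q + 1, N, hN, v => by
    obtain ⟨κ, hκ, e, he, hgen⟩ := exists_rel_maps hU (fun a : Fin q => N a.succ) (fun a => hN a.succ) fun a => v a.succ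
    obtain ⟨lam, hlam, r, hr⟩ := hN 0 hU fun k => ∑ j, e k j • v 0 j
    refine ⟨lam, hlam, fun l j => ∑ k, r l k * e k j, fun l a => ?_, fun V h d hd y hy => ?_⟩
    · simp only [Finset.sum_smul, mul_smul]
      rw [Finset.sum_comm]
      simp only [← Finset.smul_sum]
      induction a using Fin.cases with
      | zero => exact hr.1 l
      | succ a => simp [he _ a]
    · obtain ⟨W, hW, hyW, f, hf⟩ := hgen h d (fun a => hd a.succ) y hy
      have hf0 : ∑ k, f k • RSFin.rs (N 0) (hW.trans h) (∑ j, e k j • v 0 j) = 0 := by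
        simp only [map_sum, RSFin.rs_smul, Finset.smul_sum, smul_smul]
        rw [Finset.sum_comm]
        simp only [← Finset.sum_smul, hf]
        have := congrArg (RSFin.rs (N 0) hW) (hd 0)
        simpa only [map_sum, RSFin.rs_smul, RSFin.rs_rs, map_zero] using this
      obtain ⟨W', hW', hyW', hm⟩ := hr.2 (hW.trans h) f hf0 y hyW
      obtain ⟨g, hg⟩ := (Submodule.mem_span_range_iff_exists_fun _).1 hm
      refine ⟨W', hW'.trans hW, hyW', g, fun j => ?_⟩
      rw [← RSFin.rsR_rsR hW' hW, ← hf j]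
      simp only [map_sum, map_mul, RSFin.rsR_rsR, Finset.mul_sum, ← mul_assoc]
      rw [Finset.sum_comm]
      simp only [← Finset.sum_mul]
      refine Finset.sum_congr rfl fun k _ => congrArg (· * _) ?_
      have := congrFun hg k
      simpa only [Finset.sum_apply, Pi.smul_apply, smul_eq_mul] using this

/-- the coordinate of a coproduct -/
def sigmaPr {h : 𝔛.IsFormal} {J : Type u} [DecidableEq J] (D : J → FSch.ModF 𝔛 h) (j : J) : (∐ D) ⟶ D j :=
  Sigma.desc fun i => if e : i = j then eqToHom (congrArg D e) else 0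

theorem sum_sigmaPr {h : 𝔛.IsFormal} {J : Type u} [DecidableEq J] (D : J → FSch.ModF 𝔛 h) (T : Finset J) {i : J}
    (hi : i ∈ T) {U : (𝔛.X 0).Opens} (x : ModSite.sect (D i) U) :
    ∑ j ∈ T, RSFin.ap (sigmaPr D j ≫ Sigma.ι D j) U (RSFin.ap (Sigma.ι D i) U x) = RSFin.ap (Sigma.ι D i) U x := by
  rw [Finset.sum_eq_single i ?_ (fun h => absurd hi h)]
  · rw [← RSFin.ap_comp, sigmaPr, Sigma.ι_desc_assoc, dif_pos rfl, eqToHom_refl, Category.id_comp]
  · intro j _ hj
    rw [← RSFin.ap_comp, sigmaPr, Sigma.ι_desc_assoc, dif_neg (Ne.symm hj), zero_comp]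
    exact RSFin.ap_zero _ _

/-- unions of coherent submodules are closed under direct sums -/
theorem limPres_sigma {J : Type u} (D : J → FSch.ModF 𝔛 h𝔛.1) (hD : ∀ j, LimPres h𝔛 (D j)) : LimPres h𝔛 (∐ D) := by
  classical
  choose A G f hG hs hrel using fun j => (hD j).exists_cover
  refine limPres_of_cover h𝔛 (fun m : Σ j, A j => f m.1 m.2 ≫ Sigma.ι D m.1) (fun m => hG m.1 m.2) ?_ ?_
  · intro V t x hx
    obtain ⟨W₁, hW₁, L, _, a, g, hxW₁, hg⟩ := jointSurj_sigma D t x hx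
    choose W hW L' hL' a' g' hxW hg' using fun l => hs (a l) (g l) x hxW₁
    obtain ⟨W₂, hW₂, hxW₂, hle⟩ := RSFin.exists_common hxW₁ (fun l W' _ => W' ≤ W l)
      (fun l W' W'' _ h' hle => h'.trans hle) (fun l => ⟨W l, hW l, hxW l, le_rfl⟩)
    haveI := hL'
    refine ⟨W₂, hW₂.trans hW₁, Σ l, L' l, inferInstance, fun m => ⟨a m.1, a' m.1 m.2⟩,
      fun m => RSFin.rs (G (a m.1) (a' m.1 m.2)) (hle m.1) (g' m.1 m.2), hxW₂, ?_⟩
    rw [Fintype.sum_sigma, ← RSFin.rs_rs _ hW₂ hW₁, ← hg, map_sum]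
    refine Finset.sum_congr (by ext; simp) fun l _ => ?_
    rw [← RSFin.ap_rs, ← RSFin.rs_rs _ (hle l) (hW l), ← hg' l, map_sum, map_sum]
    refine Finset.sum_congr (by ext; simp) fun m _ => ?_
    rw [RSFin.ap_comp, RSFin.ap_rs]
  · intro U hU ι _ a g
    let T : Finset J := Finset.univ.image fun k => (a k).1
    let q : ι → ModSite.sect (∐ D) U := fun k => RSFin.ap (f (a k).1 (a k).2 ≫ Sigma.ι D (a k).1) U (g k)
    let τ : Fin T.card → J := fun m => T.equivFin.symm m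
    obtain ⟨κ, hκ, e, he, hgen⟩ := exists_rel_maps hU (fun m => D (τ m)) (fun m => (hD _).good)
      (fun m k => RSFin.ap (sigmaPr D (τ m)) U (q k))
    have hid : ∀ k, ∑ m, RSFin.ap (sigmaPr D (τ m) ≫ Sigma.ι D (τ m)) U (q k) = q k := fun k => by
      have h := sum_sigmaPr D T (Finset.mem_image_of_mem (fun k => (a k).1) (Finset.mem_univ k))
        (RSFin.ap (f (a k).1 (a k).2) U (g k))
      rw [← RSFin.ap_comp] at h
      refine Eq.trans ?_ h
      exact (T.equivFin.symm.sum_comp fun j : T => RSFin.ap (sigmaPr D j.1 ≫ Sigma.ι D j.1) U (q k)).trans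
        (Finset.sum_coe_sort T fun j => RSFin.ap (sigmaPr D j ≫ Sigma.ι D j) U (q k))
    refine ⟨κ, hκ, e, fun l => ?_, fun V h c hc y hy => ?_⟩
    · show ∑ k, e l k • q k = 0
      refine Eq.trans (Finset.sum_congr rfl fun k _ => congrArg (e l k • ·) (hid k).symm) ?_
      simp only [Finset.smul_sum, RSFin.ap_comp]
      rw [Finset.sum_comm]
      refine Finset.sum_eq_zero fun m _ => ?_
      refine Eq.trans ?_ ((congrArg (RSFin.ap (Sigma.ι D (τ m)) U) (he l m)).trans (map_zero _))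
      rw [map_sum]
      exact Finset.sum_congr rfl fun k _ => (map_smul _ _ _).symm
    · obtain ⟨W, hW, hyW, d, hd⟩ := hgen h c (fun m => by
        have := congrArg (RSFin.ap (sigmaPr D (τ m)) V) hc
        rw [map_sum, map_zero] at this
        refine Eq.trans (Finset.sum_congr rfl fun k _ => ?_) this
        rw [map_smul, RSFin.ap_rs]) y hy
      refine ⟨W, hW, hyW, (Submodule.mem_span_range_iff_exists_fun _).2 ⟨d, funext fun i => ?_⟩⟩
      simpa only [Finset.sum_apply, Pi.smul_apply, smul_eq_mul] using hd i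

theorem exists_fin_comb {F : FSch.ModF 𝔛 h𝔛.1} {U : (𝔛.X 0).Opens} (hgen : Gen F fun z : ModSite.sect F U => z)
    {V : (𝔛.X 0).Opens} (h : V ≤ U) (t : ModSite.sect F V) {y : 𝔛.X 0} (hy : y ∈ V) :
    ∃ (W : (𝔛.X 0).Opens) (hW : W ≤ V) (L : ℕ) (e : Fin L → ModSite.sect F U) (d : Fin L → sc (𝔛.Osh h𝔛.1) W),
      y ∈ W ∧ ∑ l, d l • RSFin.rs F (hW.trans h) (e l) = RSFin.rs F hW t := by
  obtain ⟨W, hW, hyW, hm⟩ := hgen h t y hy
  obtain ⟨c, hc⟩ := Finsupp.mem_span_range_iff_exists_finsupp.1 hm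
  refine ⟨W, hW, c.support.card, fun l => c.support.equivFin.symm l, fun l => c (c.support.equivFin.symm l), hyW, ?_⟩
  rw [← hc, Finsupp.sum]
  exact (c.support.equivFin.symm.sum_comp fun i : c.support => c i • RSFin.rs F (hW.trans h) (i : ModSite.sect F U)).trans
    (Finset.sum_coe_sort c.support fun i => c i • RSFin.rs F (hW.trans h) i)

theorem sum_elim_rel {R P : FSch.ModF 𝔛 h𝔛.1} (φ : R ⟶ P) {U V W₁ W₂ : (𝔛.X 0).Opens} (h : V ≤ U) (hW₁ : W₁ ≤ V)
    (hW₂ : W₂ ≤ W₁) {ι : Type} [Fintype ι] (p : ι → ModSite.sect P U) (c : ι → sc (𝔛.Osh h𝔛.1) V)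
    (z : ModSite.sect R W₁) (hz : RSFin.ap φ W₁ z = RSFin.rs P hW₁ (∑ k, c k • RSFin.rs P h (p k)))
    {L : ℕ} (e : Fin L → ModSite.sect R U) (d : Fin L → sc (𝔛.Osh h𝔛.1) W₂)
    (hd : ∑ l, d l • RSFin.rs R ((hW₂.trans hW₁).trans h) (e l) = RSFin.rs R hW₂ z) :
    ∑ i, Sum.elim (fun k => rsR (hW₂.trans hW₁) (c k)) (fun l => -d l) i •
      RSFin.rs P ((hW₂.trans hW₁).trans h) (Sum.elim p (fun l => RSFin.ap φ U (e l)) i) = 0 := by
  have h2 : ∑ l, d l • RSFin.rs P ((hW₂.trans hW₁).trans h) (RSFin.ap φ U (e l)) =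
      ∑ k, rsR (hW₂.trans hW₁) (c k) • RSFin.rs P ((hW₂.trans hW₁).trans h) (p k) := by
    have h3 := congrArg (RSFin.ap φ W₂) hd
    rw [map_sum, RSFin.ap_rs, hz, RSFin.rs_rs, map_sum] at h3
    simpa only [map_smul, RSFin.ap_rs, RSFin.rs_smul, RSFin.rs_rs] using h3
  rw [Fintype.sum_sum_type]
  simp only [Sum.elim_inl, Sum.elim_inr, neg_smul, Finset.sum_neg_distrib]
  rw [h2]
  exact add_neg_cancel _

/-- unions of coherent submodules are closed under cokernels -/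
theorem limPres_cokernel {R P : FSch.ModF 𝔛 h𝔛.1} (φ : R ⟶ P) (hR : LimPres h𝔛 R) (hP : LimPres h𝔛 P) :
    LimPres h𝔛 (cokernel φ) := by
  obtain ⟨A, G, f, hG, hs, -⟩ := hP.exists_cover
  refine limPres_of_cover h𝔛 (fun a => f a ≫ cokernel.π φ) hG (jointSurj_comp hs (cokernel.π φ)) fun U hU ι _ a g => ?_
  let p : ι → ModSite.sect P U := fun k => RSFin.ap (f (a k)) U (g k)
  choose κ hκ r hr using fun m : Σ L : ℕ, Fin L → ModSite.sect R U =>
    hP.good hU (Sum.elim p fun l => RSFin.ap φ U (m.2 l))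
  haveI := hκ
  have hzero : ∀ {V : (𝔛.X 0).Opens} (z : ModSite.sect R V), RSFin.ap (cokernel.π φ) V (RSFin.ap φ V z) = 0 :=
    fun z => by rw [← RSFin.ap_comp, cokernel.condition]; exact RSFin.ap_zero _ _
  refine exists_rel_of_family h𝔛 hU _ (fun l : Σ m, κ m => fun k => r l.1 l.2 (Sum.inl k)) (fun l => ?_)
    fun V h c hc y hy => ?_
  · have := congrArg (RSFin.ap (cokernel.π φ) U) ((hr l.1).1 l.2)
    rw [Fintype.sum_sum_type, map_add, map_sum, map_sum, map_zero] at this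
    simp only [map_smul, Sum.elim_inl, Sum.elim_inr, hzero, smul_zero, Finset.sum_const_zero, add_zero] at this
    simpa only [p, RSFin.ap_comp] using this
  · have h0 : RSFin.ap (cokernel.π φ) V (∑ k, c k • RSFin.rs P h (p k)) = 0 := by
      rw [map_sum]
      refine Eq.trans (Finset.sum_congr rfl fun k _ => ?_) hc
      rw [map_smul, RSFin.ap_rs, ← RSFin.ap_comp]
    obtain ⟨W₁, hW₁, z, hyW₁, hz⟩ := LimGen.cokernel_locally φ _ h0 hy
    obtain ⟨W₂, hW₂, L, e, d, hyW₂, hd⟩ := exists_fin_comb (h𝔛 := h𝔛) (hR.gen_sections hU) (hW₁.trans h) z hyW₁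
    let cc : ι ⊕ Fin L → sc (𝔛.Osh h𝔛.1) W₂ := Sum.elim (fun k => rsR (hW₂.trans hW₁) (c k)) fun l => -d l
    obtain ⟨W, hW, hyW, hm⟩ := (hr ⟨L, e⟩).2 (V := W₂) ((hW₂.trans hW₁).trans h) cc
      (sum_elim_rel (h𝔛 := h𝔛) φ h hW₁ hW₂ p c z hz e d hd) y hyW₂
    obtain ⟨x, hx⟩ := (Submodule.mem_span_range_iff_exists_fun _).1 hm
    refine ⟨W, hW.trans (hW₂.trans hW₁), hyW, ?_⟩
    have : (fun k => rsR (hW.trans (hW₂.trans hW₁)) (c k)) =
        ∑ l, x l • fun k => rsR (hW.trans ((hW₂.trans hW₁).trans h)) (r ⟨L, e⟩ l (Sum.inl k)) := funext fun k => by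
      have := congrFun hx (Sum.inl k)
      simp only [cc, Finset.sum_apply, Pi.smul_apply, smul_eq_mul, Sum.elim_inl, RSFin.rsR_rsR] at this ⊢
      exact this.symm
    rw [this]
    exact Submodule.sum_mem _ fun l _ => Submodule.smul_mem _ _ (Submodule.subset_span ⟨⟨⟨L, e⟩, l⟩, rfl⟩)

theorem limPres_of_iso {F G : FSch.ModF 𝔛 h𝔛.1} (e : F ≅ G) (hF : LimPres h𝔛 F) : LimPres h𝔛 G := by
  obtain ⟨J, i₁, i₂, P, hP, hm⟩ := hF
  exact ⟨J, i₁, i₂, P.ofIso e, hP, fun j => by haveI := hm j; exact mono_comp (P.ι.app j) e.hom⟩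

/-- unions of coherent submodules are closed under colimits -/
theorem limPres_of_colimit {J : Type u} [SmallCategory J] {Q : FSch.ModF 𝔛 h𝔛.1} (P : ColimitPresentation J Q)
    (hP : ∀ j, LimPres h𝔛 (P.diag.obj j)) : LimPres h𝔛 Q := by
  let src : (Σ i j : J, i ⟶ j) → FSch.ModF 𝔛 h𝔛.1 := fun m => P.diag.obj m.1
  let δ : ∐ src ⟶ ∐ P.diag.obj := Sigma.desc fun m =>
    Sigma.ι P.diag.obj m.1 - P.diag.map m.2.2 ≫ Sigma.ι P.diag.obj m.2.1
  let π : ∐ P.diag.obj ⟶ Q := Sigma.desc fun j => P.ι.app j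
  have hπ : δ ≫ π = 0 := Sigma.hom_ext _ _ fun m => by simp [δ, π, src]
  let c : Cocone P.diag :=
    { pt := cokernel δ
      ι :=
        { app := fun j => Sigma.ι P.diag.obj j ≫ cokernel.π δ
          naturality := fun i j u => by
            have := congrArg (fun t => Sigma.ι src ⟨i, j, u⟩ ≫ t) (cokernel.condition δ)
            simp only [δ, Sigma.ι_desc_assoc, comp_zero, Preadditive.sub_comp, Category.assoc, sub_eq_zero] at this
            simpa using this.symm } }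
  have hfac : ∀ j, P.ι.app j ≫ P.isColimit.desc c = Sigma.ι P.diag.obj j ≫ cokernel.π δ := fun j => P.isColimit.fac c j
  let e : cokernel δ ≅ Q :=
    { hom := cokernel.desc δ π hπ
      inv := P.isColimit.desc c
      hom_inv_id := (cancel_epi (cokernel.π δ)).1 (Sigma.hom_ext _ _ fun j => by simp [π, hfac])
      inv_hom_id := P.isColimit.hom_ext fun j => by
        show P.ι.app j ≫ _ = P.ι.app j ≫ _
        rw [← Category.assoc, hfac]
        simp [π] }
  exact limPres_of_iso e (limPres_cokernel δ (limPres_sigma src fun m => hP m.1) (limPres_sigma P.diag.obj hP))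

end Groth.Agent.FSchCoh
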