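import Groth.Agent.FSchCoh.PushColim
import Groth.Agent.DQPush.Coprod
import Groth.Agent.S17026

/-!
# Derived direct images on formal schemes commute with coproducts
-/

universe u

open CategoryTheory CategoryTheory.Limits AlgebraicGeometry TopologicalSpace Opposite

set_option autoImplicit false
set_option backward.isDefEq.respectTransparency false
set_option backward.isDefEq.respectTransparency.types false
set_option linter.style.haveILetI false

attribute [local instance] HasDerivedCategory.standard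

noncomputable section

namespace Groth.Agent.FSchCoh

section Generic

variable {A : Type (u + 1)} [Category.{u} A] [Abelian A] [IsGrothendieckAbelian.{u} A] {ι : Type u}

theorem exists_coprod_cofan (K : ι → DerivedCategory A) (C : ι → CochainComplex A ℤ)
    (e : ∀ t, DerivedCategory.Q.obj (C t) ≅ K t) :
    Nonempty (IsColimit (Cofan.mk (DerivedCategory.Q.obj (∐ C)) fun t => (e t).inv ≫ DerivedCategory.Q.map (Sigma.ι C t))) := by
  obtain ⟨h⟩ := DQCoh.nonempty_isColimit_Q_coprod BrownDerived.hKinj C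
  exact ⟨Cofan.IsColimit.mk _ (fun s => Cofan.IsColimit.desc h fun t => (e t).hom ≫ s.inj t)
    (fun s t => by
      change ((e t).inv ≫ DerivedCategory.Q.map (Sigma.ι C t)) ≫ _ = _
      rw [Category.assoc]
      exact (congrArg ((e t).inv ≫ ·) (Cofan.IsColimit.fac h _ t)).trans (Iso.inv_hom_id_assoc _ _))
    fun s m hm => Cofan.IsColimit.hom_ext h _ _ fun t => by
      refine Eq.trans ?_ (Cofan.IsColimit.fac h _ t).symm
      rw [← hm t]
      exact ((Iso.hom_inv_id_assoc (e t) _).symm).trans (congrArg ((e t).hom ≫ ·) (Category.assoc _ _ _).symm)⟩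

theorem hasCoproducts_D (ι : Type u) : HasColimitsOfShape (Discrete ι) (DerivedCategory A) := by
  refine ⟨fun K => ?_⟩
  obtain ⟨h⟩ := exists_coprod_cofan (fun t => K.obj ⟨t⟩)
    (fun t => DerivedCategory.Q.objPreimage (K.obj ⟨t⟩)) fun t => DerivedCategory.Q.objObjPreimageIso _
  haveI : HasColimit (Discrete.functor fun t => K.obj ⟨t⟩) := ⟨⟨_, h⟩⟩
  exact hasColimit_of_iso (Discrete.natIso fun _ => Iso.refl _ : K ≅ Discrete.functor fun t => K.obj ⟨t⟩)

theorem preservesCoproducts_HD (ι : Type u) (i : ℤ) :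
    PreservesColimitsOfShape (Discrete ι) (DerivedCategory.homologyFunctor A i) := by
  refine ⟨fun {K} => ?_⟩
  haveI : HasExactColimitsOfShape (Discrete ι) A := inferInstance
  haveI := DQPush.preservesColimitsOfShape_homology (A := A) (J := Discrete ι) (ComplexShape.up ℤ) i
  let C := fun t => (DerivedCategory.Q (C := A)).objPreimage (K.obj ⟨t⟩)
  obtain ⟨hQ⟩ := DQCoh.nonempty_isColimit_Q_coprod BrownDerived.hKinj C
  let e : K ≅ Discrete.functor fun t => DerivedCategory.Q.obj (C t) :=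
    Discrete.natIso fun t => ((DerivedCategory.Q (C := A)).objObjPreimageIso (K.obj t)).symm
  have h' := isColimitCofanMkObjOfIsColimit (HomologicalComplex.homologyFunctor A (ComplexShape.up ℤ) i) C _
    (coproductIsCoproduct C)
  let F := DerivedCategory.homologyFunctorFactors A i
  haveI : PreservesColimit (Discrete.functor fun t => DerivedCategory.Q.obj (C t))
      (DerivedCategory.homologyFunctor A i) := by
    refine preservesColimit_of_preserves_colimit_cocone hQ ((IsColimit.precomposeHomEquiv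
      (Discrete.natIso fun t => (F.app (C t.as)).symm :
        Discrete.functor (fun t => (C t).homology i) ≅
          (Discrete.functor fun t => DerivedCategory.Q.obj (C t)) ⋙ DerivedCategory.homologyFunctor A i) _).1 ?_)
    refine IsColimit.ofIsoColimit h' (Cocone.ext (F.app (∐ C)).symm fun t => ?_)
    exact F.inv.naturality (Sigma.ι C t.as)
  exact preservesColimit_of_iso_diagram _ e.symm

end Generic

section Site

variable {C : Type u} [SmallCategory C] {J : GrothendieckTopology C} {D : Type u} [SmallCategory D]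
  {K : GrothendieckTopology D} {O_C : Sheaf J CommRingCat.{u}} {O_D : Sheaf K CommRingCat.{u}}
  (F : ModSite.RMor O_C O_D) [SiteCmp.HasRpushD F]

theorem isIso_H_rpush_of_bijective {A B : DerivedCategory (ModSite.Mod O_C)} (φ : A ⟶ B) (j : ℤ)
    (hd : ∀ V : D, ∃ (κ : Type u) (Z : κ → D) (g : ∀ s, Z s ⟶ V), Sieve.ofArrows Z g ∈ K V ∧
      ∀ s, Function.Bijective (fun w : (HDU.modData O_C).HG A j (F.fn.obj (Z s)) => w ≫ φ⟦j⟧')) :
    IsIso ((DerivedCategory.homologyFunctor (ModSite.Mod O_D) j).map ((SiteCmp.RpushD F).map φ)) := by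
  haveI : IsGrothendieckAbelian.{u} (ModSite.Mod O_D) := KFlat.isGrothendieck _
  let S := HDU.modData O_D
  let R := SiteCmp.RpushD F
  refine S.isIso_homology_of_locally_bijective (R.map φ) j (fun V x hx => ?_) fun V y => ?_
  · obtain ⟨κ, Z, g, hcov, hb'⟩ := hd V
    refine ⟨_, hcov, fun W a ha => ?_⟩
    obtain ⟨_, b, _, ⟨s⟩, rfl⟩ := ha
    have hb := hb' s
    obtain ⟨w, hw⟩ := (RPushSite.bijective_theta F (Z s) j A).2 (S.res _ j (g s) x)
    have hw0 : w ≫ φ⟦j⟧' = 0 := by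
      apply (RPushSite.bijective_theta F (Z s) j B).1
      refine (RPushSite.theta_comp F (Z s) j φ w).trans ?_
      refine (congrArg (fun z => z ≫ (R.map φ)⟦j⟧') hw).trans ?_
      change ((DerivedCategory.singleFunctor (ModSite.Mod O_D) 0).map (S.Pmap (g s)) ≫ x) ≫ (R.map φ)⟦j⟧' = _
      rw [Category.assoc, hx, comp_zero, RPushSite.theta_zero]
    have hwz : w = 0 := hb.1 (hw0.trans zero_comp.symm)
    rw [hwz, RPushSite.theta_zero] at hw
    refine (S.η_res _ j (b ≫ g s) x).trans ?_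
    rw [op_comp, Functor.map_comp, ConcreteCategory.comp_apply, ← S.η_res, ← hw, map_zero, map_zero]
  · obtain ⟨κ, Z, g, hcov, hb'⟩ := hd V
    refine ⟨_, hcov, fun W a ha => ?_⟩
    obtain ⟨_, b, _, ⟨s⟩, rfl⟩ := ha
    obtain ⟨w, hw⟩ := (RPushSite.bijective_theta F (Z s) j B).2 (S.res _ j (g s) y)
    obtain ⟨v, rfl⟩ := (hb' s).2 w
    refine ⟨(S.HS (R.obj A) j).obj.map b.op (S.η _ j _ (RPushSite.theta F (Z s) j A v)), ?_⟩
    refine (NatTrans.naturality_apply (S.Φ.map ((DerivedCategory.homologyFunctor (ModSite.Mod O_D) j).map (R.map φ))).hom b.op _).trans ?_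
    refine (congrArg ((S.HS (R.obj B) j).obj.map b.op) (S.η_comp (R.map φ) j _ _).symm).trans ?_
    refine (congrArg (fun z => (S.HS (R.obj B) j).obj.map b.op (S.η _ j _ z)) ((RPushSite.theta_comp F (Z s) j φ v).symm.trans hw)).trans ?_
    rw [S.η_res, S.η_res, op_comp, Functor.map_comp, ConcreteCategory.comp_apply]

end Site

variable {𝔛 𝔜 : FSch.Sys.{u}} (h𝔛 : 𝔛.IsLocNoethFormal)

/-- complexes with ind-coherent cohomology -/
abbrev IndCohD (G : DerivedCategory (FSch.ModF 𝔛 h𝔛.1)) : Prop :=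
  ∀ i : ℤ, (ObjectProperty.ind.{u} fun H : FSch.ModF 𝔛 h𝔛.1 => FSch.IsCohF 𝔛 h𝔛.1 H)
    ((DerivedCategory.homologyFunctor (FSch.ModF 𝔛 h𝔛.1) i).obj G)

theorem bijective_toTrunc_ind (G : DerivedCategory (FSch.ModF 𝔛 h𝔛.1)) (hG : IndCohD h𝔛 G)
    {U : (𝔛.X 0).Opens} {d : ℕ}
    (hU : ∀ M : CohTop.Ab (𝔛.X 0).carrier, AffAcyc (X := 𝔛.X 0) M → ∀ p : ℕ, d < p → Subsingleton (CohSite.HU M p U))
    (j : ℤ) (m : ℕ) (hm : (d : ℤ) - j < m) :
    Function.Bijective (fun g : (HDU.modData (𝔛.Osh h𝔛.1)).HG G j U => g ≫ (CohCx.toTruncTower G m)⟦j⟧') := by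
  haveI : IsGrothendieckAbelian.{u} (ModSite.Mod (𝔛.Osh h𝔛.1)) := KFlat.isGrothendieck _
  haveI := RPushSite.hasProduct_truncTower G
  have hR := isRlimVia_affine 𝔛 h𝔛 G hG
  have hvan : ∀ (i k : ℤ), (d : ℤ) < k →
      (HDU.modData (𝔛.Osh h𝔛.1)).Van ((DerivedCategory.homologyFunctor (FSch.ModF 𝔛 h𝔛.1) i).obj G) k U := fun i k hk => by
    obtain ⟨k', rfl⟩ : ∃ k' : ℕ, k = (k' : ℤ) := ⟨k.toNat, by omega⟩
    exact HDU.modVan (𝔛.Osh h𝔛.1) _ k' (by omega) U (hU _ (affAcyc_of_ind 𝔛 h𝔛 (hG i)) k' (by omega))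
  have hc := HDU.tower_conditions (HDU.modData (𝔛.Osh h𝔛.1)) G m j U fun n hn => hvan _ _ (by omega)
  refine ⟨fun g g' h => sub_eq_zero.1 ((HDU.modData (𝔛.Osh h𝔛.1)).eq_zero_of_killed hR j m hc.1 hc.2 (g - g')
    ((Preadditive.sub_comp _ _ _).trans (sub_eq_zero.2 h))), fun y => ?_⟩
  obtain ⟨r, hr, hrm⟩ := HDU.exists_compatible (fun n => (HDU.modData (𝔛.Osh h𝔛.1)).HG (CohCx.truncTower G n) j U)
    (fun n x => x ≫ (CohCx.truncTowerMap G n)⟦j⟧') m
    (fun n hn => HDU.tower_step_surjective (HDU.modData (𝔛.Osh h𝔛.1)) G n U j (hvan _ _ (by omega))) y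
  obtain ⟨z, hz⟩ := HDU.exists_lift_rlim hR j r hr
  exact ⟨z, (hz m).trans hrm⟩

theorem bijective_comp_of_high {A B : DerivedCategory (FSch.ModF 𝔛 h𝔛.1)} (φ : A ⟶ B) (hA : IndCohD h𝔛 A)
    (hB : IndCohD h𝔛 B) {U : (𝔛.X 0).Opens} {d : ℕ}
    (hU : ∀ M : CohTop.Ab (𝔛.X 0).carrier, AffAcyc (X := 𝔛.X 0) M → ∀ p : ℕ, d < p → Subsingleton (CohSite.HU M p U))
    (j : ℤ) (m : ℕ) (hm : (d : ℤ) - j < m)
    (hφ : ∀ i : ℤ, -(m : ℤ) ≤ i → IsIso ((DerivedCategory.homologyFunctor (FSch.ModF 𝔛 h𝔛.1) i).map φ)) :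
    Function.Bijective (fun g : (HDU.modData (𝔛.Osh h𝔛.1)).HG A j U => g ≫ φ⟦j⟧') := by
  let t : Triangulated.TStructure (DerivedCategory (FSch.ModF 𝔛 h𝔛.1)) := DerivedCategory.TStructure.t
  let ψ := (t.truncGE (-(m : ℤ))).map φ
  have hnat : φ ≫ (t.truncGEπ (-(m : ℤ))).app B = (t.truncGEπ (-(m : ℤ))).app A ≫ ψ :=
    (t.truncGEπ (-(m : ℤ))).naturality φ
  haveI : IsIso ψ := by
    rw [DerivedCategory.isIso_iff]
    intro i
    let Hi := DerivedCategory.homologyFunctor (FSch.ModF 𝔛 h𝔛.1) i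
    rcases le_or_gt (-(m : ℤ)) i with hi | hi
    · haveI := hφ i hi
      haveI := HDU.isIso_H_truncGEπ A (-(m : ℤ)) i hi
      haveI := HDU.isIso_H_truncGEπ B (-(m : ℤ)) i hi
      have h2 := congrArg Hi.map hnat
      rw [Functor.map_comp, Functor.map_comp] at h2
      exact IsIso.of_isIso_fac_left h2.symm
    · haveI : ((t.truncGE (-(m : ℤ))).obj A).IsGE (-(m : ℤ)) := HDU.isGE_truncGE A _
      haveI : ((t.truncGE (-(m : ℤ))).obj B).IsGE (-(m : ℤ)) := HDU.isGE_truncGE B _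
      have za := DerivedCategory.isZero_of_isGE ((t.truncGE (-(m : ℤ))).obj A) (-(m : ℤ)) i hi
      have zb := DerivedCategory.isZero_of_isGE ((t.truncGE (-(m : ℤ))).obj B) (-(m : ℤ)) i hi
      exact ⟨⟨0, za.eq_of_src _ _, zb.eq_of_src _ _⟩⟩
  have ba := bijective_toTrunc_ind h𝔛 A hA hU j m hm
  have bb := bijective_toTrunc_ind h𝔛 B hB hU j m hm
  have he : (fun g : (HDU.modData (𝔛.Osh h𝔛.1)).HG B j U => g ≫ (CohCx.toTruncTower B m)⟦j⟧') ∘
      (fun g : (HDU.modData (𝔛.Osh h𝔛.1)).HG A j U => g ≫ φ⟦j⟧') =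
      (fun g => g ≫ ψ⟦j⟧') ∘ fun g : (HDU.modData (𝔛.Osh h𝔛.1)).HG A j U => g ≫ (CohCx.toTruncTower A m)⟦j⟧' := by
    funext g
    simp only [Function.comp_apply, Category.assoc, ← Functor.map_comp]
    exact congrArg (fun x => g ≫ x⟦j⟧') hnat
  refine Function.Bijective.of_comp_left (g := fun g => g ≫ φ⟦j⟧') ?_ bb.1
  rw [he]
  exact Function.Bijective.comp ⟨fun x y hxy => (cancel_mono (ψ⟦j⟧')).1 hxy, fun y => ⟨y ≫ inv (ψ⟦j⟧'), by simp⟩⟩ ba

variable (h𝔜 : 𝔜.IsFormal) (f : 𝔛 ⟶ 𝔜) [SiteCmp.HasRpushD (FSch.homMor f h𝔛.1 h𝔜)] {ι : Type u}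

theorem isIso_H_rpush_of_high {A B : DerivedCategory (FSch.ModF 𝔛 h𝔛.1)} (φ : A ⟶ B) (hA : IndCohD h𝔛 A)
    (hB : IndCohD h𝔛 B) (j : ℤ) (m d : ℕ) (hm : (d : ℤ) - j < m)
    (hφ : ∀ i : ℤ, -(m : ℤ) ≤ i → IsIso ((DerivedCategory.homologyFunctor (FSch.ModF 𝔛 h𝔛.1) i).map φ))
    (hd : ∀ V : (𝔜.X 0).Opens, ∃ (κ : Type u) (Z : κ → (𝔜.X 0).Opens) (g : ∀ s, Z s ⟶ V),
      Sieve.ofArrows Z g ∈ Opens.grothendieckTopology (𝔜.X 0) V ∧ ∀ s (M : CohTop.Ab (𝔛.X 0).carrier),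
        AffAcyc (X := 𝔛.X 0) M → ∀ p : ℕ, d < p → Subsingleton (CohSite.HU M p (((f : FSch.Hom 𝔛 𝔜).app 0) ⁻¹ᵁ Z s))) :
    IsIso ((DerivedCategory.homologyFunctor (FSch.ModF 𝔜 h𝔜) j).map ((SiteCmp.RpushD (FSch.homMor f h𝔛.1 h𝔜)).map φ)) :=
  isIso_H_rpush_of_bijective (FSch.homMor f h𝔛.1 h𝔜) φ j fun V => by
    obtain ⟨κ, Z, g, hcov, hZ⟩ := hd V
    exact ⟨κ, Z, g, hcov, fun s => bijective_comp_of_high h𝔛 φ hA hB (hZ s) j m hm hφ⟩

theorem preservesColimit_rpush_bdd [CompactSpace (𝔛.X 0)] (K : ι → DerivedCategory (FSch.ModF 𝔛 h𝔛.1)) (n : ℤ)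
    (hK : ∀ t, (K t).IsGE n) :
    PreservesColimit (Discrete.functor K) (SiteCmp.RpushD (FSch.homMor f h𝔛.1 h𝔜)) := by
  haveI : IsGrothendieckAbelian.{u} (FSch.ModF 𝔛 h𝔛.1) := KFlat.isGrothendieck _
  haveI : IsGrothendieckAbelian.{u} (FSch.ModF 𝔜 h𝔜) := KFlat.isGrothendieck _
  haveI : IsLocallyNoetherian (𝔛.X 0) := h𝔛.2.2 0
  haveI : HasInjectiveResolutions (FSch.ModF 𝔛 h𝔛.1) := by infer_instance
  have hrep : ∀ t, ∃ I : CochainComplex (FSch.ModF 𝔛 h𝔛.1) ℤ, I.IsStrictlyGE n ∧ (∀ k, Injective (I.X k)) ∧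
      Nonempty (DerivedCategory.Q.obj I ≅ K t) := fun t => by
    haveI := hK t
    let C := (DerivedCategory.Q (C := FSch.ModF 𝔛 h𝔛.1)).objPreimage (K t)
    let eC : DerivedCategory.Q.obj C ≅ K t := DerivedCategory.Q.objObjPreimageIso (K t)
    haveI : C.IsGE n := (DerivedCategory.isGE_Q_obj_iff C n).1 (DerivedCategory.TStructure.t.isGE_of_iso eC.symm n)
    obtain ⟨I, s, hs, hI, hGE⟩ := CochainComplex.Plus.modelCategoryQuillen.exists_quasiIso_injective (C.truncGE n) n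
    haveI := hs
    exact ⟨I, hGE, hI, ⟨(asIso (DerivedCategory.Q.map (C.πTruncGE n ≫ s))).symm ≪≫ eC⟩⟩
  choose I hGE hI he using hrep
  obtain ⟨hc⟩ := exists_coprod_cofan K I fun t => (he t).some
  let P := FSch.pushF f h𝔛.1 h𝔜
  let FC := P.mapHomologicalComplex (ComplexShape.up ℤ)
  haveI := preservesCoproducts_pushF f h𝔛.1 h𝔜 ι
  haveI : PreservesColimitsOfShape (Discrete ι) FC :=
    ⟨fun {D} => ⟨fun hc => ⟨HomologicalComplex.isColimitOfEval _ _ fun k =>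
      isColimitOfPreserves (HomologicalComplex.eval (FSch.ModF 𝔛 h𝔛.1) (ComplexShape.up ℤ) k ⋙ P) hc⟩⟩⟩
  let α := RPushSite.unit (FSch.homMor f h𝔛.1 h𝔜)
  let RF := SiteCmp.RpushD (FSch.homMor f h𝔛.1 h𝔜)
  haveI : PreservesFiniteLimits P := by
    haveI : PreservesLimitsOfSize.{0, 0} P := (FSch.homMor f h𝔛.1 h𝔜).adj.rightAdjoint_preservesLimits
    infer_instance
  let ev := fun k => HomologicalComplex.eval (FSch.ModF 𝔛 h𝔛.1) (ComplexShape.up ℤ) k
  let col := fun k => isColimitCofanMkObjOfIsColimit (ev k) _ _ (coproductIsCoproduct I)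
  haveI : (∐ I).IsStrictlyGE n := (CochainComplex.isStrictlyGE_iff _ _).2 fun k hk => by
    rw [IsZero.iff_id_eq_zero]
    exact Cofan.IsColimit.hom_ext (col k) _ _ fun t =>
      ((haveI := hGE t; (I t).isZero_of_isStrictlyGE n k hk)).eq_of_src _ _
  have hu : IsIso ((AcycDef.unitQ P RF α).app (∐ I)) := AcycDef.isIso_unitQ_of_bdd P RF α (∐ I) n fun k i hi => by
    let e : (∐ fun t => (I t).X k) ≅ (∐ I).X k := (coproductIsCoproduct _).coconePointUniqueUpToIso (col k)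
    exact (isZero_rpush_of_qcFlasque f h𝔛.1 h𝔜 _
      (qcFlasque_coprod_injective h𝔛.1 (fun t => (I t).X k) fun t => hI t k) hi).of_iso
      ((P.rightDerived i).mapIso e).symm
  haveI := fun t => AcycDef.isIso_unitQ_of_bdd P RF α (I t) n fun k =>
    (haveI := hI t k; AcycDef.acyc_injective P ((I t).X k))
  obtain ⟨hS⟩ := DQCoh.nonempty_isColimit_Q_coprod BrownDerived.hKinj fun t => FC.obj (I t)
  refine preservesColimit_of_preserves_colimit_cocone hc ((IsColimit.precomposeHomEquiv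
    (Discrete.natIso fun t => asIso ((AcycDef.unitQ P RF α).app (I t.as)) ≪≫ RF.mapIso (he t.as).some :
      Discrete.functor (fun t => DerivedCategory.Q.obj (FC.obj (I t))) ≅ Discrete.functor K ⋙ RF) _).1 ?_)
  haveI := hu
  refine IsColimit.ofIsoColimit hS (Cocone.ext (DerivedCategory.Q.mapIso (PreservesCoproduct.iso FC I).symm ≪≫
    asIso ((AcycDef.unitQ P RF α).app (∐ I))) fun t => ?_)
  have h1 : Sigma.ι (fun t => FC.obj (I t)) t.as ≫ (PreservesCoproduct.iso FC I).inv = FC.map (Sigma.ι I t.as) := by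
    simp [PreservesCoproduct.iso]
  change DerivedCategory.Q.map (Sigma.ι (fun t => FC.obj (I t)) t.as) ≫
      (DerivedCategory.Q.map (PreservesCoproduct.iso FC I).inv ≫ (AcycDef.unitQ P RF α).app _) =
    ((AcycDef.unitQ P RF α).app (I t.as) ≫ RF.map (he t.as).some.hom) ≫
      RF.map ((he t.as).some.inv ≫ DerivedCategory.Q.map (Sigma.ι I t.as))
  rw [← Functor.map_comp_assoc, h1, Category.assoc, ← Functor.map_comp, Iso.hom_inv_id_assoc]
  exact (AcycDef.unitQ P RF α).naturality (Sigma.ι I t.as)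

theorem preservesColimit_rpush_ind [CompactSpace (𝔛.X 0)] [CompactSpace (𝔜.X 0)]
    (K : ι → DerivedCategory (FSch.ModF 𝔛 h𝔛.1)) (hK : ∀ t, IndCohD h𝔛 (K t)) :
    PreservesColimit (Discrete.functor K) (SiteCmp.RpushD (FSch.homMor f h𝔛.1 h𝔜)) := by
  haveI : IsGrothendieckAbelian.{u} (FSch.ModF 𝔛 h𝔛.1) := KFlat.isGrothendieck _
  haveI : IsGrothendieckAbelian.{u} (FSch.ModF 𝔜 h𝔜) := KFlat.isGrothendieck _
  haveI : IsLocallyNoetherian (𝔛.X 0) := h𝔛.2.2 0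
  haveI : IsNoetherian (𝔛.X 0) := ⟨⟩
  haveI := hasCoproducts_D (A := FSch.ModF 𝔛 h𝔛.1) ι
  haveI := hasCoproducts_D (A := FSch.ModF 𝔜 h𝔜) ι
  haveI : AlgebraicGeometry.QuasiCompact ((f : FSch.Hom 𝔛 𝔜).app 0) := ⟨fun U _ _ => NoetherianSpace.isCompact _⟩
  obtain ⟨d, hd⟩ := exists_preimage_bound ((f : FSch.Hom 𝔛 𝔜).app 0)
  let R := SiteCmp.RpushD (FSch.homMor f h𝔛.1 h𝔜)
  suffices IsIso (sigmaComparison R K) by exact PreservesCoproduct.of_iso_comparison R K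
  rw [DerivedCategory.isIso_iff]
  intro j
  let t : Triangulated.TStructure (DerivedCategory (FSch.ModF 𝔛 h𝔛.1)) := DerivedCategory.TStructure.t
  let m : ℕ := ((d : ℤ) + 1 - j).toNat
  let T : ι → DerivedCategory (FSch.ModF 𝔛 h𝔛.1) := fun i => (t.truncGE (-(m : ℤ))).obj (K i)
  haveI hT : ∀ i, (T i).IsGE (-(m : ℤ)) := fun i => HDU.isGE_truncGE (K i) _
  haveI := preservesColimit_rpush_bdd h𝔛 h𝔜 f T _ hT
  let ψ : (∐ K) ⟶ ∐ T := Limits.Sigma.map fun i => (t.truncGEπ (-(m : ℤ))).app (K i)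
  let H := DerivedCategory.homologyFunctor (FSch.ModF 𝔜 h𝔜) j
  let P := ObjectProperty.ind.{u} fun H : FSch.ModF 𝔛 h𝔛.1 => FSch.IsCohF 𝔛 h𝔛.1 H
  have key : ∀ {A B : DerivedCategory (FSch.ModF 𝔛 h𝔛.1)} (φ : A ⟶ B), IndCohD h𝔛 A → IndCohD h𝔛 B →
      (∀ i, -(m : ℤ) ≤ i → IsIso ((DerivedCategory.homologyFunctor (FSch.ModF 𝔛 h𝔛.1) i).map φ)) →
        IsIso (H.map (R.map φ)) := fun φ hA hB hφ =>
    isIso_H_rpush_of_high h𝔛 h𝔜 f φ hA hB j m d (by omega) hφ hd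
  have hTq : ∀ i, IndCohD h𝔛 (T i) := fun i k => by
    rcases lt_or_ge k (-(m : ℤ)) with hk | hk
    · haveI : P.IsClosedUnderColimitsOfShape (Discrete PEmpty.{u + 1}) := Groth.Agent.S17026.result 𝔛 h𝔛 _
      let E := Discrete.functor fun x : PEmpty.{u + 1} => (x.elim : FSch.ModF 𝔛 h𝔛.1)
      have hz : IsZero (colimit E) := (IsZero.iff_id_eq_zero _).2 (colimit.hom_ext fun x => x.as.elim)
      exact P.prop_of_iso (hz.iso ((DerivedCategory.isGE_iff _ _).1 (hT i) k hk))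
        (P.prop_colimit E fun x => x.as.elim)
    · have := HDU.isIso_H_truncGEπ (K i) (-(m : ℤ)) k hk
      exact P.prop_of_iso (asIso ((DerivedCategory.homologyFunctor _ k).map ((t.truncGEπ (-(m : ℤ))).app (K i)))) (hK i k)
  have hcop : ∀ (L : ι → DerivedCategory (FSch.ModF 𝔛 h𝔛.1)), (∀ i, IndCohD h𝔛 (L i)) → IndCohD h𝔛 (∐ L) := by
    intro L hL k
    haveI := preservesCoproducts_HD (A := FSch.ModF 𝔛 h𝔛.1) ι k
    haveI : P.IsClosedUnderColimitsOfShape (Discrete ι) := Groth.Agent.S17026.result 𝔛 h𝔛 (Discrete ι)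
    exact P.prop_of_iso (PreservesCoproduct.iso (DerivedCategory.homologyFunctor _ k) L).symm
      (P.prop_colimit _ fun a => hL a.as k)
  haveI hψ : IsIso (H.map (R.map ψ)) := key ψ (hcop K hK) (hcop T hTq) fun k hk => by
    let Hm := DerivedCategory.homologyFunctor (FSch.ModF 𝔛 h𝔛.1) k
    haveI := preservesCoproducts_HD (A := FSch.ModF 𝔛 h𝔛.1) ι k
    haveI : ∀ i, IsIso (Hm.map ((t.truncGEπ (-(m : ℤ))).app (K i))) := fun i => HDU.isIso_H_truncGEπ (K i) _ k hk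
    exact IsIso.of_isIso_fac_left (DQPush.sigmaComparison_natural Hm fun i => (t.truncGEπ (-(m : ℤ))).app (K i))
  haveI hψ' : ∀ i, IsIso (H.map (R.map ((t.truncGEπ (-(m : ℤ))).app (K i)))) := fun i =>
    key _ (hK i) (hTq i) fun k hk => HDU.isIso_H_truncGEπ (K i) _ k hk
  haveI := preservesCoproducts_HD (A := FSch.ModF 𝔜 h𝔜) ι j
  let ψ' : (∐ fun i => R.obj (K i)) ⟶ ∐ fun i => R.obj (T i) :=
    Limits.Sigma.map fun i => R.map ((t.truncGEπ (-(m : ℤ))).app (K i))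
  haveI : IsIso (H.map ψ') :=
    IsIso.of_isIso_fac_left (DQPush.sigmaComparison_natural H fun i => R.map ((t.truncGEπ (-(m : ℤ))).app (K i)))
  have h2 := congrArg H.map (DQPush.sigmaComparison_natural R fun i => (t.truncGEπ (-(m : ℤ))).app (K i))
  rw [Functor.map_comp, Functor.map_comp] at h2
  exact IsIso.of_isIso_fac_right h2

end Groth.Agent.FSchCoh
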