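import Groth.Agent.FSchAff.Levels
import Groth.Agent.ThickSys.Recognize

/-!
# The ring of sections of the structure sheaf of a formal scheme over an affine open
-/

universe u

open CategoryTheory CategoryTheory.Limits AlgebraicGeometry TopologicalSpace Opposite

set_option autoImplicit false
set_option backward.isDefEq.respectTransparency false
set_option linter.style.haveILetI false

noncomputable section

namespace Groth.Agent.FSchCoh

section Seq

variable {F : ℕᵒᵖ ⥤ Type u} {c : Cone F} (hc : IsLimit c)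

include hc in
theorem seq_ext {x y : c.pt} (h : ∀ n, c.π.app (op n) x = c.π.app (op n) y) : x = y := by
  apply (Types.isLimitEquivSections hc).injective
  exact Subtype.ext (funext fun j => h j.unop)

include hc in
theorem seq_lift (a : ∀ n, F.obj (op n))
    (ha : ∀ n, F.map (homOfLE (Nat.le_add_right n 1)).op (a (n + 1)) = a n) :
    ∃ x : c.pt, ∀ n, c.π.app (op n) x = a n := by
  have key : ∀ {m n : ℕ} (h : m ≤ n), F.map (homOfLE h).op (a n) = a m := by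
    intro m n h
    induction n, h using Nat.le_induction with
    | base => exact congrArg (fun f => f (a m)) (F.map_id (op m))
    | succ k hk ih =>
      rw [← ih, ← ha k, ← ConcreteCategory.comp_apply, ← F.map_comp]
      rfl
  refine ⟨(Types.isLimitEquivSections hc).symm ⟨fun j => a j.unop, fun {j j'} g => ?_⟩, fun n => ?_⟩
  · exact key (leOfHom g.unop)
  · exact Types.isLimitEquivSections_symm_apply hc _ _

end Seq

theorem ker_appLE_eq {X Y : Scheme.{u}} (f : X ⟶ Y) [IsClosedImmersion f] {U : Y.Opens} (hU : IsAffineOpen U)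
    {V : X.Opens} (e : V = f ⁻¹ᵁ U) : RingHom.ker (f.appLE U V e.le).hom = f.ker.ideal ⟨U, hU⟩ := by
  subst e
  rw [← Scheme.Hom.app_eq_appLE, Scheme.Hom.ker_apply]

variable (𝔛 : FSch.Sys.{u}) (h : 𝔛.IsFormal) (U : (𝔛.X 0).Opens)

/-- the ring of sections of `O_𝔛` over `U` -/
abbrev OA : CommRingCat.{u} := (𝔛.Osh h).obj.obj (op U)

/-- the ring of sections of the `n`-th level over `U` -/
abbrev RA (n : ℕ) : CommRingCat.{u} := Γ(𝔛.X n, 𝔛.lvU h n U)

/-- the projection -/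
def projR (n : ℕ) : OA 𝔛 h U →+* RA 𝔛 h U n := ((𝔛.OshProj h n).hom.app (op U)).hom

/-- the transition map -/
def transR (n : ℕ) : RA 𝔛 h U (n + 1) →+* RA 𝔛 h U n := ((𝔛.levelMap h n).hom.app (op U)).hom

theorem transR_projR (n : ℕ) (x : OA 𝔛 h U) : transR 𝔛 h U n (projR 𝔛 h U (n + 1) x) = projR 𝔛 h U n x := by
  have := congr(($(𝔛.OshProj_levelMap h n)).hom.app (op U) x)
  exact this

instance (n : ℕ) : Algebra (OA 𝔛 h U) (RA 𝔛 h U n) := (projR 𝔛 h U n).toAlgebra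

/-- the functor taking sections over `U` -/
abbrev sectR : Sheaf (Opens.grothendieckTopology (𝔛.X 0)) CommRingCat.{u} ⥤ Type u :=
  sheafToPresheaf _ _ ⋙ (CategoryTheory.evaluation _ _).obj (op U) ⋙ forget CommRingCat.{u}

theorem OA_ext {x y : OA 𝔛 h U} (hxy : ∀ n, projR 𝔛 h U n x = projR 𝔛 h U n y) : x = y :=
  seq_ext (isLimitOfPreserves (sectR 𝔛 U) (limit.isLimit (𝔛.levelRing h))) hxy

theorem OA_lift (a : ∀ n, RA 𝔛 h U n) (ha : ∀ n, transR 𝔛 h U n (a (n + 1)) = a n) :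
    ∃ x : OA 𝔛 h U, ∀ n, projR 𝔛 h U n x = a n := by
  refine seq_lift (isLimitOfPreserves (sectR 𝔛 U) (limit.isLimit (𝔛.levelRing h))) a fun n => ?_
  change (((𝔛.levelRing h).map (homOfLE (Nat.le_add_right n 1)).op).hom.app (op U)) _ = _
  rw [FSch.Sys.levelRing_map_succ]
  exact ha n

variable {U}

theorem transR_surjective (hU : IsAffineOpen U) (n : ℕ) : Function.Surjective (transR 𝔛 h U n) :=
  FSchAff.levelMap_app_surjective 𝔛 h hU n

theorem projR_surjective (hU : IsAffineOpen U) (n : ℕ) : Function.Surjective (projR 𝔛 h U n) :=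
  FSchAff.oshProj_app_surjective 𝔛 h hU n

/-- the inverse system of rings over an affine open -/
def ringSys (hU : IsAffineOpen U) : ThickSys.RingSys.{u} where
  R n := RA 𝔛 h U n
  r n := transR 𝔛 h U n
  surj n := transR_surjective 𝔛 h hU n

theorem lvU_toX (n : ℕ) : 𝔛.lvU h 0 U = (𝔛.toX n) ⁻¹ᵁ (𝔛.lvU h n U) := by
  induction n with
  | zero => rfl
  | succ n ih =>
    show _ = 𝔛.toX n ⁻¹ᵁ (𝔛.ι n ⁻¹ᵁ 𝔛.lvU h (n + 1) U)
    rw [𝔛.lvU_succ h n U]
    exact ih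

theorem ringSys_toZero (hU : IsAffineOpen U) : ∀ n, (ringSys 𝔛 h hU).toZero n =
    ((𝔛.toX n).appLE (𝔛.lvU h n U) (𝔛.lvU h 0 U) (lvU_toX 𝔛 h n).le).hom
  | 0 => by
    refine RingHom.ext fun x => ?_
    show x = (𝔛.X 0).presheaf.map (homOfLE (le_refl (𝔛.lvU h 0 U))).op x
    exact (congrArg (fun f => f x) ((𝔛.X 0).presheaf.map_id _)).symm
  | n + 1 => by
    show ((ringSys 𝔛 h hU).toZero n).comp (transR 𝔛 h U n) = _
    rw [ringSys_toZero hU n]
    exact congrArg CommRingCat.Hom.hom (FSch.appLE_comp_appLE_of_eq (𝔛.toX n) (𝔛.ι n) (𝔛.toX (n + 1)) rfl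
      _ _ _ (𝔛.lvU_le h n U) _ _)

theorem ringSys_K (hU : IsAffineOpen U) (n : ℕ) :
    (ringSys 𝔛 h hU).K n = (𝔛.toX n).ker.ideal ⟨𝔛.lvU h n U, FSchAff.isAffineOpen_lvU 𝔛 h hU n⟩ := by
  haveI := 𝔛.toX_isClosedImmersion h n
  show RingHom.ker ((ringSys 𝔛 h hU).toZero n) = _
  rw [ringSys_toZero 𝔛 h hU n]
  exact ker_appLE_eq (𝔛.toX n) _ (lvU_toX 𝔛 h n)

theorem ker_transR (hU : IsAffineOpen U) (hA : 𝔛.IsAdic) (n : ℕ) :
    RingHom.ker (transR 𝔛 h U n) = (ringSys 𝔛 h hU).K (n + 1) ^ (n + 1) := by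
  haveI := (h n).1
  rw [ringSys_K 𝔛 h hU]
  have e := ker_appLE_eq (𝔛.ι n) (FSchAff.isAffineOpen_lvU 𝔛 h hU (n + 1)) (𝔛.lvU_succ h n U).symm
  rw [hA n, Scheme.IdealSheafData.ideal_pow] at e
  exact e

/-- the ideal of definition over `U` -/
def JA (U : (𝔛.X 0).Opens) : Ideal (OA 𝔛 h U) := RingHom.ker (projR 𝔛 h U 0)

theorem main (h𝔛 : 𝔛.IsLocNoethFormal) (hU : IsAffineOpen U) :
    IsNoetherianRing (OA 𝔛 h U) ∧ IsAdicComplete (JA 𝔛 h U) (OA 𝔛 h U) ∧
      ∀ n, RingHom.ker (projR 𝔛 h U n) = JA 𝔛 h U ^ (n + 1) := by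
  haveI := h𝔛.2.2
  let T := ringSys 𝔛 h hU
  haveI : IsNoetherianRing (T.R 0) :=
    IsLocallyNoetherian.component_noetherian (X := 𝔛.X 0) ⟨_, FSchAff.isAffineOpen_lvU 𝔛 h hU 0⟩
  haveI : IsNoetherianRing (T.R 1) :=
    IsLocallyNoetherian.component_noetherian (X := 𝔛.X 1) ⟨_, FSchAff.isAffineOpen_lvU 𝔛 h hU 1⟩
  obtain ⟨J, hN, -, hp⟩ := T.exists_adic (ker_transR 𝔛 h hU h𝔛.2.1) (IsNoetherian.noetherian _)
  let e₀ : OA 𝔛 h U →+* T.lim :=
    (RingHom.pi (projR 𝔛 h U)).codRestrict T.lim fun x n => transR_projR 𝔛 h U n x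
  have he₀ : Function.Bijective e₀ :=
    ⟨fun x y hxy => OA_ext 𝔛 h U fun n => congrArg (fun z : T.lim => (z : ∀ n, T.R n) n) hxy,
      fun z => by
        obtain ⟨x, hx⟩ := OA_lift 𝔛 h U (fun n => (z : ∀ n, T.R n) n) z.2
        exact ⟨x, Subtype.ext (funext hx)⟩⟩
  let e : OA 𝔛 h U ≃+* T.lim := RingEquiv.ofBijective e₀ he₀
  have hker : ∀ n, RingHom.ker (projR 𝔛 h U n) = (J ^ (n + 1)).map e.symm.toRingHom := fun n => by
    rw [← (hp n).2]
    refine Eq.trans ?_ (Ideal.map_symm (f := e)).symm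
    ext x
    rw [Ideal.mem_comap, RingHom.mem_ker, RingHom.mem_ker]
    rfl
  have hJ : JA 𝔛 h U = J.map e.symm.toRingHom := (hker 0).trans (by rw [zero_add, pow_one])
  have hk : ∀ n, RingHom.ker (projR 𝔛 h U n) = JA 𝔛 h U ^ (n + 1) := fun n => by
    rw [hker n, hJ, Ideal.map_pow]
  haveI : IsNoetherianRing (OA 𝔛 h U) := isNoetherianRing_of_ringEquiv T.lim e.symm
  let f : ∀ n, RA 𝔛 h U (n + 1) →ₗ[OA 𝔛 h U] RA 𝔛 h U n := fun n =>
    { toFun := transR 𝔛 h U n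
      map_add' := map_add _
      map_smul' := fun a x => by
        show transR 𝔛 h U n (projR 𝔛 h U (n + 1) a * x) = projR 𝔛 h U n a * transR 𝔛 h U n x
        rw [map_mul, transR_projR] }
  have hlim : AdicLim.IsLimit f (fun n => Algebra.linearMap (OA 𝔛 h U) (RA 𝔛 h U n)) :=
    { comm := fun n => LinearMap.ext (transR_projR 𝔛 h U n)
      inj := fun x hx => OA_ext 𝔛 h U fun n => (hx n).trans (map_zero _).symm
      lift := fun y hy => OA_lift 𝔛 h U y hy }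
  have hfk : ∀ n, LinearMap.ker (f n) = JA 𝔛 h U ^ (n + 1) • (⊤ : Submodule _ (RA 𝔛 h U (n + 1))) := fun n => by
    rw [Ideal.smul_top_eq_map, ← hk n]
    ext x
    show transR 𝔛 h U n x = 0 ↔ x ∈ (RingHom.ker (projR 𝔛 h U n)).map (projR 𝔛 h U (n + 1))
    rw [Ideal.mem_map_iff_of_surjective _ (projR_surjective 𝔛 h hU (n + 1))]
    constructor
    · intro hx
      obtain ⟨y, rfl⟩ := projR_surjective 𝔛 h hU (n + 1) x
      exact ⟨y, by rw [RingHom.mem_ker, ← transR_projR]; exact hx, rfl⟩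
    · rintro ⟨y, hy, rfl⟩
      rw [transR_projR]
      exact hy
  refine ⟨inferInstance, hlim.isAdicComplete_of_ker_eq _ (transR_surjective 𝔛 h hU) hfk fun n => ?_, hk⟩
  rw [smul_eq_mul, Ideal.mul_top, ← hk n]
  rfl

end Groth.Agent.FSchCoh
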