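import Groth.Agent.FSchCoh.Vanish
import Groth.Agent.CohQC.RpushModules
import Groth.Agent.SiteCoh.ClosedPush

/-!
# Higher direct images of modules on formal schemes vanish when locally killed
-/

universe u

open CategoryTheory CategoryTheory.Limits AlgebraicGeometry TopologicalSpace Opposite
open Groth.Agent.SiteCoh

set_option autoImplicit false
set_option backward.isDefEq.respectTransparency false
set_option linter.style.haveILetI false

noncomputable section

namespace Groth.Agent.FSchCoh

theorem isFlasque_toAb_injective {X : TopCat.{u}} (O : Sheaf (Opens.grothendieckTopology X) CommRingCat.{u})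
    (I : ModSite.Mod O) [Injective I] : TopCat.Sheaf.IsFlasque (ModSite.toAb I) where
  epi {U V} i := (AddCommGrpCat.epi_iff_surjective _).mpr
    (@CohQC.sections_surjective_of_injective _ _ _ (ModSite.ringSh O) I ‹Injective I› _ _ i.unop inferInstance)

variable {𝔛 𝔜 : FSch.Sys.{u}} (g : 𝔛 ⟶ 𝔜) (h : 𝔛.IsFormal) (h' : 𝔜.IsFormal)

theorem isZero_rpushF_of_locKilled [HasInjectiveResolutions (FSch.ModF 𝔛 h)] (M : FSch.ModF 𝔛 h) (n : ℕ)
    (hM : LocKilled (Opens.grothendieckTopology (𝔜.X 0)) (Opens.map ((g : FSch.Hom 𝔛 𝔜).app 0).base)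
      (ModSite.toAb M) n) :
    IsZero ((FSch.RpushF g h h' n).obj M) := by
  let R := injectiveResolution M
  let T := SheafOfModules.toSheaf.{u} (ModSite.ringSh (𝔛.Osh h))
  let T' := SheafOfModules.toSheaf.{u} (ModSite.ringSh (𝔜.Osh h'))
  have : PreservesFiniteColimits T := CohQC.toSheaf_preservesFiniteColimits (ModSite.ringSh (𝔛.Osh h))
  have : PreservesFiniteColimits T' := CohQC.toSheaf_preservesFiniteColimits (ModSite.ringSh (𝔜.Osh h'))
  have : T.PreservesHomology := Functor.preservesHomologyOfExact T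
  have : T'.PreservesHomology := Functor.preservesHomologyOfExact T'
  let K := (T.mapHomologicalComplex (ComplexShape.up ℕ)).obj R.cocomplex
  have hex : ∀ m, K.ExactAt (m + 1) := fun m =>
    (HomologicalComplex.exactAt_iff K (m + 1)).mpr
      (((HomologicalComplex.exactAt_iff R.cocomplex (m + 1)).mp (R.cocomplex_exactAt_succ m)).map T)
  have hK : ∀ (U : Opens (𝔛.X 0)) (m : ℕ), Acyc U (K.X m) := fun U m p =>
    haveI := isFlasque_toAb_injective (X := (𝔛.X 0).carrier) (𝔛.Osh h) (R.cocomplex.X m)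
    flasque_acyclic (ModSite.toAb (R.cocomplex.X m)) U p
  obtain ⟨e⟩ := CohQC.rpush_iso_homology (L := Opens.grothendieckTopology (𝔜.X 0)) K hex hK
    (Opens.map ((g : FSch.Hom 𝔛 𝔜).app 0).base) n
  let c : T.obj M ≅ K.cycles 0 :=
    T.mapIso (IsLimit.conePointUniqueUpToIso R.isLimitKernelFork
        (R.cocomplex.cyclesIsKernel 0 1 (by simp))) ≪≫ ((R.cocomplex.sc 0).mapCyclesIso T).symm
  let a : (FSch.RpushF g h h' n).obj M ≅
      (((FSch.pushF g h h').mapHomologicalComplex (ComplexShape.up ℕ)).obj R.cocomplex).homology n :=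
    R.isoRightDerivedObj (FSch.pushF g h h') n
  let P := ((FSch.pushF g h h').mapHomologicalComplex (ComplexShape.up ℕ)).obj R.cocomplex
  have h0 : IsZero (T'.obj ((FSch.RpushF g h h' n).obj M)) := by
    refine IsZero.of_iso ?_ (T'.mapIso a ≪≫ ((P.sc n).mapHomologyIso T').symm ≪≫ e.symm)
    exact IsZero.of_iso (isZero_rpush_of_locKilled (J := Opens.grothendieckTopology (𝔛.X 0)) _ hM)
      ((CohSite.Rpush _ _ _ n).mapIso c).symm
  exact (IsZero.iff_id_eq_zero _).2 (T'.map_injective (h0.eq_of_src _ _))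

end Groth.Agent.FSchCoh
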