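import Groth.Agent.FSchCoh.Adj

/-!
# Homomorphisms between the modules of coherent systems
-/

universe u

open CategoryTheory CategoryTheory.Limits AlgebraicGeometry Opposite

set_option autoImplicit false
set_option backward.isDefEq.respectTransparency false
set_option linter.style.haveILetI false

noncomputable section

namespace Groth.Agent.FSchCoh

variable (𝔛 : FSch.Sys.{u}) (h𝔛 : 𝔛.IsLocNoethFormal) {𝔐 𝔑 : FSch.ModSys 𝔛} (h𝔐 : 𝔐.IsCoh)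

theorem realModMap_proj (φ : 𝔐 ⟶ 𝔑) (k : ℕ) :
    FSch.ModSys.realModMap h𝔛.1 φ ≫ FSch.realProj 𝔛 h𝔛.1 𝔑.F 𝔑.toPush k =
      FSch.realProj 𝔛 h𝔛.1 𝔐.F 𝔐.toPush k ≫ (FSch.levelMor 𝔛 h𝔛.1 k).push.map (φ.app k) :=
  FSch.realLimMap_realProj 𝔛 h𝔛.1 φ.app (FSch.ModSys.Hom.toPush_comm φ) k

theorem realMod_hom_ext {T : FSch.ModF 𝔛 h𝔛.1} {a b : T ⟶ 𝔑.realMod h𝔛.1}
    (e : ∀ k, a ≫ FSch.realProj 𝔛 h𝔛.1 𝔑.F 𝔑.toPush k = b ≫ FSch.realProj 𝔛 h𝔛.1 𝔑.F 𝔑.toPush k) : a = b :=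
  limit.hom_ext fun j => e j.unop

include h𝔐 in
theorem realModMap_bijective : Function.Bijective (fun φ : 𝔐 ⟶ 𝔑 => FSch.ModSys.realModMap h𝔛.1 φ) := by
  have hb := fun k G => proj_comp_bijective 𝔛 h𝔛.1 𝔐 h𝔛 h𝔐 k G
  constructor
  · intro φ ψ e
    refine FSch.ModSys.Hom.ext (funext fun k => (hb k _).1 ?_)
    have h1 := congrArg (fun θ => θ ≫ FSch.realProj 𝔛 h𝔛.1 𝔑.F 𝔑.toPush k) e
    exact ((realModMap_proj 𝔛 h𝔛 φ k).symm.trans h1).trans (realModMap_proj 𝔛 h𝔛 ψ k)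
  · intro ψ
    choose φ hφ using fun k => (hb k (𝔑.F k)).2 (ψ ≫ FSch.realProj 𝔛 h𝔛.1 𝔑.F 𝔑.toPush k)
    dsimp only at hφ
    have hcomm : ∀ k, 𝔐.toPush k ≫ (Scheme.Modules.pushforward (𝔛.ι k)).map (φ k) = φ (k + 1) ≫ 𝔑.toPush k := by
      intro k
      apply (hb (k + 1) _).1
      dsimp only
      haveI : IsIso ((FSch.pushCompare 𝔛 h𝔛.1 k).app (𝔑.F k)) :=
        ⟨(FSch.pushCompareInv 𝔛 h𝔛.1 k).app _, FSch.pushCompare_pushCompareInv 𝔛 h𝔛.1 k _,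
          FSch.pushCompareInv_pushCompare 𝔛 h𝔛.1 k _⟩
      apply (cancel_mono ((FSch.pushCompare 𝔛 h𝔛.1 k).app (𝔑.F k))).1
      have h1 : FSch.realProj 𝔛 h𝔛.1 𝔐.F 𝔐.toPush (k + 1) ≫
          (FSch.levelMor 𝔛 h𝔛.1 (k + 1)).push.map (𝔐.toPush k ≫ (Scheme.Modules.pushforward (𝔛.ι k)).map (φ k)) ≫
            (FSch.pushCompare 𝔛 h𝔛.1 k).app (𝔑.F k) = ψ ≫ FSch.realProj 𝔛 h𝔛.1 𝔑.F 𝔑.toPush k := by
        rw [Functor.map_comp, Category.assoc]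
        have nat := (FSch.pushCompare 𝔛 h𝔛.1 k).naturality (φ k)
        refine Eq.trans ?_ ((congrArg (· ≫ (FSch.levelMor 𝔛 h𝔛.1 k).push.map (φ k))
          (FSch.realProj_map 𝔛 h𝔛.1 𝔐.F 𝔐.toPush k)).trans (hφ k))
        rw [Category.assoc, Category.assoc]
        exact congrArg (fun t => _ ≫ _ ≫ t) nat
      have h2 : FSch.realProj 𝔛 h𝔛.1 𝔐.F 𝔐.toPush (k + 1) ≫
          (FSch.levelMor 𝔛 h𝔛.1 (k + 1)).push.map (φ (k + 1) ≫ 𝔑.toPush k) ≫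
            (FSch.pushCompare 𝔛 h𝔛.1 k).app (𝔑.F k) = ψ ≫ FSch.realProj 𝔛 h𝔛.1 𝔑.F 𝔑.toPush k := by
        rw [Functor.map_comp, Category.assoc, ← Category.assoc, hφ (k + 1), Category.assoc,
          FSch.realProj_map]
      rw [Category.assoc, Category.assoc]
      exact h1.trans h2.symm
    refine ⟨⟨φ, fun k => ?_⟩, realMod_hom_ext 𝔛 h𝔛 fun k => ?_⟩
    · apply ((Scheme.Modules.pullbackPushforwardAdjunction (𝔛.ι k)).homEquiv _ _).injective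
      rw [Adjunction.homEquiv_naturality_left, Adjunction.homEquiv_naturality_right]
      exact (hcomm k).symm
    · exact (realModMap_proj 𝔛 h𝔛 _ k).trans (hφ k)

end Groth.Agent.FSchCoh
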