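import Groth.Agent.FSchCoh.Dist

/-!
# The module of a coherent system is finitely presented
-/

universe u

open CategoryTheory CategoryTheory.Limits AlgebraicGeometry TopologicalSpace Opposite
open Groth.Agent.RSFin (sc rsR Gen Rel spanOn)

set_option autoImplicit false
set_option backward.isDefEq.respectTransparency false
set_option linter.style.haveILetI false

noncomputable section

namespace Groth.Agent.FSchCoh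

variable {𝔛 : FSch.Sys.{u}} (h𝔛 : 𝔛.IsLocNoethFormal)
include h𝔛

theorem exists_scal_extend {U W : (𝔛.X 0).Opens} (hU : IsAffineOpen U) {a : OA 𝔛 h𝔛.1 U}
    (d : IsDist 𝔛 h𝔛.1 U a W) (n : ℕ) (c : OA 𝔛 h𝔛.1 W) :
    ∃ (k : ℕ) (c' : OA 𝔛 h𝔛.1 U),
      projR 𝔛 h𝔛.1 W n (rsR d.le a ^ k * c) = projR 𝔛 h𝔛.1 W n (rsR d.le c') := by
  let Y := 𝔛.X n
  let b := projR 𝔛 h𝔛.1 U n a
  have hb := (FSchAff.isAffineOpen_lvU 𝔛 h𝔛.1 hU n).isLocalization_basicOpen b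
  let c₀ : Γ(Y, Y.basicOpen b) := QC.resO Y (d.level n).ge (projR 𝔛 h𝔛.1 W n c)
  obtain ⟨k, r, hr⟩ := @IsLocalization.Away.surj _ _ _ _ _ b hb c₀
  obtain ⟨c', rfl⟩ := projR_surjective 𝔛 h𝔛.1 hU n r
  refine ⟨k, c', ?_⟩
  have hr' : c₀ * QC.resO Y (Y.basicOpen_le b) b ^ k =
      QC.resO Y (Y.basicOpen_le b) (projR 𝔛 h𝔛.1 U n c') := hr
  have h2 := congrArg (QC.resO Y (d.level n).le) hr'
  simp only [map_mul, map_pow, QC.resO_resO, c₀, QC.resO_self, b] at h2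
  rw [map_mul, map_pow, projR_rsR, projR_rsR, mul_comm]
  refine Eq.trans ?_ (h2.trans (QC.resO_resO _ _ _))
  rw [QC.resO_resO]

theorem exists_scal_extend_fin {U W : (𝔛.X 0).Opens} (hU : IsAffineOpen U) {a : OA 𝔛 h𝔛.1 U}
    (d : IsDist 𝔛 h𝔛.1 U a W) (n : ℕ) {ι : Type*} [Fintype ι] (c : ι → OA 𝔛 h𝔛.1 W) :
    ∃ (k : ℕ) (c' : ι → OA 𝔛 h𝔛.1 U),
      ∀ i, projR 𝔛 h𝔛.1 W n (rsR d.le a ^ k * c i) = projR 𝔛 h𝔛.1 W n (rsR d.le (c' i)) := by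
  choose k c' hc using fun i => exists_scal_extend h𝔛 hU d n (c i)
  refine ⟨∑ i, k i, fun i => a ^ (∑ i, k i - k i) * c' i, fun i => ?_⟩
  have hle : k i ≤ ∑ i, k i := Finset.single_le_sum (fun _ _ => Nat.zero_le _) (Finset.mem_univ i)
  rw [map_mul (rsR d.le), map_mul _ (rsR d.le _), ← hc, ← map_mul, map_pow, ← mul_assoc, ← pow_add,
    Nat.sub_add_cancel hle]

variable {𝔐 : FSch.ModSys 𝔛} (hM : 𝔐.IsCoh)
include hM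

omit hM in
theorem projM_rs {U W : (𝔛.X 0).Opens} (e : W ≤ U) (n : ℕ) (t : ML 𝔛 h𝔛.1 𝔐 U) :
    (show Γ(𝔐.F n, 𝔛.lvU h𝔛.1 n W) from projM 𝔛 h𝔛.1 𝔐 W n (RSFin.rs (𝔐.realMod h𝔛.1) e t)) =
      QC.res (𝔐.F n) ((Opens.map (𝔛.gInv h𝔛.1 n)).monotone e) (projM 𝔛 h𝔛.1 𝔐 U n t) :=
  RSFin.ap_rs (FSch.realProj 𝔛 h𝔛.1 𝔐.F 𝔐.toPush n) e t

theorem span_rs_eq_top {U W : (𝔛.X 0).Opens} (hU : IsAffineOpen U) {a : OA 𝔛 h𝔛.1 U}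
    (d : IsDist 𝔛 h𝔛.1 U a W) {ι : Type*} [Fintype ι] (s : ι → ML 𝔛 h𝔛.1 𝔐 U)
    (hs : Submodule.span (OA 𝔛 h𝔛.1 U) (Set.range s) = ⊤) :
    spanOn (𝔐.realMod h𝔛.1) d.le s = ⊤ := by
  have hk := (main_mod 𝔛 h𝔛.1 𝔐 h𝔛 hM d.affine).2.2 0
  haveI := (main_mod 𝔛 h𝔛.1 𝔐 h𝔛 hM d.affine).1
  refine eq_top_iff.2 (Submodule.le_of_le_smul_of_le_jacobson_bot (Module.Finite.fg_top)
    (JA_le_jacobson h𝔛 d.affine) fun t _ => ?_)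
  let Y := 𝔛.X 0
  let b := projR 𝔛 h𝔛.1 U 0 a
  have hloc := QC.isLoc_of_isQCoh (FSchAff.isAffineOpen_lvU 𝔛 h𝔛.1 hU 0) (hM := (hM 0).1) (M := 𝔐.F 0)
  let t₀ : Γ(𝔐.F 0, Y.basicOpen b) := QC.res _ (d.level 0).ge (projM 𝔛 h𝔛.1 𝔐 W 0 t)
  obtain ⟨k, σ, hσ⟩ := hloc.exists_extend b t₀
  obtain ⟨m, hm⟩ := (main_mod 𝔛 h𝔛.1 𝔐 h𝔛 hM hU).2.1 0 σ
  have hmem : m ∈ Submodule.span (OA 𝔛 h𝔛.1 U) (Set.range s) := hs.symm ▸ Submodule.mem_top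
  obtain ⟨c, hc⟩ := (Submodule.mem_span_range_iff_exists_fun _).1 hmem
  have hmW : RSFin.rs (𝔐.realMod h𝔛.1) d.le m ∈ spanOn (𝔐.realMod h𝔛.1) d.le s := by
    rw [← hc]
    refine (RSFin.mem_spanOn_iff _ _ _ _).2 ⟨fun i => rsR d.le (c i), ?_⟩
    exact (RSFin.rs_sum_smul (𝔐.realMod h𝔛.1) d.le c s).symm
  have hu := (d.isUnit h𝔛).pow k
  let v : OA 𝔛 h𝔛.1 W := ↑hu.unit⁻¹
  rw [Submodule.mem_sup]
  refine ⟨v • RSFin.rs (𝔐.realMod h𝔛.1) d.le m, Submodule.smul_mem _ _ hmW, t - v • RSFin.rs (𝔐.realMod h𝔛.1) d.le m, ?_,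
    by abel⟩
  have h1 : projM 𝔛 h𝔛.1 𝔐 W 0 (RSFin.rs (𝔐.realMod h𝔛.1) d.le m) =
      projM 𝔛 h𝔛.1 𝔐 W 0 ((rsR d.le a : OA 𝔛 h𝔛.1 W) ^ k • t) := by
    have h2 := congrArg (QC.res (𝔐.F 0) (d.level 0).le) hσ
    rw [QC.res_res, QC.res_smul, map_pow, QC.resO_resO, QC.res_res, QC.res_self] at h2
    rw [map_smul]
    refine (projM_rs h𝔛 d.le 0 m).trans ?_
    rw [hm]
    refine h2.trans ?_
    show _ = projR 𝔛 h𝔛.1 W 0 (rsR d.le a ^ k) • (show Γ(𝔐.F 0, 𝔛.lvU h𝔛.1 0 W) from projM 𝔛 h𝔛.1 𝔐 W 0 t)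
    rw [map_pow, projR_rsR]
  have h3 : t - v • RSFin.rs (𝔐.realMod h𝔛.1) d.le m ∈ LinearMap.ker (projM 𝔛 h𝔛.1 𝔐 W 0) := by
    rw [LinearMap.mem_ker, map_sub, map_smul, h1, ← map_smul, smul_smul, hu.val_inv_mul, one_smul, sub_self]
  rw [hk, zero_add, pow_one] at h3
  exact h3

theorem mem_span_rel {U W : (𝔛.X 0).Opens} (hU : IsAffineOpen U) {a : OA 𝔛 h𝔛.1 U}
    (d : IsDist 𝔛 h𝔛.1 U a W) {ι κ : Type*} [Fintype ι] (s : ι → ML 𝔛 h𝔛.1 𝔐 U)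
    (hs : Submodule.span (OA 𝔛 h𝔛.1 U) (Set.range s) = ⊤) (r : κ → ι → OA 𝔛 h𝔛.1 U)
    (hr : ∀ c : ι → OA 𝔛 h𝔛.1 U, ∑ i, c i • s i = 0 → c ∈ Submodule.span (OA 𝔛 h𝔛.1 U) (Set.range r))
    (c : ι → OA 𝔛 h𝔛.1 W) (hc : ∑ i, c i • RSFin.rs (𝔐.realMod h𝔛.1) d.le (s i) = 0) :
    c ∈ Submodule.span (OA 𝔛 h𝔛.1 W) (Set.range fun k i => (rsR d.le (r k i) : OA 𝔛 h𝔛.1 W)) := by
  classical
  set S := Submodule.span (OA 𝔛 h𝔛.1 W) (Set.range fun k i => (rsR d.le (r k i) : (OA 𝔛 h𝔛.1 W)))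
  haveI := (main 𝔛 h𝔛.1 h𝔛 d.affine).1
  have hresS : ∀ z ∈ Submodule.span (OA 𝔛 h𝔛.1 U) (Set.range r), (fun i => (rsR d.le (z i) : (OA 𝔛 h𝔛.1 W))) ∈ S := by
    intro z hz
    induction hz using Submodule.span_induction with
    | mem x hx => obtain ⟨k, rfl⟩ := hx; exact Submodule.subset_span ⟨k, rfl⟩
    | zero => simp only [Pi.zero_apply, map_zero]; exact S.zero_mem
    | add x y _ _ hx hy => simp only [Pi.add_apply, map_add]; exact S.add_mem hx hy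
    | smul b x _ hx =>
      simp only [Pi.smul_apply, smul_eq_mul, map_mul]
      exact S.smul_mem (rsR d.le b) hx
  have key : ∀ n, c ∈ S ⊔ JA 𝔛 h𝔛.1 W ^ (n + 1) • (⊤ : Submodule (OA 𝔛 h𝔛.1 W) (ι → (OA 𝔛 h𝔛.1 W))) := by
    intro n
    obtain ⟨k, c', hc'⟩ := exists_scal_extend_fin h𝔛 hU d n c
    set M := 𝔐.realMod h𝔛.1
    let σ : Γ(𝔐.F n, 𝔛.lvU h𝔛.1 n U) := projM 𝔛 h𝔛.1 𝔐 U n (∑ i, c' i • s i)
    have hσ : QC.res (𝔐.F n) ((𝔛.X n).basicOpen_le (projR 𝔛 h𝔛.1 U n a)) σ = 0 := by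
      have h1 : QC.res (𝔐.F n) ((Opens.map (𝔛.gInv h𝔛.1 n)).monotone d.le) σ = 0 := by
        rw [← projM_rs h𝔛 d.le n, RSFin.rs_sum_smul, map_sum]
        have h2 : projM 𝔛 h𝔛.1 𝔐 W n ((rsR d.le a : (OA 𝔛 h𝔛.1 W)) ^ k • ∑ i, c i • RSFin.rs M d.le (s i)) = 0 := by
          rw [hc, smul_zero, map_zero]
        rw [Finset.smul_sum, map_sum] at h2
        refine Eq.trans ?_ h2
        refine Finset.sum_congr rfl fun i _ => ?_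
        rw [smul_smul, map_smul, map_smul]
        exact congrArg (fun r : RA 𝔛 h𝔛.1 W n =>
          r • (show Γ(𝔐.F n, 𝔛.lvU h𝔛.1 n W) from projM 𝔛 h𝔛.1 𝔐 W n (RSFin.rs M d.le (s i)))) (hc' i).symm
      have h2 := congrArg (QC.res (𝔐.F n) (d.level n).ge) h1
      rw [QC.res_res, map_zero] at h2
      exact h2
    obtain ⟨m, hm⟩ := (QC.isLoc_of_isQCoh (FSchAff.isAffineOpen_lvU 𝔛 h𝔛.1 hU n) (hM := (hM n).1)
      (M := 𝔐.F n)).exists_pow_smul_eq_zero (projR 𝔛 h𝔛.1 U n a) σ hσ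
    have h3 : a ^ m • ∑ i, c' i • s i ∈ LinearMap.ker (projM 𝔛 h𝔛.1 𝔐 U n) := by
      rw [LinearMap.mem_ker, map_smul]
      show projR 𝔛 h𝔛.1 U n (a ^ m) • σ = 0
      rw [map_pow]
      exact hm
    rw [(main_mod 𝔛 h𝔛.1 𝔐 h𝔛 hM hU).2.2 n] at h3
    let φ : (ι → (OA 𝔛 h𝔛.1 U)) →ₗ[(OA 𝔛 h𝔛.1 U)] ML 𝔛 h𝔛.1 𝔐 U := Fintype.linearCombination (OA 𝔛 h𝔛.1 U) s
    have hφ : LinearMap.range φ = ⊤ := (Fintype.range_linearCombination (OA 𝔛 h𝔛.1 U) s).trans hs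
    rw [← hφ, ← Submodule.map_top, ← Submodule.map_smul''] at h3
    obtain ⟨e, he, he'⟩ := h3
    have h4 : (fun i => a ^ m * c' i) - e ∈ Submodule.span (OA 𝔛 h𝔛.1 U) (Set.range r) := by
      refine hr _ ?_
      rw [Fintype.linearCombination_apply] at he'
      simp only [Pi.sub_apply, sub_smul, Finset.sum_sub_distrib, mul_smul, ← Finset.smul_sum]
      rw [he', sub_self]
    have hu := ((d.isUnit h𝔛).pow m).mul ((d.isUnit h𝔛).pow k)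
    let u : (OA 𝔛 h𝔛.1 W) := rsR d.le a ^ m * rsR d.le a ^ k
    have h5 : u • c ∈ S ⊔ JA 𝔛 h𝔛.1 W ^ (n + 1) • (⊤ : Submodule (OA 𝔛 h𝔛.1 W) (ι → (OA 𝔛 h𝔛.1 W))) := by
      rw [Submodule.mem_sup]
      refine ⟨_, hresS _ h4, u • c - fun i => (rsR d.le (((fun i => a ^ m * c' i) - e) i) : (OA 𝔛 h𝔛.1 W)), ?_, by abel⟩
      refine AdicLim.mem_smul_top_of_apply fun i => ?_
      simp only [Pi.sub_apply, Pi.smul_apply, smul_eq_mul, map_sub, map_mul, map_pow, u]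
      have h6 : (rsR d.le a : (OA 𝔛 h𝔛.1 W)) ^ k * c i - rsR d.le (c' i) ∈ JA 𝔛 h𝔛.1 W ^ (n + 1) := by
        rw [← (main 𝔛 h𝔛.1 h𝔛 d.affine).2.2 n, RingHom.mem_ker, map_sub, hc', sub_self]
      have h7 : (rsR d.le (e i) : (OA 𝔛 h𝔛.1 W)) ∈ JA 𝔛 h𝔛.1 W ^ (n + 1) :=
        rsR_mem_pow h𝔛 hU d.affine d.le (AdicLim.apply_mem_of_mem_smul_top he i)
      convert add_mem (Ideal.mul_mem_left _ ((rsR d.le a : (OA 𝔛 h𝔛.1 W)) ^ m) h6) h7 using 1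
      ring
    have h8 := Submodule.smul_mem _ (↑hu.unit⁻¹ : (OA 𝔛 h𝔛.1 W)) h5
    rwa [smul_smul, hu.val_inv_mul, one_smul] at h8
  have hq : S.mkQ c ∈ (⨅ n : ℕ, JA 𝔛 h𝔛.1 W ^ n • (⊤ : Submodule (OA 𝔛 h𝔛.1 W) ((ι → (OA 𝔛 h𝔛.1 W)) ⧸ S))) := by
    rw [Submodule.mem_iInf]
    intro n
    obtain ⟨y, hy, z, hz, hyz⟩ := Submodule.mem_sup.1 (key n)
    rw [← hyz, map_add, show S.mkQ y = 0 from (Submodule.Quotient.mk_eq_zero S).2 hy, zero_add]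
    have h1 : S.mkQ z ∈ (JA 𝔛 h𝔛.1 W ^ (n + 1) • (⊤ : Submodule (OA 𝔛 h𝔛.1 W) (ι → (OA 𝔛 h𝔛.1 W)))).map S.mkQ := ⟨z, hz, rfl⟩
    rw [Submodule.map_smul''] at h1
    exact Submodule.smul_mono (Ideal.pow_le_pow_right (Nat.le_succ n)) le_top h1
  rw [Ideal.iInf_pow_smul_eq_bot_of_le_jacobson _ (JA_le_jacobson h𝔛 d.affine), Submodule.mem_bot] at hq
  exact (Submodule.Quotient.mk_eq_zero S).1 hq

theorem exists_gen_rel {U : (𝔛.X 0).Opens} (hU : IsAffineOpen U) :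
    ∃ (ι κ : Type) (_ : Fintype ι) (_ : Fintype κ) (s : ι → ModSite.sect (𝔐.realMod h𝔛.1) U)
      (r : κ → ι → sc (𝔛.Osh h𝔛.1) U), Gen (𝔐.realMod h𝔛.1) s ∧ Rel (𝔐.realMod h𝔛.1) s r := by
  haveI := (main_mod 𝔛 h𝔛.1 𝔐 h𝔛 hM hU).1
  haveI := (main 𝔛 h𝔛.1 h𝔛 hU).1
  obtain ⟨p, φ, hφ⟩ := Module.Finite.exists_fin' (OA 𝔛 h𝔛.1 U) (ML 𝔛 h𝔛.1 𝔐 U)
  obtain ⟨q, r, hrr⟩ := Submodule.fg_iff_exists_fin_generating_family.1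
    (IsNoetherian.noetherian (LinearMap.ker φ))
  let s : Fin p → ML 𝔛 h𝔛.1 𝔐 U := fun i => φ (Pi.single i 1)
  have hlin : ∀ c : Fin p → OA 𝔛 h𝔛.1 U, ∑ i, c i • s i = φ c := fun c => by
    simp only [s, ← map_smul, ← map_sum]
    congr 1
    funext j
    simp [Pi.single_apply]
  have hs : Submodule.span (OA 𝔛 h𝔛.1 U) (Set.range s) = ⊤ := eq_top_iff.2 fun t _ => by
    obtain ⟨c, rfl⟩ := hφ t
    exact (Submodule.mem_span_range_iff_exists_fun _).2 ⟨c, hlin c⟩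
  refine ⟨Fin p, Fin q, inferInstance, inferInstance, s, r, ?_, fun k => ?_, ?_⟩
  · intro V hV t x hx
    obtain ⟨a, W, hxW, hWV, d⟩ := exists_dist 𝔛 h𝔛.1 hU hV hx
    exact ⟨W, hWV, hxW, (span_rs_eq_top h𝔛 hM hU d s hs).ge Submodule.mem_top⟩
  · have hk : r k ∈ LinearMap.ker φ := hrr ▸ Submodule.subset_span ⟨k, rfl⟩
    exact (hlin (r k)).trans hk
  · intro V hV c hc x hx
    obtain ⟨a, W, hxW, hWV, d⟩ := exists_dist 𝔛 h𝔛.1 hU hV hx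
    refine ⟨W, hWV, hxW, mem_span_rel h𝔛 hM hU d s hs r (fun z hz => ?_) _ ?_⟩
    · rw [hrr, LinearMap.mem_ker, ← hlin]
      exact hz
    · have := congrArg (RSFin.rs (𝔐.realMod h𝔛.1) hWV) hc
      rw [RSFin.rs_sum_smul, map_zero] at this
      simpa only [RSFin.rs_rs] using this

theorem isCohF_realMod : FSch.IsCohF 𝔛 h𝔛.1 (𝔐.realMod h𝔛.1) := by
  refine RSFin.isFinitePresentation_of_forall _ fun x => ?_
  obtain ⟨U, hU, hxU, -⟩ := exists_isAffineOpen_mem_and_subset (X := 𝔛.X 0) (x := x) (U := ⊤) trivial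
  obtain ⟨ι, κ, hι, hκ, s, r, hs, hr⟩ := exists_gen_rel h𝔛 hM hU
  exact ⟨U, ι, κ, hι, hκ, s, r, hxU, hs, hr⟩

end Groth.Agent.FSchCoh
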