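import Groth.Agent.FSchCoh.Coh
import Groth.Agent.FSchCoh.Hom
import Groth.Agent.FSchCoh.Pres
import Groth.Agent.FSchCoh.Compl
import Groth.Agent.QC.FiniteType

/-!
# Inverse image to a formal completion is the completion
-/

universe u

open CategoryTheory CategoryTheory.Limits AlgebraicGeometry TopologicalSpace Opposite

set_option autoImplicit false
set_option backward.isDefEq.respectTransparency false
set_option linter.style.haveILetI false

noncomputable section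

namespace Groth.Agent.FSchCoh

section IsoDetect

variable {𝔛 : FSch.Sys.{u}} (h𝔛 : 𝔛.IsLocNoethFormal) {F G : FSch.ModF 𝔛 h𝔛.1} (θ : F ⟶ G)

/-- a morphism gives a morphism of the systems of inverse images -/
def pullSysMap : pullSys 𝔛 h𝔛.1 F ⟶ pullSys 𝔛 h𝔛.1 G :=
  ⟨fun k => (FSch.levelMor 𝔛 h𝔛.1 k).pull.map θ, fun k => (pullIso 𝔛 h𝔛.1 k).hom.naturality θ⟩

theorem toReal_naturality :
    θ ≫ toReal 𝔛 h𝔛.1 G = toReal 𝔛 h𝔛.1 F ≫ FSch.ModSys.realModMap h𝔛.1 (pullSysMap h𝔛 θ) := by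
  refine realMod_hom_ext 𝔛 h𝔛 fun k => ?_
  rw [Category.assoc, Category.assoc, toReal_proj, realModMap_proj 𝔛 h𝔛, ← Category.assoc, toReal_proj]
  exact (FSch.levelMor 𝔛 h𝔛.1 k).adj.unit.naturality θ

/-- a morphism of coherent modules which is an isomorphism on every level is an isomorphism -/
theorem isIso_of_levels (hF : FSch.IsCohF 𝔛 h𝔛.1 F) (hG : FSch.IsCohF 𝔛 h𝔛.1 G)
    (hθ : ∀ k, IsIso ((FSch.levelMor 𝔛 h𝔛.1 k).pull.map θ)) : IsIso θ := by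
  haveI := isIso_toReal h𝔛 hF
  haveI := isIso_toReal h𝔛 hG
  have hi : ∀ k, IsIso ((pullSysMap h𝔛 θ).app k) := hθ
  let ψ : pullSys 𝔛 h𝔛.1 G ⟶ pullSys 𝔛 h𝔛.1 F :=
    ⟨fun k => inv ((pullSysMap h𝔛 θ).app k), fun k => by
      rw [IsIso.eq_comp_inv, Category.assoc, ← (pullSysMap h𝔛 θ).comm k, ← Category.assoc, ← Functor.map_comp,
        IsIso.inv_hom_id, CategoryTheory.Functor.map_id, Category.id_comp]⟩
  haveI : IsIso (FSch.ModSys.realModMap h𝔛.1 (pullSysMap h𝔛 θ)) :=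
    ⟨FSch.ModSys.realModMap h𝔛.1 ψ, realMod_hom_ext 𝔛 h𝔛 fun k => by
      rw [Category.assoc, realModMap_proj 𝔛 h𝔛, ← Category.assoc, realModMap_proj 𝔛 h𝔛, Category.assoc, ← Functor.map_comp,
        show (pullSysMap h𝔛 θ).app k ≫ ψ.app k = 𝟙 _ from IsIso.hom_inv_id _, CategoryTheory.Functor.map_id,
        Category.id_comp, Category.comp_id],
    realMod_hom_ext 𝔛 h𝔛 fun k => by
      rw [Category.assoc, realModMap_proj 𝔛 h𝔛, ← Category.assoc, realModMap_proj 𝔛 h𝔛, Category.assoc, ← Functor.map_comp,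
        show ψ.app k ≫ (pullSysMap h𝔛 θ).app k = 𝟙 _ from IsIso.inv_hom_id _, CategoryTheory.Functor.map_id,
        Category.id_comp, Category.comp_id]⟩
  haveI : IsIso (θ ≫ toReal 𝔛 h𝔛.1 G) := by rw [toReal_naturality h𝔛 θ]; infer_instance
  exact IsIso.of_isIso_comp_right θ (toReal 𝔛 h𝔛.1 G)

end IsoDetect

variable {X : Scheme.{u}} (𝔛 : FSch.Sys.{u}) (h : 𝔛.IsFormal) (g : ∀ n, 𝔛.X n ⟶ X)
  (hg : ∀ n, 𝔛.ι n ≫ g (n + 1) = g n)

theorem spc_apply (k : ℕ) (G : (𝔛.X k).Modules) (V : X.Opens) (x : Γ(G, g k ⁻¹ᵁ V)) :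
    app ((FSch.schPushCompare 𝔛 h g hg k).app G) V x =
      G.presheaf.map (homOfLE (lvU_g 𝔛 g hg h V k).le).op x := rfl

theorem isIso_spc (k : ℕ) (G : (𝔛.X k).Modules) : IsIso ((FSch.schPushCompare 𝔛 h g hg k).app G) := by
  have hb : ∀ V : X.Opens, Function.Bijective (app ((FSch.schPushCompare 𝔛 h g hg k).app G) V) := fun V => by
    let j := homOfLE (lvU_g 𝔛 g hg h V k).le
    haveI : IsIso j := ⟨homOfLE (lvU_g 𝔛 g hg h V k).ge, Subsingleton.elim _ _, Subsingleton.elim _ _⟩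
    exact ConcreteCategory.bijective_of_isIso (G.presheaf.map j.op)
  have hB : Opens.IsBasis (Set.univ : Set X.Opens) :=
    Opens.isBasis_iff_nbhd.2 fun {U x} hx => ⟨U, trivial, hx, le_rfl⟩
  haveI : Mono ((FSch.schPushCompare 𝔛 h g hg k).app G) :=
    RSFin.mono_of_injective _ fun V => (hb V).1
  haveI : Epi ((FSch.schPushCompare 𝔛 h g hg k).app G) := epi_of_basis hB _ fun V _ => (hb V).2
  exact isIso_of_mono_of_epi _

/-- the direct image along a level composed with the direct image to the scheme -/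
def spcIso (k : ℕ) : Scheme.Modules.pushforward (g k) ≅ (FSch.levelMor 𝔛 h k).push ⋙ (FSch.toSchemeMor 𝔛 h g hg).push :=
  haveI := fun G => isIso_spc 𝔛 h g hg k G
  NatIso.ofComponents (fun G => asIso ((FSch.schPushCompare 𝔛 h g hg k).app G))
    fun f => (FSch.schPushCompare 𝔛 h g hg k).naturality f

/-- the two inverse images to a level -/
def lvlPullIso (k : ℕ) :
    (FSch.toSchemeMor 𝔛 h g hg).pull ⋙ (FSch.levelMor 𝔛 h k).pull ≅ Scheme.Modules.pullback (g k) :=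
  Adjunction.leftAdjointUniq ((FSch.toSchemeMor 𝔛 h g hg).adj.comp (FSch.levelMor 𝔛 h k).adj)
    ((Scheme.Modules.pullbackPushforwardAdjunction (g k)).ofNatIsoRight (spcIso 𝔛 h g hg k))

variable (F : X.Modules)

/-- the component of the comparison -/
def cmpK (k : ℕ) : (FSch.toSchemeMor 𝔛 h g hg).pull.obj F ⟶
    (FSch.levelMor 𝔛 h k).push.obj ((gMod 𝔛 g hg F).F k) :=
  ((FSch.toSchemeMor 𝔛 h g hg).adj.homEquiv _ _).symm
    ((Scheme.Modules.pullbackPushforwardAdjunction (g k)).unit.app F ≫ (FSch.schPushCompare 𝔛 h g hg k).app _)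

theorem cmpK_eq (k : ℕ) :
    cmpK 𝔛 h g hg F k = (FSch.levelMor 𝔛 h k).adj.unit.app _ ≫
      (FSch.levelMor 𝔛 h k).push.map ((lvlPullIso 𝔛 h g hg k).hom.app F) := by
  rw [cmpK, Equiv.symm_apply_eq, Adjunction.homEquiv_unit, Functor.map_comp]
  have h1 := Adjunction.unit_leftAdjointUniq_hom_app
    ((FSch.toSchemeMor 𝔛 h g hg).adj.comp (FSch.levelMor 𝔛 h k).adj)
    ((Scheme.Modules.pullbackPushforwardAdjunction (g k)).ofNatIsoRight (spcIso 𝔛 h g hg k)) F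
  rw [← Category.assoc]
  refine Eq.trans ?_ h1.symm |>.trans ?_
  · simp [Adjunction.ofNatIsoRight, Adjunction.mkOfHomEquiv, spcIso]
  · rw [Adjunction.comp_unit_app]
    rfl

theorem cmpK_trans (k : ℕ) :
    cmpK 𝔛 h g hg F k = cmpK 𝔛 h g hg F (k + 1) ≫ (FSch.levelMor 𝔛 h (k + 1)).push.map ((gMod 𝔛 g hg F).toPush k) ≫
      (FSch.pushCompare 𝔛 h k).app _ := by
  rw [cmpK, cmpK, ← Adjunction.homEquiv_naturality_right_symm]
  refine congrArg _ ?_
  refine hom_ext_basis (Opens.isBasis_iff_nbhd.2 fun {U x} hx => ⟨U, trivial, hx, le_rfl⟩ :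
    Opens.IsBasis (Set.univ : Set X.Opens)) fun V _ m => ?_
  exact (gS_trans 𝔛 g hg h F V k m).symm

/-- the comparison from the inverse image to the completion -/
def cmpG : (FSch.toSchemeMor 𝔛 h g hg).pull.obj F ⟶ (gMod 𝔛 g hg F).realMod h :=
  limit.lift (FSch.levelSysOf 𝔛 h (gMod 𝔛 g hg F).F (gMod 𝔛 g hg F).toPush)
    { pt := (FSch.toSchemeMor 𝔛 h g hg).pull.obj F
      π := NatTrans.ofOpSequence (fun k => cmpK 𝔛 h g hg F k) fun k => by
        rw [FSch.levelSysOf_map_succ, Functor.const_obj_map]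
        exact (Category.id_comp _).trans (cmpK_trans 𝔛 h g hg F k) }

theorem cmpG_proj (k : ℕ) :
    cmpG 𝔛 h g hg F ≫ FSch.realProj 𝔛 h (gMod 𝔛 g hg F).F (gMod 𝔛 g hg F).toPush k = cmpK 𝔛 h g hg F k :=
  limit.lift_π _ (op k)

theorem isIso_cmpG [IsLocallyNoetherian X] (h𝔛 : 𝔛.IsLocNoethFormal) (hF : Coh.IsCoh F) :
    IsIso (cmpG 𝔛 h𝔛.1 g hg F) := by
  have hFP : SheafOfModules.IsFinitePresentation (R := ModSite.ringSh X.sheaf) F := by
    haveI := hF.1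
    exact QC.isFP_of_isQCoh_of_isFT hF.2
  have hP : FSch.IsCohF 𝔛 h𝔛.1 ((FSch.toSchemeMor 𝔛 h𝔛.1 g hg).pull.obj F) :=
    @PullFlat.isFinitePresentation_pull _ _ _ _ _ _ _ _ (FSch.toSchemeMor 𝔛 h𝔛.1 g hg) F hFP
  have hM : (gMod 𝔛 g hg F).IsCoh := fun k => by
    haveI : SheafOfModules.IsFinitePresentation (R := ModSite.ringSh (𝔛.X k).sheaf)
        ((Scheme.Modules.pullback (g k)).obj F) :=
      @PullFlat.isFinitePresentation_pull _ _ _ _ _ _ _ _ (ModSite.RMor.ofScheme (g k)) F hFP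
    exact ⟨(inferInstance : SheafOfModules.IsQuasicoherent (R := ModSite.ringSh (𝔛.X k).sheaf)
        ((Scheme.Modules.pullback (g k)).obj F)),
      (inferInstance : SheafOfModules.IsFiniteType (R := ModSite.ringSh (𝔛.X k).sheaf)
        ((Scheme.Modules.pullback (g k)).obj F))⟩
  refine isIso_of_levels h𝔛 _ hP (isCohF_realMod h𝔛 hM) fun k => ?_
  haveI := isIso_pullProj 𝔛 h𝔛.1 (gMod 𝔛 g hg F) h𝔛 hM k
  have e : (FSch.levelMor 𝔛 h𝔛.1 k).pull.map (cmpG 𝔛 h𝔛.1 g hg F) ≫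
      ((FSch.levelMor 𝔛 h𝔛.1 k).adj.homEquiv _ _).symm
        (FSch.realProj 𝔛 h𝔛.1 (gMod 𝔛 g hg F).F (gMod 𝔛 g hg F).toPush k) =
      (lvlPullIso 𝔛 h𝔛.1 g hg k).hom.app F := by
    rw [← Adjunction.homEquiv_naturality_left_symm, cmpG_proj, cmpK_eq, Equiv.symm_apply_eq,
      Adjunction.homEquiv_unit]
  haveI : IsIso ((FSch.levelMor 𝔛 h𝔛.1 k).pull.map (cmpG 𝔛 h𝔛.1 g hg F) ≫
      ((FSch.levelMor 𝔛 h𝔛.1 k).adj.homEquiv _ _).symm
        (FSch.realProj 𝔛 h𝔛.1 (gMod 𝔛 g hg F).F (gMod 𝔛 g hg F).toPush k)) := by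
    rw [e]; infer_instance
  exact @IsIso.of_isIso_comp_right _ _ _ _ _ _ (((FSch.levelMor 𝔛 h𝔛.1 k).adj.homEquiv _ _).symm
    (FSch.realProj 𝔛 h𝔛.1 (gMod 𝔛 g hg F).F (gMod 𝔛 g hg F).toPush k))
    (isIso_pullProj 𝔛 h𝔛.1 (gMod 𝔛 g hg F) h𝔛 hM k) (by assumption)

end Groth.Agent.FSchCoh
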