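import Groth.Agent.FSchCoh.Compl
import Groth.Agent.RSFin.Sect
import Groth.Agent.QC.Closure

/-!
# Completion of coherent modules is exact
-/

universe u

open CategoryTheory CategoryTheory.Limits AlgebraicGeometry TopologicalSpace Opposite

set_option autoImplicit false
set_option backward.isDefEq.respectTransparency false
set_option linter.style.haveILetI false

noncomputable section

namespace Groth.Agent.FSchCoh

theorem exists_ar {A : Type*} [CommRing A] [IsNoetherianRing A] (I : Ideal A) {M N : Type*} [AddCommGroup M]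
    [AddCommGroup N] [Module A M] [Module A N] [Module.Finite A N] (f : M →ₗ[A] N) (hf : Function.Injective f) :
    ∃ k : ℕ, ∀ j a, f a ∈ I ^ (j + k) • (⊤ : Submodule A N) → a ∈ I ^ j • (⊤ : Submodule A M) := by
  obtain ⟨k, hk⟩ := Ideal.exists_pow_inf_eq_pow_smul I (LinearMap.range f)
  refine ⟨k, fun j a ha => ?_⟩
  have h1 : f a ∈ I ^ (j + k) • ⊤ ⊓ LinearMap.range f := ⟨ha, a, rfl⟩
  rw [hk (j + k) (by omega), Nat.add_sub_cancel] at h1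
  have h2 : f a ∈ I ^ j • LinearMap.range f := Submodule.smul_mono le_rfl inf_le_right h1
  rw [← Submodule.map_top, ← Submodule.map_smul''] at h2
  obtain ⟨b, hb, he⟩ := h2
  rwa [← hf he]

section Gen

variable {X : Scheme.{u}} [IsLocallyNoetherian X] (𝔛 : FSch.Sys.{u}) (g : ∀ n, 𝔛.X n ⟶ X)
  (hg : ∀ n, 𝔛.ι n ≫ g (n + 1) = g n) (h : 𝔛.IsFormal)

theorem proj_of_proj {F : X.Modules} {W : X.Opens} {x : ML 𝔛 h (gMod 𝔛 g hg F) (g 0 ⁻¹ᵁ W)} {m n : ℕ}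
    (hmn : m ≤ n) {a : Γ(F, W)} (ha : projM 𝔛 h _ _ n x = gS 𝔛 g hg h F W n a) :
    projM 𝔛 h _ _ m x = gS 𝔛 g hg h F W m a := by
  induction hmn with
  | refl => exact ha
  | @step n hmn ih =>
    exact ih (by rw [← transM_projM, ha, gS_trans])

variable [∀ n, IsClosedImmersion (g n)] (I : ∀ W : X.affineOpens, Ideal Γ(X, W.1))
  (hI : ∀ (W : X.affineOpens) n, RingHom.ker ((g n).app W.1).hom = I W ^ (n + 1))

include hI in
theorem gS_zero_iff {F : X.Modules} (hF : Coh.IsQCoh F) {W : X.Opens} (hW : IsAffineOpen W) (n : ℕ) (m : Γ(F, W)) :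
    gS 𝔛 g hg h F W n m = 0 ↔ m ∈ (I ⟨W, hW⟩ ^ (n + 1) • ⊤ : Submodule Γ(X, W) Γ(F, W)) := by
  rw [gS_eq_zero_iff 𝔛 g hg h F W hF hW, ← hI ⟨W, hW⟩]

include hI in
theorem gS_eq_iff {F : X.Modules} (hF : Coh.IsQCoh F) {W : X.Opens} (hW : IsAffineOpen W) (n : ℕ) (a b : Γ(F, W)) :
    gS 𝔛 g hg h F W n a = gS 𝔛 g hg h F W n b ↔ a - b ∈ (I ⟨W, hW⟩ ^ (n + 1) • ⊤ : Submodule Γ(X, W) Γ(F, W)) := by
  rw [← gS_zero_iff 𝔛 g hg h I hI hF hW, gS_sub, sub_eq_zero]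

theorem projM_realModMap {F G : X.Modules} (φ : F ⟶ G) (ψ : gMod 𝔛 g hg F ⟶ gMod 𝔛 g hg G)
    (hψ : ∀ n, ψ.app n = (Scheme.Modules.pullback (g n)).map φ) {W : X.Opens} (n : ℕ)
    (x : ML 𝔛 h (gMod 𝔛 g hg F) (g 0 ⁻¹ᵁ W)) (a : Γ(F, W)) (ha : projM 𝔛 h _ _ n x = gS 𝔛 g hg h F W n a) :
    projM 𝔛 h (gMod 𝔛 g hg G) _ n (app (FSch.ModSys.realModMap h ψ) (g 0 ⁻¹ᵁ W) x) =
      gS 𝔛 g hg h G W n (φ.app W a) := by
  refine (congrArg (fun t => app t (g 0 ⁻¹ᵁ W) x) (FSch.realLimMap_realProj 𝔛 h ψ.app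
    (FSch.ModSys.Hom.toPush_comm ψ) n)).trans ?_
  show app ((FSch.levelMor 𝔛 h n).push.map (ψ.app n)) _ (projM 𝔛 h _ _ n x) = _
  rw [ha, hψ]
  exact gS_app 𝔛 g hg h F W φ n a

include hI in
theorem shortExact_gMod (S : ShortComplex X.Modules) (hS : S.ShortExact)
    (h1 : Coh.IsCoh S.X₁) (h2 : Coh.IsCoh S.X₂) (h3 : Coh.IsCoh S.X₃)
    (ψ₁ : gMod 𝔛 g hg S.X₁ ⟶ gMod 𝔛 g hg S.X₂) (hψ₁ : ∀ n, ψ₁.app n = (Scheme.Modules.pullback (g n)).map S.f)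
    (ψ₂ : gMod 𝔛 g hg S.X₂ ⟶ gMod 𝔛 g hg S.X₃) (hψ₂ : ∀ n, ψ₂.app n = (Scheme.Modules.pullback (g n)).map S.g) :
    FSch.ModSys.realModMap h ψ₁ ≫ FSch.ModSys.realModMap h ψ₂ = 0 ∧
      ∀ w : FSch.ModSys.realModMap h ψ₁ ≫ FSch.ModSys.realModMap h ψ₂ = 0,
        (ShortComplex.mk _ _ w).ShortExact := by
  let p := FSch.ModSys.realModMap h ψ₁
  let q := FSch.ModSys.realModMap h ψ₂
  have hB := isBasis_g 𝔛 g
  haveI := hS.mono_f
  haveI := hS.epi_g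
  let f₀ : ∀ W : X.Opens, Γ(S.X₁, W) →ₗ[Γ(X, W)] Γ(S.X₂, W) := fun W => QC.appₗ S.f W
  let g₀ : ∀ W : X.Opens, Γ(S.X₂, W) →ₗ[Γ(X, W)] Γ(S.X₃, W) := fun W => QC.appₗ S.g W
  have hcomp : ∀ W a, g₀ W (f₀ W a) = 0 := fun W a =>
    congrArg (fun t : S.X₁ ⟶ S.X₃ => t.app W a) S.zero
  have hker : ∀ W t, g₀ W t = 0 → ∃ a, f₀ W a = t := fun W t ht => by
    obtain ⟨b, hb⟩ := (RSFin.kernel_sections (O := X.sheaf) S.g W).2 t ht
    let e := hS.fIsKernel.conePointUniqueUpToIso (kernelIsKernel S.g)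
    have he : e.inv ≫ S.f = kernel.ι S.g :=
      hS.fIsKernel.conePointUniqueUpToIso_inv_comp (kernelIsKernel S.g) WalkingParallelPair.zero
    refine ⟨e.inv.app W b, Eq.trans ?_ hb⟩
    exact congrArg (fun t : kernel S.g ⟶ S.X₂ => t.app W b) he
  have hsurj : ∀ (W : X.Opens), IsAffineOpen W → Function.Surjective (g₀ W) := fun W hW =>
    QC.app_surjective_of_epi hW h2.1 h3.1 S.g
  have hinj : ∀ W, Function.Injective (f₀ W) := fun W => QC.app_injective_of_mono S.f W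
  have hfin : ∀ (W : X.Opens), IsAffineOpen W → IsNoetherianRing Γ(X, W) := fun W hW =>
    IsLocallyNoetherian.component_noetherian ⟨W, hW⟩
  have hpI : ∀ (W : X.Opens) (hW : IsAffineOpen W) (n : ℕ) (c : Γ(S.X₃, W)),
      c ∈ (I ⟨W, hW⟩ ^ n • ⊤ : Submodule Γ(X, W) Γ(S.X₃, W)) →
        ∃ d ∈ (I ⟨W, hW⟩ ^ n • ⊤ : Submodule Γ(X, W) Γ(S.X₂, W)), g₀ W d = c := fun W hW n c hc => by
    rw [← LinearMap.range_eq_top.2 (hsurj W hW), ← Submodule.map_top, ← Submodule.map_smul''] at hc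
    exact hc
  have hzero : p ≫ q = 0 := hom_ext_basis hB fun U hU x => by
    obtain ⟨W, hW, rfl⟩ := hU
    refine ML_ext 𝔛 h _ _ fun n => ?_
    obtain ⟨a, ha⟩ := gS_surjective 𝔛 g hg h S.X₁ W h1.1 hW n (projM 𝔛 h _ _ n x)
    refine (projM_realModMap 𝔛 g hg h S.g ψ₂ hψ₂ n _ _ (projM_realModMap 𝔛 g hg h S.f ψ₁ hψ₁ n x a ha.symm)).trans ?_
    refine ((gS_zero_iff 𝔛 g hg h I hI h3.1 hW n _).2 ?_).trans (map_zero _).symm
    show g₀ W (f₀ W a) ∈ _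
    rw [hcomp]
    exact Submodule.zero_mem _
  refine ⟨hzero, fun w => ?_⟩
  have hpinj : ∀ U ∈ {U : Opens (𝔛.X 0) | ∃ W, IsAffineOpen W ∧ U = g 0 ⁻¹ᵁ W}, ∀ x, app p U x = 0 → x = 0 := by
    rintro U ⟨W, hW, rfl⟩ x hx
    haveI := hfin W hW
    haveI : Module.Finite Γ(X, W) Γ(S.X₂, W) := QC.finite_sections hW (hM := h2.1) h2.2
    obtain ⟨k, hk⟩ := exists_ar (I ⟨W, hW⟩) (f₀ W) (hinj W)
    refine ML_ext 𝔛 h _ _ fun m => ?_
    obtain ⟨a, ha⟩ := gS_surjective 𝔛 g hg h S.X₁ W h1.1 hW (m + k) (projM 𝔛 h _ _ (m + k) x)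
    rw [map_zero, proj_of_proj 𝔛 g hg h (Nat.le_add_right m k) ha.symm, gS_zero_iff 𝔛 g hg h I hI h1.1 hW]
    refine hk (m + 1) a ?_
    have h0 := projM_realModMap 𝔛 g hg h S.f ψ₁ hψ₁ (m + k) x a ha.symm
    rw [hx, map_zero] at h0
    rw [show m + 1 + k = m + k + 1 by omega]
    exact (gS_zero_iff 𝔛 g hg h I hI h2.1 hW _ _).1 h0.symm
  haveI : Mono p := by
    refine ⟨fun {P} a b e => hom_ext_basis (Opens.isBasis_iff_nbhd.2 fun {U x} hx =>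
      ⟨U, trivial, hx, le_rfl⟩ : Opens.IsBasis (Set.univ : Set (Opens (𝔛.X 0)))) fun U _ z => ?_⟩
    refine sect_ext fun y hy => ?_
    obtain ⟨V, hV, hyV, hVU⟩ := Opens.isBasis_iff_nbhd.1 hB hy
    refine ⟨V, hVU, hyV, sub_eq_zero.1 (hpinj V hV _ ?_)⟩
    have e' := congrArg (fun t => app t V (rs P hVU z)) e
    rw [← app_rs, ← app_rs]
    show p.val.app (op V) (_ - _) = 0
    rw [map_sub]
    exact sub_eq_zero.2 e'
  haveI : Epi q := epi_of_basis hB q fun U hU y => by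
    obtain ⟨W, hW, rfl⟩ := hU
    choose c hc using fun n => gS_surjective 𝔛 g hg h S.X₃ W h3.1 hW n (projM 𝔛 h _ _ n y)
    have hc' : ∀ n, c (n + 1) - c n ∈ (I ⟨W, hW⟩ ^ (n + 1) • ⊤ : Submodule Γ(X, W) Γ(S.X₃, W)) := fun n => by
      rw [← gS_eq_iff 𝔛 g hg h I hI h3.1 hW, hc n, ← gS_trans, hc (n + 1), transM_projM]
    have step : ∀ n (b : {b // g₀ W b = c n}), ∃ b' : {b' // g₀ W b' = c (n + 1)},
        b'.1 - b.1 ∈ (I ⟨W, hW⟩ ^ (n + 1) • ⊤ : Submodule Γ(X, W) Γ(S.X₂, W)) := fun n b => by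
      obtain ⟨d, hd, he⟩ := hpI W hW (n + 1) _ (hc' n)
      exact ⟨⟨b.1 + d, by rw [map_add, b.2, he, add_sub_cancel]⟩, by simpa using hd⟩
    choose next hnext using step
    let B : ∀ n, {b // g₀ W b = c n} := fun n => Nat.rec ⟨_, (hsurj W hW (c 0)).choose_spec⟩ next n
    obtain ⟨x, hx⟩ := ML_lift 𝔛 h (gMod 𝔛 g hg S.X₂) (g 0 ⁻¹ᵁ W) (fun n => gS 𝔛 g hg h S.X₂ W n (B n).1) fun n => by
      rw [gS_trans, gS_eq_iff 𝔛 g hg h I hI h2.1 hW]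
      exact hnext n (B n)
    refine ⟨x, ML_ext 𝔛 h _ _ fun n => ?_⟩
    refine (projM_realModMap 𝔛 g hg h S.g ψ₂ hψ₂ n x _ (hx n)).trans ((congrArg _ ?_).trans (hc n))
    exact (B n).2
  refine ShortComplex.ShortExact.mk' ?_ inferInstance inferInstance
  rw [ShortComplex.exact_iff_epi_kernel_lift]
  refine epi_of_basis hB _ fun U hU t => ?_
  have hU' := hU
  obtain ⟨W, hW, rfl⟩ := hU'
  haveI := hfin W hW
  haveI : Module.Finite Γ(X, W) Γ(S.X₂, W) := QC.finite_sections hW (hM := h2.1) h2.2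
  obtain ⟨k, hk⟩ := exists_ar (I ⟨W, hW⟩) (f₀ W) (hinj W)
  let x := app (kernel.ι q) (g 0 ⁻¹ᵁ W) t
  have hx : app q (g 0 ⁻¹ᵁ W) x = 0 := congrArg (fun s => app s (g 0 ⁻¹ᵁ W) t) (kernel.condition q)
  choose b hb using fun n => gS_surjective 𝔛 g hg h S.X₂ W h2.1 hW n (projM 𝔛 h _ _ n x)
  have ha : ∀ n, ∃ a, b n - f₀ W a ∈ (I ⟨W, hW⟩ ^ (n + 1) • ⊤ : Submodule Γ(X, W) Γ(S.X₂, W)) := fun n => by
    have h0 := projM_realModMap 𝔛 g hg h S.g ψ₂ hψ₂ n x (b n) (hb n).symm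
    rw [hx, map_zero] at h0
    obtain ⟨d, hd, he⟩ := hpI W hW (n + 1) _ ((gS_zero_iff 𝔛 g hg h I hI h3.1 hW n _).1 h0.symm)
    obtain ⟨a, ha⟩ := hker W (b n - d) (by rw [map_sub, he]; exact sub_self _)
    exact ⟨a, by rwa [ha, sub_sub_cancel]⟩
  choose a ha using ha
  obtain ⟨y, hy⟩ := ML_lift 𝔛 h (gMod 𝔛 g hg S.X₁) (g 0 ⁻¹ᵁ W) (fun n => gS 𝔛 g hg h S.X₁ W n (a (n + k))) fun n => by
    rw [gS_trans, gS_eq_iff 𝔛 g hg h I hI h1.1 hW]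
    refine hk (n + 1) _ ?_
    rw [show n + 1 + k = n + k + 1 by omega, map_sub]
    have hbb : b (n + k + 1) - b (n + k) ∈ (I ⟨W, hW⟩ ^ (n + k + 1) • ⊤ : Submodule Γ(X, W) Γ(S.X₂, W)) := by
      rw [← gS_eq_iff 𝔛 g hg h I hI h2.1 hW, hb (n + k), ← gS_trans, hb (n + k + 1), transM_projM]
    have h4 := Submodule.sub_mem _ (Submodule.add_mem _ hbb (ha (n + k)))
      (Submodule.smul_mono (Ideal.pow_le_pow_right (show n + k + 1 ≤ n + k + 1 + 1 by omega)) le_rfl (ha (n + k + 1)))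
    convert h4 using 1
    abel
  refine ⟨y, (RSFin.kernel_sections q _).1 ?_⟩
  show app (kernel.lift q p hzero ≫ kernel.ι q) _ y = x
  rw [kernel.lift_ι]
  refine ML_ext 𝔛 h _ _ fun n => ?_
  refine (projM_realModMap 𝔛 g hg h S.f ψ₁ hψ₁ n y _ (hy n)).trans ?_
  rw [proj_of_proj 𝔛 g hg h (Nat.le_add_right n k) (hb (n + k)).symm]
  symm
  rw [gS_eq_iff 𝔛 g hg h I hI h2.1 hW]
  exact Submodule.smul_mono (Ideal.pow_le_pow_right (by omega)) le_rfl (ha (n + k))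

end Gen

end Groth.Agent.FSchCoh
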