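import Groth.Agent.FSchCoh.QCTRpush
import Groth.Agent.CohFinite.RPushCoh
import Groth.Agent.ThickSys.Desc
import Groth.Agent.SiteCoh.TotAcyclic
import Groth.Agent.SiteCoh.Cartan

/-!
# Higher direct images from a level, and coherence along pseudo-proper morphisms
-/

universe u

open CategoryTheory CategoryTheory.Limits AlgebraicGeometry TopologicalSpace Opposite

set_option autoImplicit false
set_option backward.isDefEq.respectTransparency false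
set_option linter.style.haveILetI false

noncomputable section

namespace Groth.Agent.FSchCoh

theorem finiteType_of_quotient_of_fg {B C : Type*} [CommRing B] [CommRing C] [Algebra B C] (N : Ideal C)
    (hN : N.FG) (hn : IsNilpotent N) [Algebra.FiniteType B (C ⧸ N)] : Algebra.FiniteType B C := by
  classical
  obtain ⟨s, hs⟩ := ‹Algebra.FiniteType B (C ⧸ N)›.out
  obtain ⟨t, ht⟩ := hN
  choose g hg using fun x : C ⧸ N => Ideal.Quotient.mk_surjective x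
  let S := Algebra.adjoin B ((s.image g ∪ t : Finset C) : Set C)
  have hsurj : ∀ x : C, ∃ a ∈ S, x - a ∈ N := fun x => by
    have h1 : Ideal.Quotient.mkₐ B N x ∈ (Algebra.adjoin B ((s.image g : Finset C) : Set C)).map (Ideal.Quotient.mkₐ B N) := by
      rw [AlgHom.map_adjoin, Finset.coe_image, ← Set.image_comp]
      have : (Ideal.Quotient.mkₐ B N) ∘ g = id := funext hg
      rw [this, Set.image_id, hs]
      trivial
    obtain ⟨a, ha, he⟩ := h1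
    exact ⟨a, Algebra.adjoin_mono (by simp) ha, Ideal.Quotient.eq.1 he.symm⟩
  have key : ∀ k, ∀ x ∈ N ^ k, ∃ a ∈ S, x - a ∈ N ^ (k + 1) := by
    intro k
    induction k with
    | zero => exact fun x _ => by simpa using hsurj x
    | succ k ih =>
      intro x hx
      rw [pow_succ] at hx
      refine Submodule.mul_induction_on hx (fun a ha b hb => ?_) fun x y ⟨a, ha, hxa⟩ ⟨b, hb, hyb⟩ =>
        ⟨a + b, S.add_mem ha hb, by simpa [add_sub_add_comm] using add_mem hxa hyb⟩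
      rw [← ht] at hb
      induction hb using Submodule.span_induction generalizing a with
      | mem z hz =>
        obtain ⟨c, hc, hca⟩ := ih a ha
        refine ⟨c * z, S.mul_mem hc (Algebra.subset_adjoin (by simp [hz])), ?_⟩
        rw [← sub_mul, pow_succ]
        exact Ideal.mul_mem_mul hca (ht ▸ Ideal.subset_span hz)
      | zero => exact ⟨0, S.zero_mem, by simp⟩
      | add y z _ _ hy hz =>
        obtain ⟨c, hc, hy'⟩ := hy a ha
        obtain ⟨d, hd, hz'⟩ := hz a ha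
        exact ⟨c + d, S.add_mem hc hd, by simpa [mul_add, add_sub_add_comm] using add_mem hy' hz'⟩
      | smul r y _ hy =>
        obtain ⟨c, hc, hy'⟩ := hy (a * r) (Ideal.mul_mem_right _ _ ha)
        exact ⟨c, hc, by rwa [smul_eq_mul, ← mul_assoc]⟩
  have hall : ∀ k x, ∃ a ∈ S, x - a ∈ N ^ k := by
    intro k
    induction k with
    | zero => exact fun x => ⟨0, S.zero_mem, by simp⟩
    | succ k ih =>
      intro x
      obtain ⟨a, ha, h⟩ := ih x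
      obtain ⟨b, hb, h'⟩ := key k _ h
      exact ⟨a + b, S.add_mem ha hb, by rwa [← sub_sub]⟩
  obtain ⟨m, hm⟩ := hn
  refine ⟨⟨s.image g ∪ t, eq_top_iff.2 fun x _ => ?_⟩⟩
  obtain ⟨a, ha, h⟩ := hall m x
  rw [hm] at h
  rw [sub_eq_zero.1 (Ideal.mem_bot.1 h)]
  exact ha

theorem isProper_of_comp_thickening {X₀ X Y : Scheme.{u}} (a : X₀ ⟶ X) [IsClosedImmersion a] [Surjective a]
    [IsLocallyNoetherian X] (f : X ⟶ Y) [IsProper (a ≫ f)] : IsProper f := by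
  haveI : LocallyOfFiniteType f := by
    rw [HasRingHomProperty.iff_appLE (P := @LocallyOfFiniteType)]
    intro U V e
    letI := (f.appLE U.1 V.1 e).hom.toAlgebra
    show Algebra.FiniteType Γ(Y, U.1) Γ(X, V.1)
    have e' : a ⁻¹ᵁ V.1 ≤ (a ≫ f) ⁻¹ᵁ U.1 := by
      rw [Scheme.Hom.comp_preimage]
      exact Scheme.Hom.preimage_mono _ e
    haveI := IsLocallyNoetherian.component_noetherian V
    let p : Γ(X, V.1) →+* Γ(X₀, a ⁻¹ᵁ V.1) := (a.app V.1).hom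
    have hcomp : (f.appLE U.1 V.1 e ≫ a.app V.1) = (a ≫ f).appLE U.1 (a ⁻¹ᵁ V.1) e' := by
      rw [Scheme.Hom.app_eq_appLE (f := a), Scheme.Hom.appLE_comp_appLE]
    letI := ((a ≫ f).appLE U.1 (a ⁻¹ᵁ V.1) e').hom.toAlgebra
    haveI : Algebra.FiniteType Γ(Y, U.1) Γ(X₀, a ⁻¹ᵁ V.1) :=
      LocallyOfFiniteType.finiteType_appLE (f := a ≫ f) U.2 (V.2.preimage a) e'
    let pa : Γ(X, V.1) →ₐ[Γ(Y, U.1)] Γ(X₀, a ⁻¹ᵁ V.1) := ⟨p, fun r => congr(($hcomp).hom r)⟩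
    haveI : Algebra.FiniteType Γ(Y, U.1) (Γ(X, V.1) ⧸ RingHom.ker pa) :=
      Algebra.FiniteType.equiv inferInstance (Ideal.quotientKerAlgEquivOfSurjective (f := pa) (a.app_surjective V.1 V.2)).symm
    refine finiteType_of_quotient_of_fg (RingHom.ker pa) (IsNoetherian.noetherian _) ?_
    have h := ThickSys.isNilpotent_ker_app a V
    rwa [Scheme.Hom.ker_apply] at h
  haveI : UniversallyClosed f := UniversallyClosed.of_comp_surjective a f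
  haveI : IsSeparated f := SepSurj.isSeparated_of_universallyClosed_surjective a f
  exact {}

variable {𝔛 𝔜 : FSch.Sys.{u}}

theorem app_toX (f : 𝔛 ⟶ 𝔜) :
    ∀ n, 𝔛.toX n ≫ (f : FSch.Hom 𝔛 𝔜).app n = (f : FSch.Hom 𝔛 𝔜).app 0 ≫ 𝔜.toX n
  | 0 => by simp [FSch.Sys.toX]
  | n + 1 => by
    simp only [FSch.Sys.toX, Category.assoc]
    rw [← (f : FSch.Hom 𝔛 𝔜).comm n, ← Category.assoc, app_toX f n, Category.assoc]

theorem isProper_app (h𝔛 : 𝔛.IsLocNoethFormal) (h𝔜 : 𝔜.IsFormal) (f : 𝔛 ⟶ 𝔜)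
    [IsProper ((f : FSch.Hom 𝔛 𝔜).app 0)] (n : ℕ) : IsProper ((f : FSch.Hom 𝔛 𝔜).app n) := by
  haveI := FSch.Sys.toX_isClosedImmersion 𝔛 h𝔛.1 n
  haveI := FSch.Sys.toX_isClosedImmersion 𝔜 h𝔜 n
  haveI : Surjective (𝔛.toX n) := ⟨FSch.Sys.toX_surjective 𝔛 h𝔛.1 n⟩
  haveI := h𝔛.2.2 n
  haveI : IsProper (𝔛.toX n ≫ (f : FSch.Hom 𝔛 𝔜).app n) := by rw [app_toX]; infer_instance
  exact isProper_of_comp_thickening (𝔛.toX n) _

theorem smul_level (h𝔛 : 𝔛.IsLocNoethFormal) (n : ℕ) (G : (𝔛.X n).Modules) {U : (𝔛.X 0).Opens} (a : OA 𝔛 h𝔛.1 U)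
    (t : Γ(G, 𝔛.lvU h𝔛.1 n U)) :
    (show RSFin.sc (𝔛.Osh h𝔛.1) U from a) • (show ModSite.sect ((FSch.levelMor 𝔛 h𝔛.1 n).push.obj G) U from t) =
      projR 𝔛 h𝔛.1 U n a • t := rfl

theorem span_level_mem (h𝔛 : 𝔛.IsLocNoethFormal) (n : ℕ) (G : (𝔛.X n).Modules) {U W : (𝔛.X 0).Opens} (e : W ≤ U)
    (hU : IsAffineOpen U) {k : ℕ} (v : Fin k → Γ(G, 𝔛.lvU h𝔛.1 n U)) (z : Γ(G, 𝔛.lvU h𝔛.1 n U))
    (hz : z ∈ Submodule.span (RA 𝔛 h𝔛.1 U n) (Set.range v)) :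
    RSFin.rs ((FSch.levelMor 𝔛 h𝔛.1 n).push.obj G) e z ∈
      RSFin.spanOn ((FSch.levelMor 𝔛 h𝔛.1 n).push.obj G) e (fun i => (v i : ModSite.sect ((FSch.levelMor 𝔛 h𝔛.1 n).push.obj G) U)) := by
  induction hz using Submodule.span_induction with
  | mem w hw =>
    obtain ⟨i, rfl⟩ := hw
    exact Submodule.subset_span ⟨i, rfl⟩
  | zero =>
    erw [map_zero]
    exact Submodule.zero_mem _
  | add a b _ _ ha hb =>
    erw [map_add]
    exact Submodule.add_mem _ ha hb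
  | smul r a _ ha =>
    obtain ⟨b, rfl⟩ := projR_surjective 𝔛 h𝔛.1 hU n r
    rw [← smul_level h𝔛 n G b a]
    refine (RSFin.rs_smul _ e _ _).symm ▸ ?_
    exact Submodule.smul_mem _ _ ha

theorem isCohF_level (h𝔛 : 𝔛.IsLocNoethFormal) (n : ℕ) (G : (𝔛.X n).Modules) (hG : Coh.IsCoh G) :
    FSch.IsCohF 𝔛 h𝔛.1 ((FSch.levelMor 𝔛 h𝔛.1 n).push.obj G) := by
  haveI := hG.1
  have hq := qt_level h𝔛 n G hG.1
  haveI := hq.isQuasicoherent
  haveI : SheafOfModules.IsFiniteType.{u} (R := ModSite.ringSh (𝔛.Osh h𝔛.1)) ((FSch.levelMor 𝔛 h𝔛.1 n).push.obj G) := by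
    refine RSFin.isFiniteType_of_forall _ fun x => ?_
    obtain ⟨U, hU, hxU, -⟩ := exists_isAffineOpen_mem_and_subset (X := 𝔛.X 0) (x := x) (U := ⊤) trivial
    haveI : Module.Finite (RA 𝔛 h𝔛.1 U n) Γ(G, 𝔛.lvU h𝔛.1 n U) :=
      QC.finite_sections (FSchAff.isAffineOpen_lvU 𝔛 h𝔛.1 hU n) (hM := hG.1) hG.2
    obtain ⟨k, v, hv⟩ := Module.Finite.exists_fin (R := RA 𝔛 h𝔛.1 U n) (M := Γ(G, 𝔛.lvU h𝔛.1 n U))
    let s : Fin k → ModSite.sect ((FSch.levelMor 𝔛 h𝔛.1 n).push.obj G) U := v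
    refine ⟨U, Fin k, inferInstance, s, hxU, fun V hV t y hy => ?_⟩
    obtain ⟨W, hW, hyW, hm⟩ := hq.gen hU hV t y hy
    refine ⟨W, hW, hyW, Submodule.span_le.2 ?_ hm⟩
    rintro _ ⟨z, rfl⟩
    have hz : (show Γ(G, 𝔛.lvU h𝔛.1 n U) from z) ∈ Submodule.span (RA 𝔛 h𝔛.1 U n) (Set.range v) :=
      hv ▸ Submodule.mem_top
    show RSFin.rs _ (hW.trans hV) z ∈ RSFin.spanOn _ (hW.trans hV) s
    exact span_level_mem h𝔛 n G (hW.trans hV) hU v z hz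
  exact isCohF_of_qcoh_of_isFiniteType h𝔛


/-! ### Higher direct images from a level -/

theorem isZero_rpush_flasque {X Y : Scheme.{u}} (g : X ⟶ Y) [HasInjectiveResolutions X.Modules] (J : X.Modules)
    (hJ : RPushQC.IsFlasque J) {q : ℕ} (hq : 0 < q) : IsZero ((Coh.Rpush g q).obj J) := by
  obtain ⟨p, rfl⟩ : ∃ p, q = p + 1 := ⟨q - 1, by omega⟩
  obtain ⟨e⟩ := CohQC.toAb_rpush_iso g J (p + 1)
  haveI := RPushQC.isFlasque_toAb hJ
  have h0 : IsZero ((Coh.RpushAb g (p + 1)).obj (Coh.toAb J)) :=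
    SiteCoh.isZero_rpush_of_acyclic (Opens.map g.base) (p + 1)
      fun V => SiteCoh.flasque_acyclic (Coh.toAb J) ((Opens.map g.base).obj V) p
  exact (IsZero.iff_id_eq_zero _).2 ((SheafOfModules.toSheaf.{u} Y.ringCatSheaf).map_injective
    ((h0.of_iso e).eq_of_src _ _))

variable {h𝔛 : 𝔛.IsLocNoethFormal} {h𝔜 : 𝔜.IsLocNoethFormal} [CompactSpace (𝔛.X 0)] (f : 𝔛 ⟶ 𝔜)
  [HasInjectiveResolutions (FSch.ModF 𝔛 h𝔛.1)]

/-- higher direct images of a module of a level are higher direct images on the level -/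
theorem nonempty_rpush_level_iso (n : ℕ) [HasInjectiveResolutions (𝔛.X n).Modules] :
    ∀ (q : ℕ) (G : (𝔛.X n).Modules), Coh.IsQCoh G →
      Nonempty ((FSch.RpushF f h𝔛.1 h𝔜.1 q).obj ((FSch.levelMor 𝔛 h𝔛.1 n).push.obj G) ≅
        (FSch.levelMor 𝔜 h𝔜.1 n).push.obj ((Coh.Rpush ((f : FSch.Hom 𝔛 𝔜).app n) q).obj G)) := by
  haveI : IsLocallyNoetherian (𝔛.X 0) := h𝔛.2.2 0
  haveI : IsLocallyNoetherian (𝔛.X n) := h𝔛.2.2 n
  haveI : CompactSpace (𝔛.X n) := Function.Surjective.compactSpace (𝔛.toX n).base.hom.continuous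
    fun y => ⟨𝔛.gInv h𝔛.1 n y, congr(($(FSch.Sys.gInv_toX_base 𝔛 h𝔛.1 n)) y)⟩
  haveI : IsNoetherian (𝔛.X n) := ⟨⟩
  let P := FSch.pushF f h𝔛.1 h𝔜.1
  let P' := Coh.push ((f : FSch.Hom 𝔛 𝔜).app n)
  let L := (FSch.levelMor 𝔛 h𝔛.1 n).push
  let L' := (FSch.levelMor 𝔜 h𝔜.1 n).push
  haveI : P.IsRightAdjoint := (FSch.homMor f h𝔛.1 h𝔜.1).adj.isRightAdjoint
  haveI : P.Additive := Functor.additive_of_preserves_binary_products _
  haveI : PreservesFiniteLimits P := inferInstance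
  haveI : P'.IsRightAdjoint := (Scheme.Modules.pullbackPushforwardAdjunction ((f : FSch.Hom 𝔛 𝔜).app n)).isRightAdjoint
  haveI : P'.Additive := Functor.additive_of_preserves_binary_products _
  haveI : PreservesFiniteLimits P' := inferInstance
  haveI : L'.IsRightAdjoint := (FSch.levelMor 𝔜 h𝔜.1 n).adj.isRightAdjoint
  haveI : L'.Additive := Functor.additive_of_preserves_binary_products _
  haveI : PreservesFiniteColimits L' := (L'.preservesFiniteColimits_tfae.out 0 3 rfl rfl).1 fun S hS => by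
    obtain ⟨w, hT⟩ := shortExact_level h𝔜 n hS
    exact ⟨hT.exact, hT.epi_g⟩
  let sq : L ⋙ P ≅ P' ⋙ L' := FSch.lvPushSq f h𝔛.1 h𝔜.1 n
  let e0 : L ⋙ P.rightDerived 0 ≅ P'.rightDerived 0 ⋙ L' :=
    Functor.isoWhiskerLeft L P.rightDerivedZeroIsoSelf ≪≫ sq ≪≫
      Functor.isoWhiskerRight P'.rightDerivedZeroIsoSelf.symm L'
  intro q
  induction q with
  | zero => exact fun G _ => ⟨e0.app G⟩
  | succ q ih =>
    intro G hG
    obtain ⟨J, i, hi, hJ, hJf⟩ := exists_flasque_qcoh_embedding G hG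
    haveI := hi
    let S : ShortComplex (𝔛.X n).Modules := ShortComplex.mk i (cokernel.π i) (cokernel.condition i)
    have hS : S.ShortExact := { exact := ShortComplex.exact_cokernel i, mono_f := hi, epi_g := inferInstanceAs (Epi (cokernel.π i)) }
    obtain ⟨w, hT⟩ := shortExact_level h𝔛 n hS
    have hz : ∀ p, 0 < p → IsZero ((P.rightDerived p).obj (L.obj J)) := fun p hp =>
      isZero_rpush_of_qcFlasque f h𝔛.1 h𝔜.1 _ (isQcFlasque_level h𝔛 n hJf) hp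
    have hz' : ∀ p, 0 < p → IsZero ((P'.rightDerived p).obj J) := fun p hp => isZero_rpush_flasque _ J hJf hp
    have he := RDerLib.exact₃ P (RDerLib.res hT) q (q + 1) rfl
    have he' := RDerLib.exact₃ P' (RDerLib.res hS) q (q + 1) rfl
    haveI := (RDerLib.exact₁ P (RDerLib.res hT) q (q + 1) rfl).epi_f ((hz _ q.succ_pos).eq_of_tgt _ _)
    haveI := (RDerLib.exact₁ P' (RDerLib.res hS) q (q + 1) rfl).epi_f ((hz' _ q.succ_pos).eq_of_tgt _ _)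
    let a := he.gIsCokernel.coconePointUniqueUpToIso (cokernelIsCokernel _)
    let a' := he'.gIsCokernel.coconePointUniqueUpToIso (cokernelIsCokernel _)
    rcases Nat.eq_zero_or_pos q with rfl | hq
    · exact ⟨a ≪≫ cokernel.mapIso _ _ (e0.app J) (e0.app (cokernel i)) (e0.hom.naturality S.g) ≪≫
        (PreservesCokernel.iso L' _).symm ≪≫ L'.mapIso a'.symm⟩
    · obtain ⟨e⟩ := ih (cokernel i) (QC.isQCoh_cokernel hG hJ i)
      have h0 : (P.rightDerived q).map (L.map S.g) = 0 := (hz q hq).eq_of_src _ _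
      have h0' : (P'.rightDerived q).map S.g = 0 := (hz' q hq).eq_of_src _ _
      exact ⟨a ≪≫ cokernelIsoOfEq h0 ≪≫ cokernelZeroIsoTarget ≪≫ e ≪≫
        L'.mapIso (a' ≪≫ cokernelIsoOfEq h0' ≪≫ cokernelZeroIsoTarget).symm⟩

theorem isCohF_rpush_qct [IsProper ((f : FSch.Hom 𝔛 𝔜).app 0)] (q : ℕ) (M : FSch.ModF 𝔛 h𝔛.1)
    (hc : FSch.IsCohF 𝔛 h𝔛.1 M) (hM : FTors.IsTorsF 𝔛 h𝔛.1 M) :
    FSch.IsCohF 𝔜 h𝔜.1 ((FSch.RpushF f h𝔛.1 h𝔜.1 q).obj M) := by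
  obtain ⟨n, G, hG, ⟨e⟩⟩ := exists_level h𝔛 M hc hM
  haveI : IsLocallyNoetherian (𝔜.X n) := h𝔜.2.2 n
  haveI := isProper_app h𝔛 h𝔜.1 f n
  haveI : IsGrothendieckAbelian.{u} (ModSite.Mod (𝔛.X n).sheaf) := KFlat.isGrothendieck _
  haveI : HasInjectiveResolutions (𝔛.X n).Modules :=
    show HasInjectiveResolutions (ModSite.Mod (𝔛.X n).sheaf) from inferInstance
  obtain ⟨e'⟩ := nonempty_rpush_level_iso (h𝔛 := h𝔛) (h𝔜 := h𝔜) f n q G hG.1
  exact ObjectProperty.IsClosedUnderIsomorphisms.of_iso (P := fun G : FSch.ModF 𝔜 h𝔜.1 => FSch.IsCohF 𝔜 h𝔜.1 G)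
    ((FSch.RpushF f h𝔛.1 h𝔜.1 q).mapIso e ≪≫ e').symm
    (isCohF_level h𝔜 n _ (CohFinite.isCoh_rpush _ G hG q))

attribute [local instance] HasDerivedCategory.standard

/-- coherent quasi-coherent torsion modules -/
abbrev CohQT {𝔛 : FSch.Sys.{u}} (h𝔛 : 𝔛.IsLocNoethFormal) : ObjectProperty (FSch.ModF 𝔛 h𝔛.1) :=
  fun M => FTors.IsQCT 𝔛 h𝔛.1 M ∧ FSch.IsCohF 𝔛 h𝔛.1 M

theorem isWeakSerre_cohQT {𝔛 : FSch.Sys.{u}} (h𝔛 : 𝔛.IsLocNoethFormal) [CompactSpace (𝔛.X 0)] :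
    WSerre.IsWeakSerre (CohQT h𝔛) := by
  haveI := isWeakSerre_qct (h𝔜 := h𝔛)
  let Q := FTors.IsQCT 𝔛 h𝔛.1
  have hcoh : ∀ {M : FSch.ModF 𝔛 h𝔛.1} (hM : Q M) {N : FSch.ModF 𝔛 h𝔛.1} (i : M ⟶ N) [Mono i],
      FSch.IsCohF 𝔛 h𝔛.1 N → FSch.IsCohF 𝔛 h𝔛.1 M := fun {M} hM {N} i _ hN =>
    haveI : SheafOfModules.IsQuasicoherent.{u} M := hM.2
    isCohF_of_mono_of_qcoh h𝔛 hN i
  have hepi : ∀ {M : FSch.ModF 𝔛 h𝔛.1} (hM : Q M) {N : FSch.ModF 𝔛 h𝔛.1} (p : N ⟶ M) [Epi p],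
      FSch.IsCohF 𝔛 h𝔛.1 N → FSch.IsCohF 𝔛 h𝔛.1 M := fun {M} hM {N} p _ hN =>
    haveI : SheafOfModules.IsQuasicoherent.{u} M := hM.2
    isCohF_of_epi_of_qcoh h𝔛 hN p
  exact
    { exists_zero := by
        obtain ⟨Z, hZ, hPZ⟩ := Q.exists_prop_of_containsZero
        obtain ⟨n, G, hG⟩ : ∃ (n : ℕ) (G : (𝔛.X n).Modules), IsZero G :=
          ⟨0, cokernel (𝟙 (SheafOfModules.unit (𝔛.X 0).ringCatSheaf)), isZero_cokernel_of_epi _⟩
        refine ⟨Z, hZ, hPZ, ?_⟩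
        haveI : SheafOfModules.IsQuasicoherent.{u} Z := hPZ.2
        haveI : SheafOfModules.IsFiniteType.{u} (R := ModSite.ringSh (𝔛.Osh h𝔛.1)) Z := by
          refine RSFin.isFiniteType_of_forall _ fun x => ⟨⊤, Fin 0, inferInstance, Fin.elim0, trivial, fun V hV t y hy => ?_⟩
          refine ⟨V, le_rfl, hy, ?_⟩
          rw [show RSFin.rs Z le_rfl t = RSFin.ap (𝟙 Z) V t from RSFin.rs_self Z le_rfl t, hZ.eq_of_src (𝟙 Z) 0,
            RSFin.ap_zero]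
          exact Submodule.zero_mem _
        exact isCohF_of_qcoh_of_isFiniteType h𝔛
      kernels_le := by
        rintro _ ⟨g, k, hk, hX, hY⟩
        have hq := Q.prop_of_isLimit_kernelFork hk hX.1 hY.1
        haveI : Mono k.ι := Fork.IsLimit.mono hk
        exact ⟨hq, hcoh hq k.ι hX.2⟩
      cokernels_le := by
        rintro _ ⟨g, k, hk, hX, hY⟩
        have hq := Q.prop_of_isColimit_cokernelCofork hk hX.1 hY.1
        haveI : Epi k.π := Cofork.IsColimit.epi hk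
        exact ⟨hq, hepi hq k.π hY.2⟩
      prop_X₂_of_shortExact := fun {S} hS h1 h3 => by
        have hq := Q.prop_X₂_of_shortExact hS h1.1 h3.1
        haveI := h1.2
        haveI := h3.2
        haveI : SheafOfModules.IsQuasicoherent.{u} S.X₂ := hq.2
        haveI := RSFin.isFiniteType_of_shortExact S hS
        exact ⟨hq, isCohF_of_qcoh_of_isFiniteType h𝔛⟩ }

variable [CompactSpace (𝔜.X 0)] [SiteCmp.HasRpushD (FSch.homMor f h𝔛.1 h𝔜.1)]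

theorem isCohF_hmod_rpush [IsProper ((f : FSch.Hom 𝔛 𝔜).app 0)] (K : DerivedCategory (FSch.ModF 𝔛 h𝔛.1))
    (hK : ∀ i : ℤ, CohQT h𝔛 (SiteCmp.HMod K i)) (j : ℤ) :
    FSch.IsCohF 𝔜 h𝔜.1 (SiteCmp.HMod ((SiteCmp.RpushD (FSch.homMor f h𝔛.1 h𝔜.1)).obj K) j) := by
  haveI : IsLocallyNoetherian (𝔛.X 0) := h𝔛.2.2 0
  haveI : IsNoetherian (𝔛.X 0) := ⟨⟩
  haveI : AlgebraicGeometry.QuasiCompact ((f : FSch.Hom 𝔛 𝔜).app 0) := ⟨fun U _ _ => NoetherianSpace.isCompact _⟩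
  obtain ⟨d, hd⟩ := exists_preimage_bound ((f : FSch.Hom 𝔛 𝔜).app 0)
  let t : Triangulated.TStructure (DerivedCategory (FSch.ModF 𝔛 h𝔛.1)) := DerivedCategory.TStructure.t
  let m : ℕ := ((d : ℤ) + 1 - j).toNat
  let T := (t.truncGE (-(m : ℤ))).obj K
  haveI hT : T.IsGE (-(m : ℤ)) := HDU.isGE_truncGE K _
  haveI := isWeakSerre_cohQT h𝔛
  haveI := isWeakSerre_cohQT h𝔜
  have hTq : WSerre.cohIn (CohQT h𝔛) T := fun k => by
    rcases lt_or_ge k (-(m : ℤ)) with hk | hk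
    · obtain ⟨Z, hZ, hPZ⟩ := (CohQT h𝔛).exists_prop_of_containsZero
      exact (CohQT h𝔛).prop_of_iso (hZ.iso ((DerivedCategory.isGE_iff _ _).1 hT k hk)) hPZ
    · have := HDU.isIso_H_truncGEπ K (-(m : ℤ)) k hk
      exact (CohQT h𝔛).prop_of_iso
        (asIso ((DerivedCategory.homologyFunctor _ k).map ((t.truncGEπ (-(m : ℤ))).app K))) (hK k)
  have hind := (Groth.Agent.S17053.result 𝔛 h𝔛).2
  haveI : IsIso ((DerivedCategory.homologyFunctor (FSch.ModF 𝔜 h𝔜.1) j).map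
      ((SiteCmp.RpushD (FSch.homMor f h𝔛.1 h𝔜.1)).map ((t.truncGEπ (-(m : ℤ))).app K))) :=
    isIso_H_rpush_of_high h𝔛 h𝔜.1 f _ (fun i => hind _ (hK i).1) (fun i => hind _ (hTq i).1) j m d (by omega)
      (fun i hi => HDU.isIso_H_truncGEπ K _ i hi) hd
  exact ((CohQT h𝔜).prop_of_iso
    (asIso ((DerivedCategory.homologyFunctor (FSch.ModF 𝔜 h𝔜.1) j).map
      ((SiteCmp.RpushD (FSch.homMor f h𝔛.1 h𝔜.1)).map ((t.truncGEπ (-(m : ℤ))).app K)))).symm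
    (RPushSite.cohIn_rpush_boundedBelow (FSch.homMor f h𝔛.1 h𝔜.1) (CohQT h𝔛) (CohQT h𝔜)
      (fun F hF p => ⟨(qt_rpush (h𝔜 := h𝔜) f p F (qt_of_isQCT h𝔛 hF.1.1 hF.1.2)).isQCT,
        isCohF_rpush_qct (h𝔛 := h𝔛) (h𝔜 := h𝔜) f p F hF.2 hF.1.1⟩) T _ hT hTq j)).2

end Groth.Agent.FSchCoh
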