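import Groth.Agent.FSchCoh.LimClose

/-!
# Kernels between unions of coherent submodules, and presentations on an affine formal scheme
-/

universe u

open CategoryTheory CategoryTheory.Limits AlgebraicGeometry TopologicalSpace Opposite
open Groth.Agent.RSFin (sc rsR Gen Rel spanOn leg)
open Groth.Agent.FSchCoh.LimGen (JointSurj)

set_option autoImplicit false
set_option backward.isDefEq.respectTransparency false
set_option linter.style.haveILetI false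

noncomputable section

namespace Groth.Agent.FSchCoh

variable {𝔛 : FSch.Sys.{u}} {h𝔛 : 𝔛.IsLocNoethFormal}

theorem isCohF_of_ker {K G Q : FSch.ModF 𝔛 h𝔛.1} (hG : FSch.IsCohF 𝔛 h𝔛.1 G) (hQ : Good h𝔛 Q) (ψ : G ⟶ Q)
    (i : K ⟶ G) [Mono i] (hz : ∀ (U : (𝔛.X 0).Opens) t, RSFin.ap ψ U (RSFin.ap i U t) = 0)
    (hlift : ∀ (U : (𝔛.X 0).Opens) t, RSFin.ap ψ U t = 0 → ∃ k, RSFin.ap i U k = t) :
    FSch.IsCohF 𝔛 h𝔛.1 K := by
  refine isCohF_of_mono h𝔛 hG i (RSFin.isFiniteType_of_forall _ fun x => ?_)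
  obtain ⟨U, hU, hxU, -⟩ := exists_isAffineOpen_mem_and_subset (X := 𝔛.X 0) (x := x) (U := ⊤) trivial
  obtain ⟨ι, hι, s, hs⟩ := exists_gen h𝔛 hG hU
  obtain ⟨κ, hκ, r, hr⟩ := hQ hU fun i => RSFin.ap ψ U (s i)
  choose k hk using fun l => hlift U (∑ i, r l i • s i) (by
    rw [map_sum, ← hr.1 l]
    exact Finset.sum_congr rfl fun i _ => map_smul _ _ _)
  refine ⟨U, κ, inferInstance, k, hxU, fun V hV t y hy => ?_⟩
  obtain ⟨W₁, hW₁, c, hyW₁, hc⟩ := hs.exists_fun hV (RSFin.ap i V t) hy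
  have h0 : ∑ i, c i • RSFin.rs Q (hW₁.trans hV) (RSFin.ap ψ U (s i)) = 0 := by
    have h1 := congrArg (RSFin.ap ψ W₁) hc
    rw [map_sum, RSFin.ap_rs, hz, map_zero] at h1
    refine Eq.trans (Finset.sum_congr rfl fun i _ => ?_) h1
    rw [map_smul, RSFin.ap_rs]
  obtain ⟨W, hW, hyW, hm⟩ := hr.2 (hW₁.trans hV) c h0 y hyW₁
  obtain ⟨d, hd⟩ := (Submodule.mem_span_range_iff_exists_fun _).1 hm
  refine ⟨W, hW.trans hW₁, hyW, (RSFin.mem_spanOn_iff _ _ _ _).2 ⟨d, RSFin.injective_of_mono i W ?_⟩⟩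
  rw [map_sum, RSFin.ap_rs, ← RSFin.rs_rs G hW hW₁, ← hc, map_sum]
  simp only [map_smul, RSFin.ap_rs, hk, map_sum, RSFin.rs_smul, RSFin.rs_rs, Finset.smul_sum, smul_smul]
  rw [Finset.sum_comm]
  refine Finset.sum_congr rfl fun i _ => ?_
  rw [← Finset.sum_smul]
  have := congrFun hd i
  simp only [Finset.sum_apply, Pi.smul_apply, smul_eq_mul] at this
  rw [this]

/-- the kernel of a map from a coherent module to a good one is coherent -/
theorem isCohF_kernel_of_good {G Q : FSch.ModF 𝔛 h𝔛.1} (hG : FSch.IsCohF 𝔛 h𝔛.1 G) (hQ : Good h𝔛 Q) (ψ : G ⟶ Q) :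
    FSch.IsCohF 𝔛 h𝔛.1 (kernel ψ) :=
  isCohF_of_ker hG hQ ψ (kernel.ι ψ)
    (fun U t => (RSFin.ap_comp _ _ _ _).symm.trans (by rw [kernel.condition]; exact RSFin.ap_zero _ _))
    fun U => (RSFin.kernel_sections ψ U).2

theorem good_of_mono {K P : FSch.ModF 𝔛 h𝔛.1} (i : K ⟶ P) [Mono i] (hP : Good h𝔛 P) : Good h𝔛 K := by
  intro U hU ι _ q
  obtain ⟨κ, hκ, r, hr⟩ := hP hU fun k => RSFin.ap i U (q k)
  refine ⟨κ, hκ, r, fun l => RSFin.injective_of_mono i U ?_, fun V h c hc x hx => hr.2 h c ?_ x hx⟩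
  · rw [map_zero, map_sum, ← hr.1 l]
    exact Finset.sum_congr rfl fun k _ => map_smul _ _ _
  · have := congrArg (RSFin.ap i V) hc
    rw [map_sum, map_zero] at this
    refine Eq.trans (Finset.sum_congr rfl fun k _ => ?_) this
    rw [map_smul, RSFin.ap_rs]

theorem limPres_of_ker {K P Q : FSch.ModF 𝔛 h𝔛.1} (φ : P ⟶ Q) (hP : LimPres h𝔛 P) (hQ : LimPres h𝔛 Q)
    (i : K ⟶ P) [Mono i] (hlift : ∀ (G : FSch.ModF 𝔛 h𝔛.1) (ψ : G ⟶ P), ψ ≫ φ = 0 → ∃ l, l ≫ i = ψ)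
    (hz : ∀ (U : (𝔛.X 0).Opens) t, RSFin.ap φ U (RSFin.ap i U t) = 0) :
    LimPres h𝔛 K := by
  have hgood : Good h𝔛 P := hP.good
  obtain ⟨J, _, _, D, hD, hm⟩ := hP
  let c : Cocone D.diag := ⟨P, D.ι⟩
  choose l hl using fun j => hlift _ (kernel.ι (leg c j ≫ φ) ≫ leg c j) (by rw [Category.assoc, kernel.condition])
  refine limPres_of_cover h𝔛 l (fun j => isCohF_kernel_of_good (hD j) hQ.good _) (fun V t x hx => ?_)
    fun U hU ι _ a g => good_of_mono i hgood hU _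
  obtain ⟨j, W, hW, a, hxW, ha⟩ := RSFin.exists_stage_germ D.diag c D.isColimit hx (RSFin.ap i V t)
  obtain ⟨b, hb⟩ := (RSFin.kernel_sections (leg c j ≫ φ) W).2 a (by rw [RSFin.ap_comp, ha, RSFin.ap_rs, hz, map_zero])
  refine ⟨W, hW, PUnit, inferInstance, fun _ => j, fun _ => b, hxW, RSFin.injective_of_mono i W ?_⟩
  rw [Finset.univ_unique, Finset.sum_singleton, ← RSFin.ap_comp, hl, RSFin.ap_comp, hb, ha, RSFin.ap_rs]

/-- unions of coherent submodules are closed under kernels -/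
theorem limPres_kernel {P Q : FSch.ModF 𝔛 h𝔛.1} (φ : P ⟶ Q) (hP : LimPres h𝔛 P) (hQ : LimPres h𝔛 Q) :
    LimPres h𝔛 (kernel φ) :=
  limPres_of_ker φ hP hQ (kernel.ι φ) (fun _ ψ w => ⟨kernel.lift φ ψ w, kernel.lift_ι _ _ _⟩)
    fun U t => (RSFin.ap_comp _ _ _ _).symm.trans (by rw [kernel.condition]; exact RSFin.ap_zero _ _)

/-- images are unions of coherent submodules -/
theorem limPres_image {P Q : FSch.ModF 𝔛 h𝔛.1} (φ : P ⟶ Q) (hP : LimPres h𝔛 P) (hQ : LimPres h𝔛 Q) :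
    LimPres h𝔛 (Abelian.image φ) :=
  limPres_kernel (cokernel.π φ) hQ (limPres_cokernel φ hP hQ)

theorem isCohF_unit (h𝔛 : 𝔛.IsLocNoethFormal) : FSch.IsCohF 𝔛 h𝔛.1 (FSch.unitF 𝔛 h𝔛.1) := isFinitePresentation_unit (𝔛.Osh h𝔛.1)

theorem limPres_free (α : Type u) : LimPres h𝔛 (SheafOfModules.free α : FSch.ModF 𝔛 h𝔛.1) :=
  limPres_sigma (fun _ : α => SheafOfModules.unit (ModSite.ringSh (𝔛.Osh h𝔛.1))) fun _ =>
    limPres_of_coh h𝔛 (isCohF_unit h𝔛)

/-- the module of sections as a global section -/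
def secTop {h : 𝔛.IsFormal} (F : FSch.ModF 𝔛 h) (t : ModSite.sect F ⊤) : F.sections :=
  PresheafOfModules.sectionsMk (fun U => RSFin.rs F (le_top : U.unop ≤ ⊤) t) fun _ _ f => by
    exact RSFin.rs_rs F (leOfHom f.unop) le_top t

theorem secTop_val {h : 𝔛.IsFormal} (F : FSch.ModF 𝔛 h) (t : ModSite.sect F ⊤) (U : (𝔛.X 0).Opens) :
    (secTop F t).val (op U) = RSFin.rs F (le_top : U ≤ ⊤) t := rfl

/-- on an affine formal scheme unions of coherent modules are generated by global sections -/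
theorem exists_free_epi (hX : IsAffineOpen (⊤ : (𝔛.X 0).Opens)) {F : FSch.ModF 𝔛 h𝔛.1} (hF : LimPres h𝔛 F) :
    ∃ π : (SheafOfModules.free (ModSite.sect F ⊤) : FSch.ModF 𝔛 h𝔛.1) ⟶ F, Epi π := by
  let σ : ModSite.sect F ⊤ → F.sections := secTop F
  refine ⟨F.freeHomEquiv.symm σ, ⟨fun {N} a b hab => hom_ext_basis (𝔛.X 0).isBasis_affineOpens fun U hU t => ?_⟩⟩
  have h1 := congrArg N.freeHomEquiv hab
  rw [SheafOfModules.freeHomEquiv_symm_comp, SheafOfModules.freeHomEquiv_symm_comp, Equiv.apply_symm_apply,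
    Equiv.apply_symm_apply] at h1
  show RSFin.ap a U t = RSFin.ap b U t
  refine RSFin.eq_of_locally N _ _ fun x hx => ?_
  obtain ⟨W, hW, hxW, hm⟩ := hF.gen_sections hX (le_top : U ≤ ⊤) t x hx
  obtain ⟨c, hc⟩ := Finsupp.mem_span_range_iff_exists_finsupp.1 hm
  refine ⟨W, hW, hxW, ?_⟩
  rw [← RSFin.ap_rs, ← RSFin.ap_rs, ← hc, Finsupp.sum, map_sum, map_sum]
  refine Finset.sum_congr rfl fun k _ => ?_
  rw [map_smul, map_smul]
  congr 1
  exact congrArg (fun s : N.sections => s.val (op W)) (congrFun h1 k)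

/-- on an affine formal scheme unions of coherent modules are cokernels of maps of free modules -/
theorem exists_presentation (hX : IsAffineOpen (⊤ : (𝔛.X 0).Opens)) {F : FSch.ModF 𝔛 h𝔛.1} (hF : LimPres h𝔛 F) :
    ∃ (α β : Type u) (φ : (SheafOfModules.free α : FSch.ModF 𝔛 h𝔛.1) ⟶ SheafOfModules.free β),
      Nonempty (cokernel φ ≅ F) := by
  obtain ⟨π, hπ⟩ := exists_free_epi hX hF
  obtain ⟨p, hp⟩ := exists_free_epi hX (limPres_kernel π (limPres_free _) hF)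
  exact ⟨_, _, p ≫ kernel.ι π, ⟨cokernelEpiComp p (kernel.ι π) ≪≫
    IsColimit.coconePointUniqueUpToIso (cokernelIsCokernel (kernel.ι π))
      (Abelian.epiIsCokernelOfKernel _ (limit.isLimit (parallelPair π 0)))⟩⟩

end Groth.Agent.FSchCoh
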