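import Groth.Agent.FSchCoh.Bound
import Groth.Agent.FSchCoh.RpushVanish
import Groth.Agent.RSFin.Colim
import Groth.Agent.TopQC.Colim
import Groth.Agent.AcycDef.SumPreserve
import Groth.Agent.QCAlg.Colim

/-!
# Direct images along morphisms of Noetherian formal schemes preserve coproducts
-/

universe u

open CategoryTheory CategoryTheory.Limits AlgebraicGeometry TopologicalSpace Opposite
open Groth.Agent.RSFin (ap rs ap_rs leg leg_w)

set_option autoImplicit false
set_option backward.isDefEq.respectTransparency false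
set_option linter.style.haveILetI false

noncomputable section

namespace Groth.Agent.FSchCoh

variable {𝔛 𝔜 : FSch.Sys.{u}} (f : 𝔛 ⟶ 𝔜) (h : 𝔛.IsFormal) (h' : 𝔜.IsFormal)
  [IsLocallyNoetherian (𝔛.X 0)] [CompactSpace (𝔛.X 0)]

theorem isCompact_open (W : (𝔛.X 0).Opens) : IsCompact (W : Set (𝔛.X 0)) := by
  haveI : IsNoetherian (𝔛.X 0) := ⟨⟩
  exact NoetherianSpace.isCompact _

theorem preservesColimitsOfShape_pushF_directed (ι : Type u) [Preorder ι] [IsDirected ι (· ≤ ·)] [Nonempty ι] :
    PreservesColimitsOfShape ι (FSch.pushF f h h') := by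
  refine ⟨fun {D} => preservesColimit_of_preserves_colimit_cocone (colimit.isColimit D) ?_⟩
  let P := FSch.pushF f h h'
  let cY := colimit.cocone (D ⋙ P)
  let φ := colimit.desc (D ⋙ P) (P.mapCocone (colimit.cocone D))
  have hleg : ∀ i, leg cY i ≫ φ = P.map (colimit.ι D i) := fun i => colimit.ι_desc _ _
  let c₀ := (SheafOfModules.toSheaf.{u} (ModSite.ringSh (𝔛.Osh h))).mapCocone (colimit.cocone D)
  have hX : IsColimit c₀ := isColimitOfPreserves _ (colimit.isColimit D)
  haveI : Mono φ := by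
    refine RSFin.mono_of_injective φ fun V => (injective_iff_map_eq_zero _).2 fun t ht => ?_
    refine RSFin.eq_zero_of_locally _ t fun x hx => ?_
    obtain ⟨i, W, hW, a, hxW, ha⟩ := RSFin.exists_stage_germ (D ⋙ P) cY (colimit.isColimit _) hx t
    refine ⟨W, hW, hxW, ?_⟩
    have h0 : ap (colimit.ι D i) (((f : FSch.Hom 𝔛 𝔜).app 0) ⁻¹ᵁ W) a = 0 := by
      change ap (P.map (colimit.ι D i)) W a = 0
      exact (congrArg (fun m => ap m W a) (hleg i)).symm.trans ((congrArg (ap φ W) ha).trans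
        ((ap_rs φ hW t).trans ((congrArg _ ht).trans (map_zero _))))
    obtain ⟨j, hij, hj⟩ := TopQC.exists_eq_zero (X := (𝔛.X 0).carrier)
      (F := D ⋙ SheafOfModules.toSheaf.{u} (ModSite.ringSh (𝔛.Osh h))) (c := c₀) hX _ (isCompact_open _) i a h0
    have hj' : ap ((D ⋙ P).map (homOfLE hij)) W a = 0 := hj
    exact ha.symm.trans ((congrArg (fun m => ap m W a) (leg_w cY (homOfLE hij))).symm.trans
      ((congrArg (ap (leg cY j) W) hj').trans (map_zero _)))
  haveI : Epi φ := by
    refine RSFin.epi_of_locally φ fun V t x hx => ?_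
    obtain ⟨i, a, ha⟩ := TopQC.exists_preimage (X := (𝔛.X 0).carrier)
      (F := D ⋙ SheafOfModules.toSheaf.{u} (ModSite.ringSh (𝔛.Osh h))) (c := c₀) hX
      (((f : FSch.Hom 𝔛 𝔜).app 0) ⁻¹ᵁ V) (isCompact_open _) t
    refine ⟨V, le_rfl, ap (leg cY i) V a, hx, ?_⟩
    exact (congrArg (fun m => ap m V a) (hleg i)).trans ((Eq.trans ha (RSFin.rs_self _ le_rfl t).symm))
  haveI : IsIso φ := isIso_of_mono_of_epi φ
  exact IsColimit.ofIsoColimit (colimit.isColimit (D ⋙ P)) (Cocone.ext (asIso φ) fun i => colimit.ι_desc _ _)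

theorem preservesCoproducts_pushF (κ : Type u) : PreservesColimitsOfShape (Discrete κ) (FSch.pushF f h h') := by
  haveI : IsGrothendieckAbelian.{u} (FSch.ModF 𝔛 h) := KFlat.isGrothendieck _
  haveI : IsGrothendieckAbelian.{u} (FSch.ModF 𝔜 h') := KFlat.isGrothendieck _
  haveI : (FSch.pushF f h h').Additive :=
    inferInstanceAs (SheafOfModules.pushforward.{u} _).Additive
  haveI : PreservesFiniteCoproducts (FSch.pushF f h h') := inferInstance
  haveI : HasColimitsOfSize.{u, u} (FSch.ModF 𝔛 h) := inferInstance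
  haveI : HasColimitsOfSize.{u, u} (FSch.ModF 𝔜 h') := inferInstance
  haveI hJX : ∀ (J : Type u) [SmallCategory J] [IsFiltered J], HasColimitsOfShape J (FSch.ModF 𝔛 h) :=
    fun J _ _ => inferInstance
  haveI hJY : ∀ (J : Type u) [SmallCategory J] [IsFiltered J], HasColimitsOfShape J (FSch.ModF 𝔜 h') :=
    fun J _ _ => inferInstance
  refine AcycDef.preservesCoproducts_of_filtered (FSch.pushF f h h') (fun J _ _ => ?_) κ
  obtain ⟨α, _, _, _, F, _⟩ := IsFiltered.exists_directed J
  haveI := preservesColimitsOfShape_pushF_directed f h h' α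
  exact Functor.Final.preservesColimitsOfShape_of_final F _

open scoped Classical in
theorem qcFlasque_coprod_injective {κ : Type u} (I : κ → FSch.ModF 𝔛 h) (hI : ∀ k, Injective (I k)) :
    TopQC.IsQcFlasque (X := (𝔛.X 0).carrier) (ModSite.toAb (∐ I)) := by
  haveI : IsGrothendieckAbelian.{u} (FSch.ModF 𝔛 h) := KFlat.isGrothendieck _
  refine TopQC.isQcFlasque_colimit (isColimitOfPreserves (SheafOfModules.toSheaf.{u} (ModSite.ringSh (𝔛.Osh h)))
    (CoproductsFromFiniteFiltered.isColimitFiniteSubproductsCocone I)) fun T => ?_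
  haveI : ∀ x : T, Injective (I x.1.as) := fun x => hI _
  haveI : Fintype T := FinsetCoe.fintype T
  haveI := HasBiproduct.of_hasCoproduct fun x : T => I x.1.as
  haveI : Injective (⨁ fun x : T => I x.1.as) := inferInstance
  haveI h' : Injective (∐ fun x : T => I x.1.as) :=
    Injective.of_iso (biproduct.isoCoproduct (fun x : T => I x.1.as)) inferInstance
  haveI : Injective ((CoproductsFromFiniteFiltered.liftToFinsetObj (Discrete.functor I)).obj T) := h'
  haveI : TopCat.Sheaf.IsFlasque (ModSite.toAb ((CoproductsFromFiniteFiltered.liftToFinsetObj (Discrete.functor I)).obj T)) :=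
    isFlasque_toAb_injective (X := (𝔛.X 0).carrier) (𝔛.Osh h) _
  exact @TopQC.isQcFlasque_of_flasque (𝔛.X 0).carrier _ this

theorem isZero_rpush_of_qcFlasque [HasInjectiveResolutions (FSch.ModF 𝔛 h)] (M : FSch.ModF 𝔛 h)
    (hM : TopQC.IsQcFlasque (X := (𝔛.X 0).carrier) (ModSite.toAb M)) {i : ℕ} (hi : 0 < i) :
    IsZero ((FSch.RpushF f h h' i).obj M) := by
  obtain ⟨p, rfl⟩ : ∃ p, i = p + 1 := ⟨i - 1, by omega⟩
  exact isZero_rpushF_of_locKilled f h h' M (p + 1) (CohQC.locKilled_of_basis _ (ModSite.toAb M) (p + 1)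
    Set.univ (fun V y hy => ⟨V, trivial, hy, le_rfl⟩)
    fun W _ => TopQC.subsingleton_HU_of_isQcFlasque p _ hM _ (isCompact_open _))

end Groth.Agent.FSchCoh
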