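import Groth.Agent.FSchCoh.Coh
import Groth.Agent.FSchCoh.Level
import Groth.Agent.LimMilnor.Formal
import Groth.Agent.CohQC.Push
import Groth.Agent.TopQC.Colim
import Groth.Agent.QCAlg.Colim

/-!
# Vanishing of the higher cohomology of coherent modules over affine opens of a formal scheme
-/

universe u

open CategoryTheory CategoryTheory.Limits AlgebraicGeometry TopologicalSpace Opposite
open Groth.Agent.SiteCoh

set_option autoImplicit false
set_option backward.isDefEq.respectTransparency false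
set_option linter.style.haveILetI false

noncomputable section

namespace Groth.Agent.FSchCoh

attribute [local instance] Abelian.hasFiniteBiproducts

theorem hu_push_top {X Y : TopCat.{u}} (g : X ⟶ Y) (F : CohTop.Ab X)
    (hF : DirectAcyclic (Opens.grothendieckTopology Y) (Opens.map g) F) (V : Opens Y) (p : ℕ) :
    Nonempty (CohSite.HU F p ((Opens.map g).obj V) ≃+ CohSite.HU ((CohTop.push g).obj F) p V) :=
  hu_compare_class (CohTop.push g) (U := (Opens.map g).obj V) (U' := V)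
    (fun _ => AddEquiv.refl _) (fun _ _ => rfl)
    (DirectAcyclic (Opens.grothendieckTopology Y) (Opens.map g))
    (fun _ hG => directAcyclic_shortExact (Opens.map g) hG)
    (fun I hI q => @push_injective_acyclic _ _ g I hI V q)
    (fun _ hG => directAcyclic_quotient (Opens.map g) hG) p F hF

variable (𝔛 : FSch.Sys.{u}) (h : 𝔛.IsFormal)

theorem hu_level_push_vanish (n : ℕ) (G : (𝔛.X n).Modules) [G.IsQuasicoherent] {U : (𝔛.X 0).Opens}
    (hU : IsAffineOpen U) (q : ℕ) :
    Subsingleton (CohSite.HU (ModSite.toAb ((FSch.levelMor 𝔛 h n).push.obj G)) (q + 1) U) := by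
  have hd : DirectAcyclic (Opens.grothendieckTopology (𝔛.X 0)) (Opens.map (𝔛.gInv h n)) (Coh.toAb G) :=
    fun m => CohQC.locKilled_of_basis (𝔛.gInv h n) (Coh.toAb G) (m + 1) {W | IsAffineOpen (X := 𝔛.X 0) W}
      (fun V y hy => CohQC.exists_affine_le V y hy)
      (fun W hW => CohQC.hu_vanish_of_isAffineOpen G (FSchAff.isAffineOpen_lvU 𝔛 h hW n) m)
  obtain ⟨e⟩ := hu_push_top (𝔛.gInv h n) (Coh.toAb G) hd U (q + 1)
  haveI : Subsingleton (CohSite.HU (Coh.toAb G) (q + 1) ((Opens.map (𝔛.gInv h n)).obj U)) :=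
    CohQC.hu_vanish_of_isAffineOpen G (FSchAff.isAffineOpen_lvU 𝔛 h hU n) q
  exact e.toEquiv.symm.subsingleton

theorem preservesLimitsOfShape_toAb :
    PreservesLimitsOfShape ℕᵒᵖ (SheafOfModules.toSheaf.{u} (ModSite.ringSh (𝔛.Osh h))) := by
  haveI : PreservesLimitsOfShape ℕᵒᵖ (SheafOfModules.toSheaf.{u} (ModSite.ringSh (𝔛.Osh h)) ⋙
      sheafToPresheaf _ AddCommGrpCat.{u}) :=
    inferInstanceAs (PreservesLimitsOfShape ℕᵒᵖ (SheafOfModules.forget.{u} (ModSite.ringSh (𝔛.Osh h)) ⋙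
      PresheafOfModules.toPresheaf _))
  exact preservesLimitsOfShape_of_reflects_of_preserves _ (sheafToPresheaf _ AddCommGrpCat.{u})

theorem realMod_acyclic (𝔐 : FSch.ModSys 𝔛) (hM : 𝔐.IsCoh) {U : (𝔛.X 0).Opens} (hU : IsAffineOpen U) (p : ℕ) :
    Subsingleton (CohSite.HU (ModSite.toAb (𝔐.realMod h)) (p + 1) U) := by
  letI := BrownDerived.smallDerived (Sheaf (Opens.grothendieckTopology (𝔛.X 0)) AddCommGrpCat.{u})
  let G := FSch.levelSysOf 𝔛 h 𝔐.F 𝔐.toPush
  let F := G ⋙ SheafOfModules.toSheaf (ModSite.ringSh (𝔛.Osh h))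
  let K := fun n : ℕ => (DerivedCategory.singleFunctor (Sheaf (Opens.grothendieckTopology (𝔛.X 0)) AddCommGrpCat.{u}) 0).obj (F.obj (op n))
  haveI : HasProduct K :=
    have := HDU.hasProduct_derived (A := Sheaf (Opens.grothendieckTopology (𝔛.X 0)) AddCommGrpCat.{u}) (T := ULift.{u} ℕ) (fun n => K n.down)
    hasLimit_of_iso (F := (Discrete.equivalence (Equiv.ulift.{u}.symm : ℕ ≃ ULift.{u} ℕ)).functor ⋙
        Discrete.functor fun n : ULift.{u} ℕ => K n.down)
      (Discrete.natIso fun _ => Iso.refl _)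
  let t := fun n : ℕ => F.map (homOfLE (Nat.le_succ n)).op
  have key := (HDU.isRlim_single_limit (fun n => F.obj (op n)) t {V : (𝔛.X 0).Opens | IsAffineOpen V}
    (LimMilnor.affines_cover (𝔛.X 0))
    (fun V hV q n => by
      haveI : (𝔐.F n).IsQuasicoherent := (hM n).1
      exact hu_level_push_vanish 𝔛 h n (𝔐.F n) hV q)
    (fun V hV => HDU.exists_limOne_of_eventually_surjective _ _ 0 fun n _ => by
      intro z
      obtain ⟨y, hy⟩ := transM_surjective 𝔛 h 𝔐 hM hV n z
      refine ⟨y, Eq.trans ?_ hy⟩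
      change app (G.map (homOfLE (Nat.le_add_right n 1)).op) V y = _
      rw [FSch.levelSysOf_map_succ]
      rfl)).2 U hU p
  haveI := preservesLimitsOfShape_toAb 𝔛 h
  let eF : CohCx.opSequence (fun n => F.obj (op n)) t ≅ F :=
    NatIso.ofComponents (fun n => Iso.refl _) (fun {Y Z} g => by
      let η : CohCx.opSequence (fun n => F.obj (op n)) t ⟶ F :=
        NatTrans.ofOpSequence (fun n => 𝟙 _) fun n => by
          simp only [CohCx.opSequence, Functor.ofOpSequence_map_homOfLE_succ, Category.comp_id, Category.id_comp]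
          rfl
      exact η.naturality g)
  exact HDU.subsingleton_hu_of_iso
    (HasLimit.isoOfNatIso eF ≪≫ (preservesLimitIso (SheafOfModules.toSheaf (ModSite.ringSh (𝔛.Osh h))) G).symm) (p + 1) U key

/-- Coherent modules are acyclic on the affine opens. -/
theorem coh_acyclic (h𝔛 : 𝔛.IsLocNoethFormal) (F : FSch.ModF 𝔛 h) (hF : FSch.IsCohF 𝔛 h F)
    {U : (𝔛.X 0).Opens} (hU : IsAffineOpen U) (p : ℕ) :
    Subsingleton (CohSite.HU (ModSite.toAb F) (p + 1) U) := by
  letI := BrownDerived.smallDerived (Sheaf (Opens.grothendieckTopology (𝔛.X 0)) AddCommGrpCat.{u})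
  haveI : IsIso (toReal 𝔛 h F) := isIso_toReal h𝔛 hF
  exact HDU.subsingleton_hu_of_iso ((SheafOfModules.toSheaf _).mapIso (asIso (toReal 𝔛 h F))).symm (p + 1) U
    (realMod_acyclic 𝔛 h (pullSys 𝔛 h F) (isCoh_pullSys 𝔛 h F h𝔛 hF) hU p)

theorem isZero_of_isColimit_isZero {J : Type*} [Category J] {C : Type*} [Category C] [HasZeroMorphisms C]
    {F : J ⥤ C} {c : Cocone F} (hc : IsColimit c) (hz : ∀ j, IsZero (F.obj j)) : IsZero c.pt :=
  (IsZero.iff_id_eq_zero c.pt).2 (hc.hom_ext fun j => (hz j).eq_of_src _ _)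

/-- Filtered colimits of coherent modules are acyclic on the affine opens. -/
theorem ind_acyclic (h𝔛 : 𝔛.IsLocNoethFormal) (F : FSch.ModF 𝔛 h)
    (hF : (ObjectProperty.ind.{u} fun G : FSch.ModF 𝔛 h => FSch.IsCohF 𝔛 h G) F)
    {U : (𝔛.X 0).Opens} (hU : IsAffineOpen U) (p : ℕ) :
    Subsingleton (CohSite.HU (ModSite.toAb F) (p + 1) U) := by
  obtain ⟨J, _, _, P, hP⟩ := hF
  obtain ⟨α, _, _, _, e, _⟩ := IsFiltered.exists_directed J
  haveI : IsLocallyNoetherian (𝔛.X 0) := h𝔛.2.2 0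
  let T := SheafOfModules.toSheaf.{u} (ModSite.ringSh (𝔛.Osh h))
  let H : CohTop.Ab (𝔛.X 0).carrier ⥤ AddCommGrpCat.{u} :=
    (Sheaf.cohomologyPresheafFunctor (Opens.grothendieckTopology (𝔛.X 0)) (p + 1)).flip.obj (op U)
  haveI : PreservesColimitsOfShape α H := TopQC.preservesColimitsOfShape_HU U hU.isCompact (p + 1)
  let P' := P.reindex e
  have hz : IsZero (H.obj (T.obj F)) :=
    isZero_of_isColimit_isZero (isColimitOfPreserves H (isColimitOfPreserves T P'.isColimit)) fun a =>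
      @AddCommGrpCat.isZero_of_subsingleton _ (coh_acyclic 𝔛 h h𝔛 _ (hP (e.obj a)) hU p)
  exact AddCommGrpCat.subsingleton_of_isZero hz

end Groth.Agent.FSchCoh
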