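import Groth.Agent.FSchCoh.Level
import Groth.Agent.RSFin.FP
import Groth.Agent.QC.Sections

/-!
# Distinguished opens of a formal scheme inside an affine open
-/

universe u

open CategoryTheory CategoryTheory.Limits AlgebraicGeometry TopologicalSpace Opposite
open Groth.Agent.RSFin (sc rsR rs)

set_option autoImplicit false
set_option backward.isDefEq.respectTransparency false
set_option linter.style.haveILetI false

noncomputable section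

namespace Groth.Agent.FSchCoh

variable (𝔛 : FSch.Sys.{u}) (h : 𝔛.IsFormal)

theorem lvU_zero (U : (𝔛.X 0).Opens) : 𝔛.lvU h 0 U = U := by
  have e : 𝔛.gInv h 0 = 𝟙 _ := by
    have := 𝔛.toX_base_gInv h 0
    simpa [FSch.Sys.toX] using this
  show (Opens.map (𝔛.gInv h 0)).obj U = U
  rw [e]
  rfl

/-- `W` is the distinguished open of `a` inside `U`, at every level -/
structure IsDist (U : (𝔛.X 0).Opens) (a : OA 𝔛 h U) (W : (𝔛.X 0).Opens) : Prop where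
  le : W ≤ U
  affine : IsAffineOpen W
  level : ∀ n, 𝔛.lvU h n W = (𝔛.X n).basicOpen (projR 𝔛 h U n a)

theorem preimage_basicOpen (U : (𝔛.X 0).Opens) (a : OA 𝔛 h U) (n : ℕ) :
    𝔛.ι n ⁻¹ᵁ (𝔛.X (n + 1)).basicOpen (projR 𝔛 h U (n + 1) a) = (𝔛.X n).basicOpen (projR 𝔛 h U n a) := by
  rw [Scheme.preimage_basicOpen, ← transR_projR 𝔛 h U n a]
  show _ = (𝔛.X n).basicOpen ((𝔛.ι n).appLE _ _ (𝔛.lvU_le h n U) _)
  rw [Scheme.Hom.appLE, CommRingCat.comp_apply, Scheme.basicOpen_res]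
  refine (inf_eq_right.2 ((Scheme.basicOpen_le _ _).trans (𝔛.lvU_succ h n U).le)).symm

theorem exists_dist {U : (𝔛.X 0).Opens} (hU : IsAffineOpen U) {V : (𝔛.X 0).Opens} (hV : V ≤ U)
    {x : 𝔛.X 0} (hx : x ∈ V) :
    ∃ (a : OA 𝔛 h U) (W : (𝔛.X 0).Opens), x ∈ W ∧ W ≤ V ∧ IsDist 𝔛 h U a W := by
  have h0 := lvU_zero 𝔛 h U
  obtain ⟨f, hfV, hxf⟩ := (FSchAff.isAffineOpen_lvU 𝔛 h hU 0).exists_basicOpen_le (⟨x, hx⟩ : V)
    (h0.symm ▸ hV hx)
  obtain ⟨a, rfl⟩ := projR_surjective 𝔛 h hU 0 f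
  let W := (𝔛.X 0).basicOpen (projR 𝔛 h U 0 a)
  refine ⟨a, W, hxf, hfV, hfV.trans hV, (FSchAff.isAffineOpen_lvU 𝔛 h hU 0).basicOpen _, fun n => ?_⟩
  induction n with
  | zero => exact lvU_zero 𝔛 h W
  | succ n ih =>
    refine TopologicalSpace.Opens.ext (Set.preimage_injective.2 (h n).2 ?_)
    exact congrArg (fun O : (𝔛.X n).Opens => (O : Set (𝔛.X n)))
      ((𝔛.lvU_succ h n W).trans (ih.trans (preimage_basicOpen 𝔛 h U a n).symm))

variable {𝔛 h} {U W : (𝔛.X 0).Opens}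

theorem projR_rsR (hW : W ≤ U) (n : ℕ) (a : OA 𝔛 h U) :
    projR 𝔛 h W n (rsR hW a) =
      QC.resO (𝔛.X n) ((Opens.map (𝔛.gInv h n)).monotone hW) (projR 𝔛 h U n a) :=
  NatTrans.naturality_apply (𝔛.OshProj h n).hom (homOfLE hW).op a

theorem rsR_mem_pow (h𝔛 : 𝔛.IsLocNoethFormal) (hU : IsAffineOpen U) (hW : IsAffineOpen W) (e : W ≤ U) {n : ℕ}
    {a : OA 𝔛 h U} (ha : a ∈ JA 𝔛 h U ^ (n + 1)) : (rsR e a : OA 𝔛 h W) ∈ JA 𝔛 h W ^ (n + 1) := by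
  rw [← (main 𝔛 h h𝔛 hU).2.2 n, RingHom.mem_ker] at ha
  rw [← (main 𝔛 h h𝔛 hW).2.2 n, RingHom.mem_ker, projR_rsR, ha, map_zero]

theorem JA_le_jacobson (h𝔛 : 𝔛.IsLocNoethFormal) (hU : IsAffineOpen U) :
    JA 𝔛 h U ≤ Ideal.jacobson ⊥ := by
  haveI := (main 𝔛 h h𝔛 hU).2.1
  exact IsAdicComplete.le_jacobson_bot _

theorem IsDist.isUnit {a : OA 𝔛 h U} (d : IsDist 𝔛 h U a W) (h𝔛 : 𝔛.IsLocNoethFormal) :
    IsUnit (rsR d.le a : OA 𝔛 h W) := by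
  haveI := (main 𝔛 h h𝔛 d.affine).2.1
  have h0 : IsUnit (projR 𝔛 h W 0 (rsR d.le a)) := by
    rw [projR_rsR]
    have h1 := (RingedSpace.isUnit_res_basicOpen (𝔛.X 0).toRingedSpace (projR 𝔛 h U 0 a)).map
      (QC.resO (𝔛.X 0) (d.level 0).le)
    convert h1 using 1
    exact (QC.resO_resO (d.level 0).le ((𝔛.X 0).basicOpen_le _) _).symm
  haveI : IsLocalHom (projR 𝔛 h W 0) := by
    have hj : RingHom.ker (projR 𝔛 h W 0) ≤ Ideal.jacobson ⊥ := JA_le_jacobson h𝔛 d.affine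
    exact ⟨fun y hy => by
      obtain ⟨z, hz⟩ := projR_surjective 𝔛 h d.affine 0 ↑(hy.unit⁻¹)
      have h1 : y * z - 1 ∈ RingHom.ker (projR 𝔛 h W 0) := by
        rw [RingHom.mem_ker, map_sub, map_mul, hz, map_one, IsUnit.mul_val_inv, sub_self]
      have h2 := Ideal.mem_jacobson_bot.1 (hj h1) 1
      rw [mul_one, sub_add_cancel] at h2
      exact isUnit_of_mul_isUnit_left h2⟩
  exact isUnit_of_map_unit (projR 𝔛 h W 0) _ h0

end Groth.Agent.FSchCoh
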