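import Groth.Agent.FSchCoh.Level

/-!
# The inverse image of the module of a coherent system to a level
-/

universe u

open CategoryTheory CategoryTheory.Limits AlgebraicGeometry TopologicalSpace Opposite

set_option autoImplicit false
set_option backward.isDefEq.respectTransparency false
set_option linter.style.haveILetI false

noncomputable section

namespace Groth.Agent.FSchCoh

variable (𝔛 : FSch.Sys.{u}) (h : 𝔛.IsFormal) (n : ℕ)

/-- opens of a level are opens of the common space -/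
def opensBackIso : Opens.map (𝔛.toX n).base ⋙ Opens.map (𝔛.gInv h n) ≅ 𝟭 (𝔛.X n).Opens :=
  NatIso.ofComponents (fun W => eqToIso (by
    change (Opens.map (𝔛.gInv h n ≫ (𝔛.toX n).base)).obj W = W
    rw [FSch.Sys.gInv_toX_base]
    rfl)) fun _ => Subsingleton.elim _ _

theorem lvU_back (W : (𝔛.X n).Opens) : 𝔛.lvU h n ((Opens.map (𝔛.toX n).base).obj W) = W :=
  le_antisymm (leOfHom ((opensBackIso 𝔛 h n).hom.app W)) (leOfHom ((opensBackIso 𝔛 h n).inv.app W))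

variable {h n} {F G : (𝔛.X n).Modules} (θ : (FSch.levelMor 𝔛 h n).push.obj F ⟶ (FSch.levelMor 𝔛 h n).push.obj G)

/-- the map on sections of the level -/
def appL (U : (𝔛.X 0).Opens) : Γ(F, 𝔛.lvU h n U) →+ Γ(G, 𝔛.lvU h n U) :=
  (θ.val.app (op U)).hom.toAddMonoidHom

theorem appL_res {V U : (𝔛.X 0).Opens} (e : V ≤ U) (i : 𝔛.lvU h n V ⟶ 𝔛.lvU h n U) (x : Γ(F, 𝔛.lvU h n U)) :
    appL 𝔛 θ V (F.presheaf.map i.op x) = G.presheaf.map i.op (appL 𝔛 θ U x) := by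
  have := app_rs θ e x
  exact this

theorem appL_proj (V : (𝔛.X 0).Opens) (a : OA 𝔛 h V) (y : Γ(F, 𝔛.lvU h n V)) :
    appL 𝔛 θ V (projR 𝔛 h V n a • y) = projR 𝔛 h V n a • appL 𝔛 θ V y :=
  (θ.val.app (op V)).hom.map_smul a y

/-- a morphism of direct images is linear over the level -/
theorem app_smul_level (U : (𝔛.X 0).Opens) (r : RA 𝔛 h U n) (x : Γ(F, 𝔛.lvU h n U)) :
    appL 𝔛 θ U (r • x) = r • appL 𝔛 θ U x := by
  refine sect_ext (M := (FSch.levelMor 𝔛 h n).push.obj G) fun p hp => ?_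
  obtain ⟨V, hV, hpV, hVU⟩ := exists_isAffineOpen_mem_and_subset (X := 𝔛.X 0) (x := p) (U := U) hp
  have hVU' : V ≤ U := hVU
  refine ⟨V, hVU', hpV, ?_⟩
  let i : 𝔛.lvU h n V ⟶ 𝔛.lvU h n U := (Opens.map (𝔛.gInv h n)).map (homOfLE hVU')
  obtain ⟨a, ha⟩ := projR_surjective 𝔛 h hV n ((𝔛.X n).presheaf.map i.op r)
  change G.presheaf.map i.op (appL 𝔛 θ U (r • x)) = G.presheaf.map i.op (r • appL 𝔛 θ U x)
  rw [← appL_res 𝔛 θ hVU' i, Scheme.Modules.map_smul, Scheme.Modules.map_smul, ← ha, appL_proj,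
    appL_res 𝔛 θ hVU' i]

/-- the map of presheaves -/
def descPresheaf : F.presheaf ⟶ G.presheaf :=
  Functor.whiskerRight (NatTrans.op (opensBackIso 𝔛 h n).hom) F.presheaf ≫
    Functor.whiskerLeft (Opens.map (𝔛.toX n).base).op ((SheafOfModules.toSheaf _).map θ).hom ≫
    Functor.whiskerRight (NatTrans.op (opensBackIso 𝔛 h n).inv) G.presheaf

theorem descPresheaf_apply (W : (𝔛.X n).Opens) (x : Γ(F, W)) :
    (descPresheaf 𝔛 θ).app (op W) x = G.presheaf.map ((opensBackIso 𝔛 h n).inv.app W).op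
      (appL 𝔛 θ ((Opens.map (𝔛.toX n).base).obj W) (F.presheaf.map ((opensBackIso 𝔛 h n).hom.app W).op x)) := rfl

theorem descPresheaf_smul (W : (𝔛.X n).Opens) (r : Γ(𝔛.X n, W)) (x : Γ(F, W)) :
    (descPresheaf 𝔛 θ).app (op W) (r • x : Γ(F, W)) = r • (show Γ(G, W) from (descPresheaf 𝔛 θ).app (op W) x) := by
  have key : ∀ {W₁ W₂ : (𝔛.X n).Opens} (b : W₁ ⟶ W₂) (a : W₂ ⟶ W₁) (s : Γ(𝔛.X n, W₁)),
      (𝔛.X n).presheaf.map b.op ((𝔛.X n).presheaf.map a.op s) = s := fun {W₁ W₂} b a s => by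
    rw [← ConcreteCategory.comp_apply, ← Functor.map_comp, show a.op ≫ b.op = 𝟙 _ from Subsingleton.elim _ _,
      CategoryTheory.Functor.map_id]
    rfl
  rw [descPresheaf_apply, descPresheaf_apply]
  have e1 : ∀ (W' : (𝔛.X n).Opens) (b : W ⟶ W') (a : W' ⟶ W) (L : Γ(F, W') → Γ(G, W'))
      (hL : ∀ (s : Γ(𝔛.X n, W')) (y : Γ(F, W')), L (s • y) = s • L y),
      G.presheaf.map b.op (L (F.presheaf.map a.op (r • x))) = r • G.presheaf.map b.op (L (F.presheaf.map a.op x)) := by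
    intro W' b a L hL
    rw [Scheme.Modules.map_smul, hL, Scheme.Modules.map_smul, key]
  exact e1 _ _ _ (appL 𝔛 θ _) (app_smul_level 𝔛 θ _)

/-- a morphism of direct images comes from the level -/
def desc : F ⟶ G :=
  ⟨PresheafOfModules.homMk (descPresheaf 𝔛 θ) fun W r x => descPresheaf_smul 𝔛 θ W.unop r x⟩

theorem push_desc : (FSch.levelMor 𝔛 h n).push.map (desc 𝔛 θ) = θ := by
  refine hom_ext_basis (𝔛.X 0).isBasis_affineOpens fun U _ x => ?_
  let U' := (Opens.map (𝔛.toX n).base).obj (𝔛.lvU h n U)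
  have hU : U' = U := by
    show (Opens.map ((𝔛.toX n).base ≫ 𝔛.gInv h n)).obj U = U
    rw [FSch.Sys.toX_base_gInv]
    rfl
  show G.presheaf.map ((opensBackIso 𝔛 h n).inv.app _).op
      (app θ U' (F.presheaf.map ((opensBackIso 𝔛 h n).hom.app _).op x)) = app θ U x
  have e : (F.presheaf.map ((opensBackIso 𝔛 h n).hom.app (𝔛.lvU h n U)).op x :
      ModSite.sect ((FSch.levelMor 𝔛 h n).push.obj F) U') =
      rs ((FSch.levelMor 𝔛 h n).push.obj F) hU.le x := rfl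
  rw [e, app_rs]
  show G.presheaf.map _ (G.presheaf.map _ _) = _
  rw [← ConcreteCategory.comp_apply, ← Functor.map_comp]
  exact congrArg (fun f => f (app θ U x)) (G.presheaf.map_id _)

theorem push_map_injective (φ ψ : F ⟶ G)
    (e : (FSch.levelMor 𝔛 h n).push.map φ = (FSch.levelMor 𝔛 h n).push.map ψ) : φ = ψ := by
  refine Scheme.Modules.hom_ext _ _ fun W => ?_
  have key : ∀ W' : (𝔛.X n).Opens, W' = W → φ.app W' = ψ.app W' → φ.app W = ψ.app W := by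
    rintro _ rfl he; exact he
  refine key _ (lvU_back 𝔛 h n W) ?_
  ext x
  exact congrArg (fun θ => app θ ((Opens.map (𝔛.toX n).base).obj W) x) e

variable (h) (𝔐 : FSch.ModSys 𝔛)

theorem epi_realProj (h𝔛 : 𝔛.IsLocNoethFormal) (hM : 𝔐.IsCoh) (k : ℕ) :
    Epi (FSch.realProj 𝔛 h 𝔐.F 𝔐.toPush k) :=
  epi_of_basis (𝔛.X 0).isBasis_affineOpens _ fun _ hU => realProj_app_surjective 𝔛 h 𝔐 h𝔛 hM hU k

theorem proj_comp_bijective (h𝔛 : 𝔛.IsLocNoethFormal) (hM : 𝔐.IsCoh) (k : ℕ) (G : (𝔛.X k).Modules) :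
    Function.Bijective fun φ : 𝔐.F k ⟶ G =>
      FSch.realProj 𝔛 h 𝔐.F 𝔐.toPush k ≫ (FSch.levelMor 𝔛 h k).push.map φ := by
  haveI := epi_realProj 𝔛 h 𝔐 h𝔛 hM k
  constructor
  · intro φ ψ e
    exact push_map_injective 𝔛 φ ψ ((cancel_epi _).1 e)
  · intro ψ
    obtain ⟨θ, hθ⟩ := exists_factor (𝔛.X 0).isBasis_affineOpens (FSch.realProj 𝔛 h 𝔐.F 𝔐.toPush k) ψ
      fun U hU x hx => by
        have hx' : x ∈ LinearMap.ker (projM 𝔛 h 𝔐 U k) := hx
        rw [(main_mod 𝔛 h 𝔐 h𝔛 hM hU).2.2 k, ← (main 𝔛 h h𝔛 hU).2.2 k] at hx'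
        refine Submodule.smul_induction_on hx' (fun a ha y _ => ?_) fun y z hy hz => ?_
        · refine ((ψ.val.app (op U)).hom.map_smul a y).trans ?_
          show projR 𝔛 h U k a • (show Γ(G, 𝔛.lvU h k U) from app ψ U y) = 0
          rw [RingHom.mem_ker.1 ha, zero_smul]
        · show (ψ.val.app (op U)).hom (y + z) = 0
          rw [map_add]
          exact (congrArg₂ (· + ·) hy hz).trans (add_zero 0)
    exact ⟨desc 𝔛 θ, (congrArg _ (push_desc 𝔛 θ)).trans hθ⟩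

/-- The inverse image of the module of a coherent system to level `k` is the `k`-th module. -/
theorem isIso_pullProj (h𝔛 : 𝔛.IsLocNoethFormal) (hM : 𝔐.IsCoh) (k : ℕ) :
    IsIso (((FSch.levelMor 𝔛 h k).adj.homEquiv _ _).symm (FSch.realProj 𝔛 h 𝔐.F 𝔐.toPush k)) := by
  refine isIso_of_coyoneda_map_bijective _ fun G => ?_
  have e : (fun φ : 𝔐.F k ⟶ G => ((FSch.levelMor 𝔛 h k).adj.homEquiv _ _).symm
      (FSch.realProj 𝔛 h 𝔐.F 𝔐.toPush k) ≫ φ) = ((FSch.levelMor 𝔛 h k).adj.homEquiv _ _).symm ∘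
      fun φ => FSch.realProj 𝔛 h 𝔐.F 𝔐.toPush k ≫ (FSch.levelMor 𝔛 h k).push.map φ :=
    funext fun φ => ((FSch.levelMor 𝔛 h k).adj.homEquiv_naturality_right_symm _ φ).symm
  rw [e]
  exact ((FSch.levelMor 𝔛 h k).adj.homEquiv _ _).symm.bijective.comp (proj_comp_bijective 𝔛 h 𝔐 h𝔛 hM k G)

end Groth.Agent.FSchCoh
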