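import Groth.Agent.FSchCoh.RpushD
import Groth.Agent.CohQC.Relative

/-!
# Bounds for hypercohomology of complexes with ind-coherent cohomology
-/

universe u

open CategoryTheory CategoryTheory.Limits AlgebraicGeometry TopologicalSpace Opposite
open Groth.Agent.SiteCoh

set_option autoImplicit false
set_option backward.isDefEq.respectTransparency false
set_option linter.style.haveILetI false

attribute [local instance] HasDerivedCategory.standard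

noncomputable section

namespace Groth.Agent.FSchCoh

open Groth.Agent.CohQC

variable {X : Scheme.{u}}

/-- no higher cohomology on affine opens -/
def AffAcyc (M : CohTop.Ab X.carrier) : Prop :=
  ∀ V : X.Opens, IsAffineOpen V → ∀ q : ℕ, Subsingleton (CohSite.HU M (q + 1) V)

/-- On a compact open inside a quasi-separated one, cohomology of quasi-coherent modules on all basic
opens vanishes in high degrees. -/
theorem exists_bound_affAcyc (Ω : X.Opens) (hΩ : IsQuasiSeparated (Ω : Set X)) (U : X.Opens)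
    (hUc : IsCompact (U : Set X)) (hUΩ : U ≤ Ω) :
    ∃ d : ℕ, ∀ (M : CohTop.Ab X.carrier), AffAcyc M → ∀ p : ℕ, d ≤ p → ∀ g : Γ(X, U),
      Subsingleton (CohSite.HU (M) p (X.basicOpen g)) := by
  revert hUΩ
  refine compact_open_induction_on (P := fun U => U ≤ Ω → ∃ d : ℕ, ∀ (M : CohTop.Ab X.carrier), AffAcyc M →
    ∀ p : ℕ, d ≤ p → ∀ g : Γ(X, U), Subsingleton (CohSite.HU (M) p (X.basicOpen g))) U hUc ?_ ?_
  · exact fun _ => ⟨0, fun M _ p _ g => by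
      rw [show X.basicOpen g = ⊥ from le_bot_iff.mp (X.basicOpen_le g)]
      exact subsingleton_ext_bot _ p⟩
  rintro S hS ⟨V, hV⟩ ih hle
  obtain ⟨d, hd⟩ := ih (le_sup_left.trans hle)
  -- the overlap is covered by finitely many basic opens of `V`
  have hc : IsCompact ((S ⊓ V : X.Opens) : Set X) :=
    hΩ _ _ (le_sup_left.trans hle) S.2 hS (le_sup_right.trans hle) V.2 hV.isCompact
  have hloc : ∀ x : (S ⊓ V : X.Opens), ∃ f : Γ(X, V), X.basicOpen f ≤ S ⊓ V ∧ x.1 ∈ X.basicOpen f := fun x => by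
    obtain ⟨f, hf, hxf⟩ := hV.exists_basicOpen_le (V := S ⊓ V) x x.2.2
    exact ⟨f, hf, hxf⟩
  choose f hf hxf using hloc
  obtain ⟨s, hs⟩ := hc.elim_finite_subcover (fun x => (X.basicOpen (f x) : Set X))
    (fun x => (X.basicOpen (f x)).2) fun x hx => Set.mem_iUnion.mpr ⟨⟨x, hx⟩, hxf _⟩
  let e := s.equivFin
  refine ⟨max d (s.card + 1), fun M hM p hp g => ?_⟩
  obtain ⟨m, rfl⟩ : ∃ m, p = m + 1 := ⟨p - 1, by omega⟩
  let gS := QC.resO X (le_sup_left : S ≤ S ⊔ V) g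
  let gV := QC.resO X (le_sup_right : V ≤ S ⊔ V) g
  have eS : X.basicOpen gS = S ⊓ X.basicOpen g := X.basicOpen_res _ _
  have eV : X.basicOpen gV = V ⊓ X.basicOpen g := X.basicOpen_res _ _
  have esup : X.basicOpen g = X.basicOpen gS ⊔ X.basicOpen gV := by
    rw [eS, eV, ← inf_sup_right]
    exact (inf_eq_right.mpr (X.basicOpen_le g)).symm
  rw [esup]
  refine hu_sup (M) _ _ m ?_ (hd M hM _ (by omega) gS)
    (hM _ (hV.basicOpen _) m)
  have einf : X.basicOpen gS ⊓ X.basicOpen gV =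
      ⨆ i : Fin s.card, X.basicOpen (f (e.symm i).1) ⊓ X.basicOpen gV := by
    rw [eS, eV, ← iSup_inf_eq, inf_inf_inf_comm, inf_idem, ← inf_assoc]
    refine le_antisymm (le_inf (le_inf (fun x hx => ?_) (inf_le_left.trans inf_le_right)) inf_le_right)
      (inf_le_inf_right _ (inf_le_left.trans ?_))
    · obtain ⟨y, hy, hxy⟩ := Set.mem_iUnion₂.mp (hs hx.1)
      refine (Opens.mem_iSup (s := fun i : Fin s.card => X.basicOpen (f (e.symm i).1))).mpr ⟨e ⟨y, hy⟩, ?_⟩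
      rw [Equiv.symm_apply_apply]
      exact hxy
    · exact iSup_le fun i => hf _
  rw [einf]
  refine hu_iSup_vanish (M) {W : X.Opens | ∃ a : Γ(X, V), X.basicOpen a = W} ?_ ?_ s.card _
    (fun i => ⟨_, X.basicOpen_mul _ _⟩) m (by omega)
  · rintro _ ⟨a, rfl⟩ _ ⟨b, rfl⟩
    exact ⟨a * b, X.basicOpen_mul a b⟩
  · rintro _ ⟨a, rfl⟩ q
    exact hM _ (hV.basicOpen a) q

/-- a bound working for all preimages of a basis -/
theorem exists_preimage_bound {S : Scheme.{u}} (f : X ⟶ S) [QuasiCompact f] [QuasiSeparated f] [CompactSpace S] :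
    ∃ n : ℕ, ∀ V : S.Opens, ∃ (ι : Type u) (Z : ι → S.Opens) (g : ∀ j, Z j ⟶ V),
      Sieve.ofArrows Z g ∈ Opens.grothendieckTopology S V ∧ ∀ j (M : CohTop.Ab X.carrier), AffAcyc M →
        ∀ p : ℕ, n < p → Subsingleton (CohSite.HU M p (f ⁻¹ᵁ Z j)) := by
  obtain ⟨s, hs, e⟩ := (isCompact_iff_finite_and_eq_biUnion_affineOpens (X := S) (U := ⊤)).mp (by simpa using isCompact_univ)
  have := hs.fintype
  choose d hd using fun W : s => exists_bound_affAcyc (f ⁻¹ᵁ W.1.1) (f.isQuasiSeparated_preimage W.1.2.isQuasiSeparated)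
    (f ⁻¹ᵁ W.1.1) (f.isCompact_preimage W.1.2.isCompact) le_rfl
  refine ⟨Finset.univ.sup d, fun V => ⟨{B : S.Opens // B ≤ V ∧ ∃ (W : s) (g : Γ(S, W.1.1)), S.basicOpen g = B},
    Subtype.val, fun B => homOfLE B.2.1, fun y hy => ?_, ?_⟩⟩
  · obtain ⟨W, hW, hyW⟩ : ∃ W : S.affineOpens, ∃ _ : W ∈ s, y ∈ W.1 := by
      have : y ∈ (⊤ : S.Opens) := trivial
      rw [e] at this
      simpa [Opens.mem_iSup] using this
    obtain ⟨g, hg, hyg⟩ := W.2.exists_basicOpen_le (V := V) ⟨y, hy⟩ hyW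
    exact ⟨_, homOfLE hg, Sieve.ofArrows_mk _ _
      (⟨_, hg, ⟨W, hW⟩, g, rfl⟩ : {B : S.Opens // B ≤ V ∧ ∃ (W : s) (g : Γ(S, W.1.1)), S.basicOpen g = B}), hyg⟩
  · rintro ⟨_, -, W, g, rfl⟩ M hM p hp
    change Subsingleton (CohSite.HU M p (f ⁻¹ᵁ S.basicOpen g))
    rw [Scheme.preimage_basicOpen]
    exact hd W M hM p ((Finset.le_sup (Finset.mem_univ W)).trans hp.le) _

theorem isRlimVia_affine (𝔛 : FSch.Sys.{u}) (h𝔛 : 𝔛.IsLocNoethFormal) (G : DerivedCategory (FSch.ModF 𝔛 h𝔛.1))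
    (hG : ∀ i : ℤ, (ObjectProperty.ind.{u} fun H : FSch.ModF 𝔛 h𝔛.1 => FSch.IsCohF 𝔛 h𝔛.1 H)
      ((DerivedCategory.homologyFunctor (FSch.ModF 𝔛 h𝔛.1) i).obj G))
    [IsGrothendieckAbelian.{u} (ModSite.Mod (𝔛.Osh h𝔛.1))] [HasProduct (CohCx.truncTower G)] :
    CohCx.IsRlimVia (CohCx.truncTower G) (CohCx.truncTowerMap G) G (CohCx.toTruncTower G) := by
  refine HDU.isRlimVia_of_locally_bounded (HDU.modData (𝔛.Osh h𝔛.1)) G {W : (𝔛.X 0).Opens | IsAffineOpen W}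
    DQPush.exists_affine_cover fun V _ => ⟨fun _ => 0, fun T hT => ?_⟩
  refine ⟨{W : (𝔛.X 0).Opens // IsAffineOpen W ∧ ∃ h : W ≤ V, T.arrows (homOfLE h)}, Subtype.val,
    fun W => homOfLE W.2.2.1, fun W => W.2.2.2, fun x hx => ?_,
    fun W m k hk => van_affine 𝔛 h𝔛 G hG W.2.1 _ _ hk⟩
  obtain ⟨U', g, hg, hxU⟩ := hT x hx
  obtain ⟨_, ⟨W, hW, rfl⟩, hxW, hWU⟩ := (𝔛.X 0).isBasis_affineOpens.exists_subset_of_mem_open hxU U'.isOpen
  have hWV : W ≤ V := le_trans hWU g.le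
  have hmem : T.arrows (homOfLE hWV) := by
    convert T.downward_closed hg (homOfLE hWU) using 1
    exact Subsingleton.elim _ _
  exact ⟨W, homOfLE hWV, Sieve.ofArrows_mk _ _
    (⟨W, hW, hWV, hmem⟩ : {W : (𝔛.X 0).Opens // IsAffineOpen W ∧ ∃ h : W ≤ V, T.arrows (homOfLE h)}), hxW⟩

section Bound

variable (𝔛 : FSch.Sys.{u}) (h𝔛 : 𝔛.IsLocNoethFormal)

theorem affAcyc_of_ind {F : FSch.ModF 𝔛 h𝔛.1}
    (hF : (ObjectProperty.ind.{u} fun H : FSch.ModF 𝔛 h𝔛.1 => FSch.IsCohF 𝔛 h𝔛.1 H) F) :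
    AffAcyc (X := 𝔛.X 0) (ModSite.toAb F) :=
  fun _ hV q => ind_acyclic 𝔛 h𝔛.1 h𝔛 F hF hV q

/-- vanishing of hypercohomology above the bound, normalised -/
theorem subsingleton_hg_of_le_zero (G : DerivedCategory (FSch.ModF 𝔛 h𝔛.1))
    (hG : ∀ i : ℤ, (ObjectProperty.ind.{u} fun H : FSch.ModF 𝔛 h𝔛.1 => FSch.IsCohF 𝔛 h𝔛.1 H)
      ((DerivedCategory.homologyFunctor (FSch.ModF 𝔛 h𝔛.1) i).obj G))
    (hz : ∀ i : ℤ, 0 ≤ i → IsZero ((DerivedCategory.homologyFunctor (FSch.ModF 𝔛 h𝔛.1) i).obj G))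
    {U : (𝔛.X 0).Opens} {d : ℕ}
    (hU : ∀ M : CohTop.Ab (𝔛.X 0).carrier, AffAcyc (X := 𝔛.X 0) M → ∀ p : ℕ, d < p → Subsingleton (CohSite.HU M p U))
    (j : ℤ) (hj : (d : ℤ) ≤ j) : Subsingleton ((HDU.modData (𝔛.Osh h𝔛.1)).HG G j U) := by
  haveI : IsGrothendieckAbelian.{u} (ModSite.Mod (𝔛.Osh h𝔛.1)) := KFlat.isGrothendieck _
  haveI := RPushSite.hasProduct_truncTower G
  have hR := isRlimVia_affine 𝔛 h𝔛 G hG
  have hc := HDU.tower_conditions (HDU.modData (𝔛.Osh h𝔛.1)) G 0 j U fun n _ => by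
    obtain ⟨k, hk⟩ : ∃ k : ℕ, j + (n : ℤ) + 1 = (k : ℤ) := ⟨(j + (n : ℤ) + 1).toNat, by omega⟩
    rw [hk]
    exact HDU.modVan (𝔛.Osh h𝔛.1) _ k (by omega) U (hU _ (affAcyc_of_ind 𝔛 h𝔛 (hG _)) k (by omega))
  have h0 : IsZero (CohCx.truncTower G 0) := by
    refine (IsZero.iff_id_eq_zero _).2 ?_
    haveI : IsIso (0 : CohCx.truncTower G 0 ⟶ CohCx.truncTower G 0) := by
      rw [DerivedCategory.isIso_iff]
      intro i
      have hzi : IsZero ((DerivedCategory.homologyFunctor (FSch.ModF 𝔛 h𝔛.1) i).obj (CohCx.truncTower G 0)) := by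
        rcases le_or_gt 0 i with hi | hi
        · haveI := HDU.isIso_H_truncGEπ G (-((0 : ℕ) : ℤ)) i (by simpa using hi)
          exact (hz i hi).of_iso (asIso ((DerivedCategory.homologyFunctor (FSch.ModF 𝔛 h𝔛.1) i).map
            (CohCx.toTruncTower G 0))).symm
        · haveI : (CohCx.truncTower G 0).IsGE (-((0 : ℕ) : ℤ)) := HDU.isGE_truncGE G _
          exact DerivedCategory.isZero_of_isGE _ (-((0 : ℕ) : ℤ)) i (by simpa using hi)
      exact ⟨⟨0, hzi.eq_of_src _ _, hzi.eq_of_src _ _⟩⟩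
    rw [← IsIso.hom_inv_id (0 : CohCx.truncTower G 0 ⟶ CohCx.truncTower G 0), zero_comp]
  refine subsingleton_of_forall_eq 0 fun x => ?_
  exact (HDU.modData (𝔛.Osh h𝔛.1)).eq_zero_of_killed hR j 0 hc.1 hc.2 x
    (((shiftFunctor (DerivedCategory (FSch.ModF 𝔛 h𝔛.1)) j).map_isZero h0).eq_of_tgt _ _)

/-- vanishing of hypercohomology above the bound -/
theorem subsingleton_hg_of_le (G : DerivedCategory (FSch.ModF 𝔛 h𝔛.1))
    (hG : ∀ i : ℤ, (ObjectProperty.ind.{u} fun H : FSch.ModF 𝔛 h𝔛.1 => FSch.IsCohF 𝔛 h𝔛.1 H)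
      ((DerivedCategory.homologyFunctor (FSch.ModF 𝔛 h𝔛.1) i).obj G))
    (i₀ : ℤ) (hz : ∀ i : ℤ, i₀ ≤ i → IsZero ((DerivedCategory.homologyFunctor (FSch.ModF 𝔛 h𝔛.1) i).obj G))
    {U : (𝔛.X 0).Opens} {d : ℕ}
    (hU : ∀ M : CohTop.Ab (𝔛.X 0).carrier, AffAcyc (X := 𝔛.X 0) M → ∀ p : ℕ, d < p → Subsingleton (CohSite.HU M p U))
    (i : ℤ) (hi : i₀ + d ≤ i) : Subsingleton ((HDU.modData (𝔛.Osh h𝔛.1)).HG G i U) := by
  let D := DerivedCategory (FSch.ModF 𝔛 h𝔛.1)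
  let e : ∀ k : ℤ, (DerivedCategory.homologyFunctor (FSch.ModF 𝔛 h𝔛.1) (i₀ + k)).obj G ≅
      (DerivedCategory.homologyFunctor (FSch.ModF 𝔛 h𝔛.1) k).obj (G⟦i₀⟧) := fun k =>
    (((DerivedCategory.homologyFunctor (FSch.ModF 𝔛 h𝔛.1) 0).shiftIso i₀ k (i₀ + k) rfl).app G).symm
  have hG' : ∀ k : ℤ, (ObjectProperty.ind.{u} fun H : FSch.ModF 𝔛 h𝔛.1 => FSch.IsCohF 𝔛 h𝔛.1 H)
      ((DerivedCategory.homologyFunctor (FSch.ModF 𝔛 h𝔛.1) k).obj (G⟦i₀⟧)) := fun k =>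
    (ObjectProperty.ind.{u} fun H : FSch.ModF 𝔛 h𝔛.1 => FSch.IsCohF 𝔛 h𝔛.1 H).prop_of_iso (e k) (hG _)
  have h := subsingleton_hg_of_le_zero 𝔛 h𝔛 (G⟦i₀⟧) hG' (fun k hk => (hz _ (by omega)).of_iso (e k).symm)
    hU (i - i₀) (by omega)
  exact @Equiv.subsingleton _ _ (((shiftFunctorAdd' D i₀ (i - i₀) i (by omega)).app G).homToEquiv) h

theorem subsingleton_hom_unit_shift (G : DerivedCategory (FSch.ModF 𝔛 h𝔛.1)) (i : ℤ)
    (h : Subsingleton ((HDU.modData (𝔛.Osh h𝔛.1)).HG G i (⊤ : (𝔛.X 0).Opens))) :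
    Subsingleton (SiteCmp.inD (𝔛.Osh h𝔛.1) (FSch.unitF 𝔛 h𝔛.1) ⟶ G⟦i⟧) := by
  let O := 𝔛.Osh h𝔛.1
  let one : (ModSite.unit O).val.obj (op (⊤ : (𝔛.X 0).Opens)) := (1 : (ModSite.ringSh O).obj.obj (op ⊤))
  let a : HDU.freeMod O (⊤ : (𝔛.X 0).Opens) ⟶ ModSite.unit O := (HDU.modSec O _ _).symm one
  let F := HDU.freeMod O (⊤ : (𝔛.X 0).Opens)
  let s : F.val.obj (op ⊤) := HDU.modSec O ⊤ F (𝟙 F)
  let b : ModSite.unit O ⟶ F := F.unitHomEquiv.symm (PresheafOfModules.sectionsMk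
    (fun W => F.val.presheaf.map (homOfLE (le_top : W.unop ≤ ⊤)).op s) fun V W f => by
      change F.val.presheaf.map f (F.val.presheaf.map _ s) = _
      exact (ConcreteCategory.congr_hom (F.val.presheaf.map_comp _ f) s).symm)
  have hba : b ≫ a = 𝟙 _ := by
    refine (ModSite.unit O).unitHomEquiv.injective (Subtype.ext (funext fun W => ?_))
    have h1 : a.val.app (op ⊤) s = one :=
      ((HDU.modSec_comp O (𝟙 F) a).symm.trans (by rw [Category.id_comp])).trans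
        ((HDU.modSec O (⊤ : (𝔛.X 0).Opens) (ModSite.unit O)).apply_symm_apply one)
    have hb : b.val.app W (1 : (ModSite.ringSh O).obj.obj W) =
        F.val.presheaf.map (homOfLE (le_top : W.unop ≤ ⊤)).op s :=
      congrArg (fun t : F.sections => t.val W) (F.unitHomEquiv.apply_symm_apply _)
    change a.val.app W (b.val.app W (1 : (ModSite.ringSh O).obj.obj W)) = (1 : (ModSite.ringSh O).obj.obj W)
    rw [hb]
    refine (PresheafOfModules.naturality_apply a.val (homOfLE (le_top : W.unop ≤ ⊤)).op s).trans ?_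
    rw [h1]
    exact map_one ((ModSite.ringSh O).obj.map (homOfLE (le_top : W.unop ≤ ⊤)).op).hom
  let T := DerivedCategory.singleFunctor (FSch.ModF 𝔛 h𝔛.1) 0
  refine ⟨fun x y => ?_⟩
  have hxy : T.map a ≫ x = T.map a ≫ y := h.elim _ _
  have := congrArg (T.map b ≫ ·) hxy
  simpa [← Category.assoc, ← Functor.map_comp, hba] using this

end Bound

end Groth.Agent.FSchCoh
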