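import Groth.Agent.RSFin.FP

/-!
# Maps out of a module presented over an open
-/

set_option autoImplicit false
set_option linter.style.haveILetI false
set_option backward.isDefEq.respectTransparency false
set_option backward.isDefEq.respectTransparency.types false

universe u

open CategoryTheory Limits TopologicalSpace Opposite

noncomputable section

namespace Groth.Agent.FSchCoh

open Groth.Agent.RSFin

variable {X : TopCat.{u}} {O : TopCat.Sheaf CommRingCat.{u} X} {F N : ModSite.Mod O} {U : Opens X}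

theorem relHom_comp_homOfSec {ι κ : Type u} [Fintype ι] [Fintype κ] (r : κ → ι → sc O U)
    (q : ι → ModSite.sect N U) (hq : ∀ k, ∑ i, r k i • q i = 0) : relHom r ≫ homOfSec N q = 0 := by
  refine (ovr N U).freeHomEquiv.injective (funext fun k => ?_)
  ext ⟨W⟩
  have h : W.left ≤ U := leOfHom W.hom
  have key : QCAlg.mapSec (relHom r ≫ homOfSec N q) h
      (QCAlg.freeBasis (R := ModSite.ringSh O) κ k h) = 0 := by
    show QCAlg.mapSec (homOfSec N q) h (QCAlg.mapSec (relHom r) h
      (QCAlg.freeBasis (R := ModSite.ringSh O) κ k h)) = 0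
    rw [relHom, QCAlg.mapSec_freeBasis, QCAlg.mapSec_rs, homOfSec_comb]
    simp only [rs_self, hq, map_zero]
  exact key

theorem exists_slice_desc {ι κ : Type u} [Fintype ι] [Fintype κ] {s : ι → ModSite.sect F U}
    {r : κ → ι → sc O U} (hs : Gen F s) (hr : Rel F s r)
    (q : ι → ModSite.sect N U) (hq : ∀ k, ∑ i, r k i • q i = 0) :
    ∃ p : ovr F U ⟶ ovr N U, ∀ i, QCAlg.mapSec p (le_refl U) (s i) = q i := by
  haveI := epi_of_gen F s hs
  haveI := epi_relLift hr
  have h0 : kernel.ι (homOfSec F s) ≫ homOfSec N q = 0 := by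
    rw [← cancel_epi (kernel.lift (homOfSec F s) (relHom r) (relHom_comp hr)), ← Category.assoc,
      kernel.lift_ι, comp_zero]
    exact relHom_comp_homOfSec r q hq
  refine ⟨Abelian.epiDesc (homOfSec F s) (homOfSec N q) h0, fun i => ?_⟩
  have h1 := congrArg (fun g => QCAlg.mapSec g (le_refl U) (QCAlg.freeBasis ι i (le_refl U)))
    (Abelian.comp_epiDesc (homOfSec F s) (homOfSec N q) h0)
  simp only [homOfSec_basis, rs_self] at h1
  refine Eq.trans ?_ h1
  refine Eq.trans ?_ (show QCAlg.mapSec (Abelian.epiDesc (homOfSec F s) (homOfSec N q) h0) (le_refl U)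
      (QCAlg.mapSec (homOfSec F s) (le_refl U) (QCAlg.freeBasis ι i (le_refl U))) = _ from rfl)
  rw [homOfSec_basis, rs_self]

theorem exists_extend_hom (hN : ∀ V : Opens X, Function.Bijective (RSFin.rs N (inf_le_left : V ⊓ U ≤ V)))
    (p : ovr F U ⟶ ovr N U) :
    ∃ θ : F ⟶ N, ∀ (V : Opens X) (h : V ≤ U) (t : ModSite.sect F V), ap θ V t = QCAlg.mapSec p h t := by
  let e := fun V : Opens X => Equiv.ofBijective _ (hN V)
  let g : ∀ V : Opens X, ModSite.sect F V → ModSite.sect N V := fun V t =>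
    (e V).symm (QCAlg.mapSec p (inf_le_right : V ⊓ U ≤ U) (RSFin.rs F inf_le_left t))
  have hg : ∀ V t, RSFin.rs N (inf_le_left : V ⊓ U ≤ V) (g V t) =
      QCAlg.mapSec p (inf_le_right : V ⊓ U ≤ U) (RSFin.rs F inf_le_left t) := fun V t => (e V).apply_symm_apply _
  have gadd : ∀ V a b, g V (a + b) = g V a + g V b := fun V a b => by
    refine (hN V).1 ?_
    rw [map_add, hg, hg, hg, map_add]
    exact map_add (QCAlg.mapSec p (inf_le_right : V ⊓ U ≤ U)) _ _
  have gsmul : ∀ V (c : sc O V) a, g V (c • a) = c • g V a := fun V c a => by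
    refine (hN V).1 ?_
    rw [rs_smul, hg, hg, rs_smul]
    exact map_smul (QCAlg.mapSec p (inf_le_right : V ⊓ U ≤ U)) _ _
  have gres : ∀ {W V : Opens X} (h : W ≤ V) (t : ModSite.sect F V), g W (RSFin.rs F h t) = RSFin.rs N h (g V t) := by
    intro W V h t
    refine (hN W).1 ?_
    rw [hg, rs_rs]
    have h1 : RSFin.rs N (inf_le_left : W ⊓ U ≤ W) (RSFin.rs N h (g V t)) =
        RSFin.rs N (inf_le_inf_right U h) (RSFin.rs N (inf_le_left : V ⊓ U ≤ V) (g V t)) := by
      rw [rs_rs, rs_rs]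
    rw [h1, hg, ← rs_ovr N (inf_le_inf_right U h) inf_le_right, ← QCAlg.mapSec_rs, rs_ovr, rs_rs]
  let φ : F.val.presheaf ⟶ N.val.presheaf :=
    { app := fun V => AddCommGrpCat.ofHom (AddMonoidHom.mk' (g V.unop) (gadd V.unop))
      naturality := fun V W f => by
        ext t
        exact gres (leOfHom f.unop) t }
  refine ⟨⟨PresheafOfModules.homMk φ fun V c a => gsmul V.unop c a⟩, fun V h t => ?_⟩
  refine (hN V).1 ?_
  show RSFin.rs N (inf_le_left : V ⊓ U ≤ V) (g V t) = _
  rw [hg]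
  rw [← rs_ovr F inf_le_left h, QCAlg.mapSec_rs, rs_ovr]

theorem exists_desc {ι κ : Type u} [Fintype ι] [Fintype κ] {s : ι → ModSite.sect F U}
    {r : κ → ι → sc O U} (hs : Gen F s) (hr : Rel F s r)
    (hN : ∀ V : Opens X, Function.Bijective (RSFin.rs N (inf_le_left : V ⊓ U ≤ V)))
    (q : ι → ModSite.sect N U) (hq : ∀ k, ∑ i, r k i • q i = 0) :
    ∃ θ : F ⟶ N, ∀ i, ap θ U (s i) = q i := by
  obtain ⟨p, hp⟩ := exists_slice_desc hs hr q hq
  obtain ⟨θ, hθ⟩ := exists_extend_hom hN p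
  exact ⟨θ, fun i => (hθ U le_rfl _).trans (hp i)⟩

end Groth.Agent.FSchCoh
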