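import Groth.Agent.QC.OmegaAffineSect
import Groth.Agent.QC.Sections

/-!
# Spanning sections of a quasi-coherent module over an affine open, detected by maps
-/

universe u

open CategoryTheory CategoryTheory.Limits AlgebraicGeometry TopologicalSpace Opposite

set_option autoImplicit false
set_option backward.isDefEq.respectTransparency false
set_option linter.style.haveILetI false

noncomputable section

namespace Groth.Agent.FSchCoh

variable {X : Scheme.{u}}

theorem span_eq_top_of_kills {U : X.Opens} (hU : IsAffineOpen U) {F : X.Modules} (hF : Coh.IsQCoh F)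
    (S : Set Γ(F, U))
    (h : ∀ (G : X.Modules) (φ : F ⟶ G),
      (∀ V : X.Opens, Function.Bijective (G.presheaf.map (homOfLE (inf_le_left : V ⊓ U ≤ V)).op)) →
        (∀ x ∈ S, φ.app U x = 0) → φ = 0) :
    Submodule.span Γ(X, U) S = ⊤ := by
  haveI : (F.restrict hU.fromSpec).IsQuasicoherent := QC.isQCoh_restrict _ hF
  let eU := QC.secEquiv hU F ⊤ (QC.image_fromSpec_top hU)
  let F' := F.restrict hU.fromSpec
  obtain ⟨N, ⟨iN⟩⟩ : ∃ N : ModuleCat.{u} Γ(X, U), Nonempty (F' ≅ tilde N) := ⟨_, ⟨(QC.isoTildeΓ F').symm⟩⟩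
  haveI : IsIso (tilde.toOpen N ⊤) := inferInstance
  let ι₀ : N → Γ(F, U) := fun m => eU (iN.inv.app ⊤ (tilde.toOpen N ⊤ m))
  have hι₀ : Function.Bijective ι₀ :=
    eU.bijective.comp ((ConcreteCategory.bijective_of_isIso (iN.inv.app ⊤)).comp
      (ConcreteCategory.bijective_of_isIso (tilde.toOpen N ⊤)))
  have hlin : ∀ (a : Γ(X, U)) (m : N), ι₀ (a • m) = a • ι₀ m := fun a m => by
    show eU (iN.inv.app ⊤ (tilde.toOpen N ⊤ (a • m))) = _
    rw [map_smul, Scheme.Modules.smul_Spec_def, Scheme.Modules.Hom.app_smul, ← Scheme.Modules.smul_Spec_def,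
      QC.secEquiv_smul hU ⊤ (QC.image_fromSpec_top hU)]
    exact congrArg (· • _) (QC.resO_self _ a)
  let emb : Γ(F, U) → N := (Equiv.ofBijective ι₀ hι₀).symm
  have hemb : ∀ x, ι₀ (emb x) = x := (Equiv.ofBijective ι₀ hι₀).apply_symm_apply
  let P : Submodule Γ(X, U) N := Submodule.span Γ(X, U) (emb '' S)
  let qm : N ⟶ ModuleCat.of _ (N ⧸ P) := ModuleCat.ofHom P.mkQ
  let φ' : F' ⟶ tilde (ModuleCat.of _ (N ⧸ P)) := iN.hom ≫ (tilde.functor _).map qm
  let G : X.Modules := (Scheme.Modules.pushforward hU.fromSpec).obj (tilde (ModuleCat.of _ (N ⧸ P)))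
  let adj := Scheme.Modules.restrictAdjunction hU.fromSpec
  let φ : F ⟶ G := adj.homEquiv _ _ φ'
  have hG : ∀ V : X.Opens, Function.Bijective (G.presheaf.map (homOfLE (inf_le_left : V ⊓ U ≤ V)).op) := fun V => by
    show Function.Bijective ((tilde (ModuleCat.of _ (N ⧸ P))).presheaf.map ((Opens.map hU.fromSpec.base).map
      (homOfLE (inf_le_left : V ⊓ U ≤ V))).op)
    have : IsIso ((Opens.map hU.fromSpec.base).map (homOfLE (inf_le_left : V ⊓ U ≤ V))) :=
      ⟨homOfLE (fun x hx => ⟨hx, hU.fromSpec_preimage_self.ge (Opens.mem_top x)⟩),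
        Subsingleton.elim _ _, Subsingleton.elim _ _⟩
    exact ConcreteCategory.bijective_of_isIso _
  have htop : ∀ x : Γ(F, U), φ'.app ⊤ (eU.symm x) =
      tilde.toOpen (ModuleCat.of _ (N ⧸ P)) ⊤ (P.mkQ (emb x)) := fun x => by
    have h1 : iN.hom.app ⊤ (eU.symm x) = tilde.toOpen N ⊤ (emb x) := by
      have h2 : eU.symm x = iN.inv.app ⊤ (tilde.toOpen N ⊤ (emb x)) := by
        rw [AddEquiv.symm_apply_eq]
        exact (hemb x).symm
      rw [h2]
      exact congr(($(iN.inv_hom_id)).app ⊤ _)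
    show ((tilde.functor _).map qm).app ⊤ (iN.hom.app ⊤ (eU.symm x)) = _
    rw [h1]
    exact ConcreteCategory.congr_hom (tilde.toOpen_map_app qm ⊤) (emb x)
  have hz : φ = 0 := by
    refine h G φ hG fun x hx => ?_
    have hle : hU.fromSpec ⁻¹ᵁ U ≤ ⊤ := le_top
    have h1 : φ.app U x = φ'.app (hU.fromSpec ⁻¹ᵁ U)
        (F.presheaf.map (homOfLE (hU.fromSpec.image_preimage_le U)).op x) := by
      show (adj.homEquiv _ _ φ').app U x = _
      rw [Adjunction.homEquiv_unit]
      rfl
    have h2 : (F.presheaf.map (homOfLE (hU.fromSpec.image_preimage_le U)).op x : Γ(F', hU.fromSpec ⁻¹ᵁ U)) =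
        QC.res F' hle (eU.symm x) := by
      show _ = QC.res F (hU.fromSpec.image_mono hle) (QC.res F (QC.image_fromSpec_top hU).le x)
      rw [QC.res_res]
    have h3 : φ'.app ⊤ (eU.symm x) = 0 := by
      rw [htop x]
      refine (congrArg (tilde.toOpen _ ⊤).hom ?_).trans (map_zero _)
      exact (Submodule.Quotient.mk_eq_zero P).2 (Submodule.subset_span ⟨x, hx, rfl⟩)
    rw [h1, h2, ← QC.app_res, h3, map_zero]
  have hz' : φ' = 0 := (adj.homEquiv _ _).injective (hz.trans (by rw [Adjunction.homEquiv_unit]; simp))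
  refine eq_top_iff.2 fun x _ => ?_
  have h1 := htop x
  rw [hz'] at h1
  have h2 : P.mkQ (emb x) = 0 :=
    (ConcreteCategory.bijective_of_isIso (tilde.toOpen (ModuleCat.of _ (N ⧸ P)) ⊤)).1 (h1.symm.trans (map_zero _).symm)
  have h3 : emb x ∈ P := (Submodule.Quotient.mk_eq_zero P).1 h2
  have h4 : ∀ y ∈ P, ι₀ y ∈ Submodule.span Γ(X, U) S := by
    intro y hy
    induction hy using Submodule.span_induction with
    | mem y hy => obtain ⟨z, hz, rfl⟩ := hy; rw [hemb]; exact Submodule.subset_span hz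
    | zero => simp only [ι₀, map_zero]; exact zero_mem _
    | add a b _ _ ha hb => simp only [ι₀, map_add]; exact add_mem ha hb
    | smul a b _ hb => rw [hlin]; exact Submodule.smul_mem _ a hb
  exact hemb x ▸ h4 _ h3

end Groth.Agent.FSchCoh
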