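import Groth.Agent.QC.Sections
import Groth.Agent.QC.Pullback

/-!
# A module on a scheme with prescribed sections over an affine open
-/

universe u

open CategoryTheory CategoryTheory.Limits AlgebraicGeometry TopologicalSpace Opposite

set_option autoImplicit false
set_option backward.isDefEq.respectTransparency false
set_option linter.style.haveILetI false

noncomputable section

namespace Groth.Agent.FSchCoh

variable {X : Scheme.{u}}

theorem exists_test {U : X.Opens} (hU : IsAffineOpen U) {ι : Type*} [Fintype ι]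
    (S : Submodule Γ(X, U) (ι → Γ(X, U))) :
    ∃ (G : X.Modules) (q : ι → Γ(G, U)), QC.IsLoc G U ∧
      (∀ V : X.Opens, Function.Bijective (G.presheaf.map (homOfLE (inf_le_left : V ⊓ U ≤ V)).op)) ∧
      ∀ c : ι → Γ(X, U), (∑ i, c i • q i = 0 ↔ c ∈ S) := by
  classical
  let ι' : Type u := Fin (Fintype.card ι) → Γ(X, U)
  let f : ι' →ₗ[Γ(X, U)] (ι → Γ(X, U)) := LinearMap.funLeft _ _ (Fintype.equivFin ι)
  have hf : Function.Bijective f := (LinearEquiv.funCongrLeft Γ(X, U) Γ(X, U) (Fintype.equivFin ι)).bijective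
  let M : ModuleCat.{u} Γ(X, U) := ModuleCat.of _ (ι' ⧸ S.comap f)
  let T := tilde M
  let G : X.Modules := (Scheme.Modules.pushforward hU.fromSpec).obj T
  let ic : G.restrict hU.fromSpec ≅ T := (asIso (Scheme.Modules.restrictAdjunction hU.fromSpec).counit).app T
  let eU := QC.secEquiv hU G ⊤ (QC.image_fromSpec_top hU)
  let ψ : M → Γ(G, U) := fun m => eU (ic.inv.app ⊤ (tilde.toOpen M ⊤ m))
  have hψ : Function.Bijective ψ :=
    eU.bijective.comp ((ConcreteCategory.bijective_of_isIso (ic.inv.app ⊤)).comp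
      (ConcreteCategory.bijective_of_isIso (tilde.toOpen M ⊤)))
  have hψs : ∀ (a : Γ(X, U)) (m : M), ψ (a • m) = a • ψ m := fun a m => by
    show eU (ic.inv.app ⊤ (tilde.toOpen M ⊤ (a • m))) = _
    rw [map_smul, Scheme.Modules.smul_Spec_def, Scheme.Modules.Hom.app_smul, ← Scheme.Modules.smul_Spec_def,
      QC.secEquiv_smul hU ⊤ (QC.image_fromSpec_top hU)]
    exact congrArg (· • _) (QC.resO_self _ a)
  let Ψ : M →ₗ[Γ(X, U)] Γ(G, U) :=
    { toFun := ψ
      map_add' := fun a b => by simp only [ψ, map_add]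
      map_smul' := hψs }
  let g : (ι → Γ(X, U)) →ₗ[Γ(X, U)] Γ(G, U) :=
    Ψ ∘ₗ ((S.comap f).mkQ ∘ₗ (LinearEquiv.ofBijective f hf).symm.toLinearMap)
  refine ⟨G, fun i => g (Pi.single i 1), ?_, fun V => ?_, fun c => ?_⟩
  · rw [QC.isLoc_iff_isQCoh hU]
    exact QC.isQCoh_of_iso ic.symm (show Coh.IsQCoh (tilde (R := Γ(X, U)) M) from inferInstance)
  · show Function.Bijective (T.presheaf.map ((Opens.map hU.fromSpec.base).map
      (homOfLE (inf_le_left : V ⊓ U ≤ V))).op)
    have : IsIso ((Opens.map hU.fromSpec.base).map (homOfLE (inf_le_left : V ⊓ U ≤ V))) :=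
      ⟨homOfLE (fun x hx => ⟨hx, hU.fromSpec_preimage_self.ge (Opens.mem_top x)⟩),
        Subsingleton.elim _ _, Subsingleton.elim _ _⟩
    exact ConcreteCategory.bijective_of_isIso _
  · have h1 : ∑ i, c i • g (Pi.single i 1) = g c := by
      rw [← Finset.sum_congr rfl fun i _ => map_smul g (c i) (Pi.single i 1), ← map_sum]
      congr 1
      funext j
      simp [Pi.single_apply]
    rw [h1]
    constructor
    · intro h0
      have h2 : (S.comap f).mkQ ((LinearEquiv.ofBijective f hf).symm c) = 0 :=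
        hψ.1 (h0.trans (map_zero Ψ).symm)
      have h3 := (Submodule.Quotient.mk_eq_zero _).1 h2
      rw [Submodule.mem_comap] at h3
      exact ((LinearEquiv.ofBijective f hf).apply_symm_apply c) ▸ h3
    · intro hc
      have h2 : (S.comap f).mkQ ((LinearEquiv.ofBijective f hf).symm c) = 0 := by
        refine (Submodule.Quotient.mk_eq_zero _).2 ?_
        rw [Submodule.mem_comap]
        exact ((LinearEquiv.ofBijective f hf).apply_symm_apply c).symm ▸ hc
      exact (congrArg Ψ h2).trans (map_zero Ψ)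

end Groth.Agent.FSchCoh
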