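import Groth.Agent.FSchCoh.Sys
import Groth.Agent.FSchCoh.Desc
import Groth.Agent.FSchCoh.Test
import Groth.Agent.FSchCoh.Kills
import Groth.Agent.FSchCoh.Dist
import Groth.Agent.RSFin.Thms

/-!
# A coherent module is the module of its system of inverse images
-/

universe u

open CategoryTheory CategoryTheory.Limits AlgebraicGeometry TopologicalSpace Opposite
open Groth.Agent.RSFin (sc rsR Gen Rel spanOn)

set_option autoImplicit false
set_option backward.isDefEq.respectTransparency false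
set_option linter.style.haveILetI false

noncomputable section

namespace Groth.Agent.FSchCoh

variable {𝔛 : FSch.Sys.{u}} {h : 𝔛.IsFormal} {F : FSch.ModF 𝔛 h}

/-- the unit on sections -/
def uS (k : ℕ) (U : (𝔛.X 0).Opens) (t : ModSite.sect F U) :
    Γ((pullSys 𝔛 h F).F k, 𝔛.lvU h k U) :=
  RSFin.ap ((FSch.levelMor 𝔛 h k).adj.unit.app F) U t

theorem uS_comb (k : ℕ) (U : (𝔛.X 0).Opens) {ι : Type*} [Fintype ι] (c : ι → sc (𝔛.Osh h) U)
    (s : ι → ModSite.sect F U) :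
    uS k U (∑ i, c i • s i) = ∑ i, projR 𝔛 h U k (c i) • uS k U (s i) := by
  refine (map_sum (RSFin.ap ((FSch.levelMor 𝔛 h k).adj.unit.app F) U) _ _).trans ?_
  exact Finset.sum_congr rfl fun i _ => map_smul (RSFin.ap ((FSch.levelMor 𝔛 h k).adj.unit.app F) U) _ _

theorem transpose_app {k : ℕ} {G : (𝔛.X k).Modules} (φ : (pullSys 𝔛 h F).F k ⟶ G) (U : (𝔛.X 0).Opens)
    (t : ModSite.sect F U) :
    (RSFin.ap ((FSch.levelMor 𝔛 h k).adj.homEquiv F G φ) U t : Γ(G, 𝔛.lvU h k U)) =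
      φ.app (𝔛.lvU h k U) (uS k U t) := by
  rw [Adjunction.homEquiv_unit]
  rfl

theorem span_uS_eq_top (k : ℕ) {U : (𝔛.X 0).Opens} (hU : IsAffineOpen U) {ι : Type*} [Fintype ι]
    (hq : Coh.IsQCoh ((pullSys 𝔛 h F).F k)) {s : ι → ModSite.sect F U} (hs : Gen F s) :
    Submodule.span (RA 𝔛 h U k) (Set.range fun i => uS k U (s i)) = ⊤ := by
  refine span_eq_top_of_kills (FSchAff.isAffineOpen_lvU 𝔛 h hU k) hq _ fun G φ hG hφ => ?_
  apply ((FSch.levelMor 𝔛 h k).adj.homEquiv F G).injective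
  let θ := (FSch.levelMor 𝔛 h k).adj.homEquiv F G φ
  have hN : ∀ V : (𝔛.X 0).Opens,
      Function.Bijective (RSFin.rs ((FSch.levelMor 𝔛 h k).push.obj G) (inf_le_left : V ⊓ U ≤ V)) :=
    fun V => hG (𝔛.lvU h k V)
  have h0 : ∀ (W : (𝔛.X 0).Opens) (e : W ≤ U) (i : ι), RSFin.ap θ W (RSFin.rs F e (s i)) = 0 := fun W e i => by
    rw [RSFin.ap_rs]
    have : RSFin.ap θ U (s i) = 0 := (transpose_app φ U (s i)).trans (hφ _ ⟨i, rfl⟩)
    rw [this, map_zero]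
  have hθ : θ = 0 := by
    refine hom_ext_basis (𝔛.X 0).isBasis_affineOpens fun V _ t => ?_
    show RSFin.ap θ V t = 0
    refine (hN V).1 ?_
    rw [map_zero, ← RSFin.ap_rs]
    refine RSFin.eq_zero_of_locally _ _ fun x hx => ?_
    obtain ⟨W, hW, c, hxW, hc⟩ := hs.exists_fun (inf_le_right : V ⊓ U ≤ U) (RSFin.rs F inf_le_left t) hx
    refine ⟨W, hW, hxW, ?_⟩
    rw [← RSFin.ap_rs, ← hc, map_sum]
    refine Finset.sum_eq_zero fun i _ => ?_
    rw [map_smul, h0, smul_zero]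
  refine hθ.trans ?_
  rw [Adjunction.homEquiv_unit, Functor.map_zero, comp_zero]

theorem mem_span_of_uS (k : ℕ) {U : (𝔛.X 0).Opens} (hU : IsAffineOpen U) {ι κ : Type u} [Fintype ι] [Fintype κ]
    {s : ι → ModSite.sect F U} {r : κ → ι → sc (𝔛.Osh h) U} (hs : Gen F s) (hr : Rel F s r)
    (c : ι → RA 𝔛 h U k) (hc : ∑ i, c i • uS k U (s i) = 0) :
    c ∈ Submodule.span (RA 𝔛 h U k) (Set.range fun j i => projR 𝔛 h U k (r j i)) := by
  obtain ⟨G, q, -, hG, hq⟩ := exists_test (FSchAff.isAffineOpen_lvU 𝔛 h hU k)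
    (Submodule.span (RA 𝔛 h U k) (Set.range fun j i => projR 𝔛 h U k (r j i)))
  have hN : ∀ V : (𝔛.X 0).Opens,
      Function.Bijective (RSFin.rs ((FSch.levelMor 𝔛 h k).push.obj G) (inf_le_left : V ⊓ U ≤ V)) :=
    fun V => hG (𝔛.lvU h k V)
  obtain ⟨θ, hθ⟩ := exists_desc (N := (FSch.levelMor 𝔛 h k).push.obj G) hs hr hN q
    fun j => (hq _).2 (Submodule.subset_span ⟨j, rfl⟩)
  let φ : (pullSys 𝔛 h F).F k ⟶ G := ((FSch.levelMor 𝔛 h k).adj.homEquiv F G).symm θ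
  have hφ : ∀ i, φ.app (𝔛.lvU h k U) (uS k U (s i)) = q i := fun i => by
    rw [← transpose_app φ U (s i), Equiv.apply_symm_apply]
    exact hθ i
  rw [← hq c]
  have := congrArg (φ.app (𝔛.lvU h k U)) hc
  rw [map_sum, map_zero] at this
  refine Eq.trans ?_ this
  exact Finset.sum_congr rfl fun i _ => by rw [Scheme.Modules.Hom.app_smul, hφ]

theorem projM_toReal (k : ℕ) (U : (𝔛.X 0).Opens) (t : ModSite.sect F U) :
    projM 𝔛 h (pullSys 𝔛 h F) U k (RSFin.ap (toReal 𝔛 h F) U t) = uS k U t :=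
  congrArg (fun g => RSFin.ap g U t) (toReal_proj 𝔛 h F k)

variable (h𝔛 : 𝔛.IsLocNoethFormal) (hF : FSch.IsCohF 𝔛 h F)
include h𝔛 hF

theorem span_toReal_eq_top {U : (𝔛.X 0).Opens} (hU : IsAffineOpen U) {ι : Type*} [Fintype ι]
    {s : ι → ModSite.sect F U} (hs : Gen F s) :
    Submodule.span (OA 𝔛 h U) (Set.range fun i => (RSFin.ap (toReal 𝔛 h F) U (s i) : ML 𝔛 h (pullSys 𝔛 h F) U)) = ⊤ := by
  have hM := isCoh_pullSys 𝔛 h F h𝔛 hF
  obtain ⟨hfin, -, hker⟩ := main_mod 𝔛 h (pullSys 𝔛 h F) h𝔛 hM hU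
  haveI := hfin
  refine eq_top_iff.2 (Submodule.le_of_le_smul_of_le_jacobson_bot (Module.Finite.fg_top)
    (JA_le_jacobson h𝔛 hU) fun t _ => ?_)
  have hmem : (show Γ((pullSys 𝔛 h F).F 0, 𝔛.lvU h 0 U) from projM 𝔛 h (pullSys 𝔛 h F) U 0 t) ∈
      Submodule.span (RA 𝔛 h U 0) (Set.range fun i => uS 0 U (s i)) :=
    (span_uS_eq_top 0 hU (hM 0).1 hs).symm ▸ Submodule.mem_top
  obtain ⟨c, hc⟩ := (Submodule.mem_span_range_iff_exists_fun _).1 hmem
  choose c' hc' using fun i => projR_surjective 𝔛 h hU 0 (c i)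
  rw [Submodule.mem_sup]
  refine ⟨∑ i, c' i • (RSFin.ap (toReal 𝔛 h F) U (s i) : ML 𝔛 h (pullSys 𝔛 h F) U),
    (Submodule.mem_span_range_iff_exists_fun _).2 ⟨c', rfl⟩, t - ∑ i, c' i • _, ?_, add_sub_cancel _ _⟩
  have h1 : t - ∑ i, c' i • (RSFin.ap (toReal 𝔛 h F) U (s i) : ML 𝔛 h (pullSys 𝔛 h F) U) ∈
      LinearMap.ker (projM 𝔛 h (pullSys 𝔛 h F) U 0) := by
    rw [LinearMap.mem_ker, map_sub, map_sum, sub_eq_zero]
    refine hc.symm.trans (Finset.sum_congr rfl fun i _ => ?_)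
    rw [map_smul, projM_toReal, ← hc' i]
    rfl
  rw [hker, zero_add, pow_one] at h1
  exact h1

theorem comb_eq_zero {U : (𝔛.X 0).Opens} (hU : IsAffineOpen U) {ι κ : Type u} [Fintype ι] [Fintype κ]
    {s : ι → ModSite.sect F U} {r : κ → ι → sc (𝔛.Osh h) U} (hs : Gen F s) (hr : Rel F s r)
    (c : ι → sc (𝔛.Osh h) U) (hc : RSFin.ap (toReal 𝔛 h F) U (∑ i, c i • s i) = 0) : ∑ i, c i • s i = 0 := by
  haveI := (main 𝔛 h h𝔛 hU).1
  let S : Submodule (OA 𝔛 h U) (ι → OA 𝔛 h U) := Submodule.span (OA 𝔛 h U) (Set.range r)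
  have key : ∀ n, (show ι → OA 𝔛 h U from c) ∈
      S ⊔ JA 𝔛 h U ^ (n + 1) • (⊤ : Submodule (OA 𝔛 h U) (ι → OA 𝔛 h U)) := by
    intro n
    have h1 : uS n U (∑ i, c i • s i) = 0 := by
      rw [← projM_toReal, hc, map_zero]
    rw [uS_comb] at h1
    obtain ⟨d, hd⟩ := (Submodule.mem_span_range_iff_exists_fun _).1 (mem_span_of_uS n hU hs hr _ h1)
    choose d' hd' using fun j => projR_surjective 𝔛 h hU n (d j)
    rw [Submodule.mem_sup]
    refine ⟨∑ j, d' j • (show ι → OA 𝔛 h U from r j), (Submodule.mem_span_range_iff_exists_fun _).2 ⟨d', rfl⟩,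
      (show ι → OA 𝔛 h U from c) - ∑ j, d' j • (show ι → OA 𝔛 h U from r j), ?_, add_sub_cancel _ _⟩
    refine AdicLim.mem_smul_top_of_apply fun i => ?_
    rw [← (main 𝔛 h h𝔛 hU).2.2 n, RingHom.mem_ker]
    simp only [Pi.sub_apply, Finset.sum_apply, Pi.smul_apply, smul_eq_mul, map_sub, map_sum, map_mul, hd']
    have h2 := congrFun hd i
    simp only [Finset.sum_apply, Pi.smul_apply, smul_eq_mul] at h2
    rw [h2, sub_self]
  have hq : S.mkQ (show ι → OA 𝔛 h U from c) ∈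
      (⨅ n : ℕ, JA 𝔛 h U ^ n • (⊤ : Submodule (OA 𝔛 h U) ((ι → OA 𝔛 h U) ⧸ S))) := by
    rw [Submodule.mem_iInf]
    intro n
    obtain ⟨y, hy, z, hz, hyz⟩ := Submodule.mem_sup.1 (key n)
    rw [← hyz, map_add, show S.mkQ y = 0 from (Submodule.Quotient.mk_eq_zero S).2 hy, zero_add]
    have h1 : S.mkQ z ∈ (JA 𝔛 h U ^ (n + 1) • (⊤ : Submodule (OA 𝔛 h U) (ι → OA 𝔛 h U))).map S.mkQ :=
      ⟨z, hz, rfl⟩
    rw [Submodule.map_smul''] at h1
    exact Submodule.smul_mono (Ideal.pow_le_pow_right (Nat.le_succ n)) le_top h1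
  rw [Ideal.iInf_pow_smul_eq_bot_of_le_jacobson _ (JA_le_jacobson h𝔛 hU), Submodule.mem_bot] at hq
  obtain ⟨d, hd⟩ := (Submodule.mem_span_range_iff_exists_fun _).1 ((Submodule.Quotient.mk_eq_zero S).1 hq)
  have hci : ∀ i, c i = ∑ j, (show sc (𝔛.Osh h) U from d j) * r j i := fun i => by
    have := congrFun hd i
    simp only [Finset.sum_apply, Pi.smul_apply, smul_eq_mul] at this
    exact this.symm
  simp only [hci, Finset.sum_smul, mul_smul]
  rw [Finset.sum_comm]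
  refine Finset.sum_eq_zero fun j _ => ?_
  rw [← Finset.smul_sum, hr.1 j, smul_zero]

theorem exists_affine_pres {V : (𝔛.X 0).Opens} {x : 𝔛.X 0} (hx : x ∈ V) :
    ∃ (U : (𝔛.X 0).Opens) (ι κ : Type) (_ : Fintype ι) (_ : Fintype κ) (s : ι → ModSite.sect F U)
      (r : κ → ι → sc (𝔛.Osh h) U), x ∈ U ∧ U ≤ V ∧ IsAffineOpen U ∧ Gen F s ∧ Rel F s r := by
  obtain ⟨U₀, ι, κ, hι, hκ, s, r, hxU, hs, hr⟩ :=
    @RSFin.exists_rel_of_isFinitePresentation _ _ F hF x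
  obtain ⟨U, hU, hxU', hUle⟩ := exists_isAffineOpen_mem_and_subset (X := 𝔛.X 0) (x := x) (U := U₀ ⊓ V) ⟨hxU, hx⟩
  have h1 : U ≤ U₀ := (show U ≤ U₀ ⊓ V from hUle).trans inf_le_left
  exact ⟨U, ι, κ, hι, hκ, fun i => RSFin.rs F h1 (s i), fun k i => rsR h1 (r k i), hxU',
    (show U ≤ U₀ ⊓ V from hUle).trans inf_le_right, hU, hs.mono h1, hr.mono h1⟩

theorem isIso_toReal : IsIso (toReal 𝔛 h F) := by
  haveI : Epi (toReal 𝔛 h F) := by
    refine RSFin.epi_of_locally _ fun V t x hx => ?_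
    obtain ⟨U, ι, κ, hι, hκ, s, r, hxU, hUV, hU, hs, -⟩ := exists_affine_pres h𝔛 hF hx
    have hm : (show ML 𝔛 h (pullSys 𝔛 h F) U from RSFin.rs ((pullSys 𝔛 h F).realMod h) hUV t) ∈
        Submodule.span (OA 𝔛 h U) (Set.range fun i => (RSFin.ap (toReal 𝔛 h F) U (s i) : ML 𝔛 h (pullSys 𝔛 h F) U)) :=
      (span_toReal_eq_top h𝔛 hF hU hs).symm ▸ Submodule.mem_top
    obtain ⟨c, hc⟩ := (Submodule.mem_span_range_iff_exists_fun _).1 hm
    refine ⟨U, hUV, ∑ i, (show sc (𝔛.Osh h) U from c i) • s i, hxU, ?_⟩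
    rw [map_sum]
    refine Eq.trans ?_ hc
    exact Finset.sum_congr rfl fun i _ => map_smul _ _ _
  haveI : Mono (toReal 𝔛 h F) := by
    refine RSFin.mono_of_injective _ fun V => (injective_iff_map_eq_zero _).2 fun t ht => ?_
    refine RSFin.eq_zero_of_locally F t fun x hx => ?_
    obtain ⟨U, ι, κ, hι, hκ, s, r, hxU, hUV, hU, hs, hr⟩ := exists_affine_pres h𝔛 hF hx
    obtain ⟨W, hW, hxW, hm⟩ := hs le_rfl (RSFin.rs F hUV t) x hxU
    obtain ⟨U', hU', hxU', hle⟩ := exists_isAffineOpen_mem_and_subset (X := 𝔛.X 0) (x := x) (U := W) hxW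
    have h2 : U' ≤ W := hle
    have hm' := RSFin.rs_mem_spanOn F (hW.trans le_rfl) h2 s hm
    obtain ⟨c, hc⟩ := (RSFin.mem_spanOn_iff _ _ _ _).1 hm'
    refine ⟨U', (h2.trans hW).trans hUV, hxU', ?_⟩
    rw [RSFin.rs_rs, RSFin.rs_rs] at hc
    rw [← hc]
    have e : U' ≤ U := h2.trans (hW.trans le_rfl)
    have hs' := (hs.mono e).reindex Equiv.ulift.{u}
    have hr' := (hr.mono e).reindex Equiv.ulift.{u} Equiv.ulift.{u}
    have h3 := comb_eq_zero h𝔛 hF hU' hs' hr' (fun i => c i.down) (by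
      refine (congrArg (RSFin.ap (toReal 𝔛 h F) U')
        ((Fintype.sum_equiv Equiv.ulift _ _ fun _ => rfl).trans hc)).trans ?_
      rw [RSFin.ap_rs, ht, map_zero])
    exact (Fintype.sum_equiv Equiv.ulift.{u} _ _ fun _ => rfl).symm.trans h3
  exact isIso_of_mono_of_epi _

end Groth.Agent.FSchCoh
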