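import Groth.Agent.FSchCoh.Coh
import Groth.Agent.FSchCoh.Pres

/-!
# Coherence: relations between sections of a coherent module are finitely generated
-/

universe u

open CategoryTheory CategoryTheory.Limits AlgebraicGeometry TopologicalSpace Opposite
open Groth.Agent.RSFin (sc rsR Gen Rel spanOn)

set_option autoImplicit false
set_option backward.isDefEq.respectTransparency false
set_option linter.style.haveILetI false

noncomputable section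

namespace Groth.Agent.FSchCoh

variable {𝔛 : FSch.Sys.{u}} (h𝔛 : 𝔛.IsLocNoethFormal)
include h𝔛

theorem mem_span_rel_of_sections {𝔐 : FSch.ModSys 𝔛} (hM : 𝔐.IsCoh) {U W : (𝔛.X 0).Opens} (hU : IsAffineOpen U)
    {a : OA 𝔛 h𝔛.1 U} (d : IsDist 𝔛 h𝔛.1 U a W) {ι κ : Type*} [Fintype ι] (s : ι → ML 𝔛 h𝔛.1 𝔐 U)
    (r : κ → ι → OA 𝔛 h𝔛.1 U)
    (hr : ∀ c : ι → OA 𝔛 h𝔛.1 U, ∑ i, c i • s i = 0 → c ∈ Submodule.span (OA 𝔛 h𝔛.1 U) (Set.range r))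
    (c : ι → OA 𝔛 h𝔛.1 W) (hc : ∑ i, c i • RSFin.rs (𝔐.realMod h𝔛.1) d.le (s i) = 0) :
    c ∈ Submodule.span (OA 𝔛 h𝔛.1 W) (Set.range fun k i => (rsR d.le (r k i) : OA 𝔛 h𝔛.1 W)) := by
  classical
  set S := Submodule.span (OA 𝔛 h𝔛.1 W) (Set.range fun k i => (rsR d.le (r k i) : OA 𝔛 h𝔛.1 W))
  haveI := (main 𝔛 h𝔛.1 h𝔛 d.affine).1
  haveI := (main 𝔛 h𝔛.1 h𝔛 hU).1
  haveI := (main_mod 𝔛 h𝔛.1 𝔐 h𝔛 hM hU).1
  have hresS : ∀ z ∈ Submodule.span (OA 𝔛 h𝔛.1 U) (Set.range r), (fun i => (rsR d.le (z i) : OA 𝔛 h𝔛.1 W)) ∈ S := by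
    intro z hz
    induction hz using Submodule.span_induction with
    | mem x hx => obtain ⟨k, rfl⟩ := hx; exact Submodule.subset_span ⟨k, rfl⟩
    | zero => simp only [Pi.zero_apply, map_zero]; exact S.zero_mem
    | add x y _ _ hx hy => simp only [Pi.add_apply, map_add]; exact S.add_mem hx hy
    | smul b x _ hx =>
      simp only [Pi.smul_apply, smul_eq_mul, map_mul]
      exact S.smul_mem (rsR d.le b) hx
  let φ : (ι → OA 𝔛 h𝔛.1 U) →ₗ[OA 𝔛 h𝔛.1 U] ML 𝔛 h𝔛.1 𝔐 U := Fintype.linearCombination (OA 𝔛 h𝔛.1 U) s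
  obtain ⟨k₀, hk₀⟩ := Ideal.exists_pow_inf_eq_pow_smul (JA 𝔛 h𝔛.1 U) (LinearMap.range φ)
  have key : ∀ n, c ∈ S ⊔ JA 𝔛 h𝔛.1 W ^ (n + 1) • (⊤ : Submodule (OA 𝔛 h𝔛.1 W) (ι → OA 𝔛 h𝔛.1 W)) := by
    intro n
    let N := n + k₀
    obtain ⟨k, c', hc'⟩ := exists_scal_extend_fin h𝔛 hU d N c
    set M := 𝔐.realMod h𝔛.1
    let σ : Γ(𝔐.F N, 𝔛.lvU h𝔛.1 N U) := projM 𝔛 h𝔛.1 𝔐 U N (∑ i, c' i • s i)
    have hσ : QC.res (𝔐.F N) ((𝔛.X N).basicOpen_le (projR 𝔛 h𝔛.1 U N a)) σ = 0 := by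
      have h1 : QC.res (𝔐.F N) ((Opens.map (𝔛.gInv h𝔛.1 N)).monotone d.le) σ = 0 := by
        rw [← projM_rs h𝔛 d.le N, RSFin.rs_sum_smul, map_sum]
        have h2 : projM 𝔛 h𝔛.1 𝔐 W N ((rsR d.le a : OA 𝔛 h𝔛.1 W) ^ k • ∑ i, c i • RSFin.rs M d.le (s i)) = 0 := by
          rw [hc, smul_zero, map_zero]
        rw [Finset.smul_sum, map_sum] at h2
        refine Eq.trans ?_ h2
        refine Finset.sum_congr rfl fun i _ => ?_
        rw [smul_smul, map_smul, map_smul]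
        exact congrArg (fun r : RA 𝔛 h𝔛.1 W N =>
          r • (show Γ(𝔐.F N, 𝔛.lvU h𝔛.1 N W) from projM 𝔛 h𝔛.1 𝔐 W N (RSFin.rs M d.le (s i)))) (hc' i).symm
      have h2 := congrArg (QC.res (𝔐.F N) (d.level N).ge) h1
      rw [QC.res_res, map_zero] at h2
      exact h2
    obtain ⟨m, hm⟩ := (QC.isLoc_of_isQCoh (FSchAff.isAffineOpen_lvU 𝔛 h𝔛.1 hU N) (hM := (hM N).1)
      (M := 𝔐.F N)).exists_pow_smul_eq_zero (projR 𝔛 h𝔛.1 U N a) σ hσ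
    have h3 : a ^ m • ∑ i, c' i • s i ∈ LinearMap.ker (projM 𝔛 h𝔛.1 𝔐 U N) := by
      rw [LinearMap.mem_ker, map_smul]
      show projR 𝔛 h𝔛.1 U N (a ^ m) • σ = 0
      rw [map_pow]
      exact hm
    rw [(main_mod 𝔛 h𝔛.1 𝔐 h𝔛 hM hU).2.2 N] at h3
    have h3' : a ^ m • ∑ i, c' i • s i ∈ LinearMap.range φ :=
      ⟨fun i => a ^ m * c' i, by
        rw [Fintype.linearCombination_apply, Finset.smul_sum]
        simp only [mul_smul]⟩
    have h3'' : a ^ m • ∑ i, c' i • s i ∈ JA 𝔛 h𝔛.1 U ^ (n + 1) • LinearMap.range φ := by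
      have h := hk₀ (N + 1) (by omega)
      have hmem : a ^ m • ∑ i, c' i • s i ∈ JA 𝔛 h𝔛.1 U ^ (N + 1) • ⊤ ⊓ LinearMap.range φ := ⟨h3, h3'⟩
      rw [h, show N + 1 - k₀ = n + 1 by omega] at hmem
      exact Submodule.smul_mono le_rfl inf_le_right hmem
    rw [← Submodule.map_top, ← Submodule.map_smul''] at h3''
    obtain ⟨e, he, he'⟩ := h3''
    have h4 : (fun i => a ^ m * c' i) - e ∈ Submodule.span (OA 𝔛 h𝔛.1 U) (Set.range r) := by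
      refine hr _ ?_
      rw [Fintype.linearCombination_apply] at he'
      simp only [Pi.sub_apply, sub_smul, Finset.sum_sub_distrib, mul_smul, ← Finset.smul_sum]
      rw [he', sub_self]
    have hu := ((d.isUnit h𝔛).pow m).mul ((d.isUnit h𝔛).pow k)
    let u : OA 𝔛 h𝔛.1 W := rsR d.le a ^ m * rsR d.le a ^ k
    have h5 : u • c ∈ S ⊔ JA 𝔛 h𝔛.1 W ^ (n + 1) • (⊤ : Submodule (OA 𝔛 h𝔛.1 W) (ι → OA 𝔛 h𝔛.1 W)) := by
      rw [Submodule.mem_sup]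
      refine ⟨_, hresS _ h4, u • c - fun i => (rsR d.le (((fun i => a ^ m * c' i) - e) i) : OA 𝔛 h𝔛.1 W), ?_, by abel⟩
      refine AdicLim.mem_smul_top_of_apply fun i => ?_
      simp only [Pi.sub_apply, Pi.smul_apply, smul_eq_mul, map_sub, map_mul, map_pow, u]
      have h6 : (rsR d.le a : OA 𝔛 h𝔛.1 W) ^ k * c i - rsR d.le (c' i) ∈ JA 𝔛 h𝔛.1 W ^ (n + 1) := by
        refine Ideal.pow_le_pow_right (show n + 1 ≤ N + 1 by omega) ?_
        rw [← (main 𝔛 h𝔛.1 h𝔛 d.affine).2.2 N, RingHom.mem_ker, map_sub, hc', sub_self]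
      have h7 : (rsR d.le (e i) : OA 𝔛 h𝔛.1 W) ∈ JA 𝔛 h𝔛.1 W ^ (n + 1) :=
        rsR_mem_pow h𝔛 hU d.affine d.le (AdicLim.apply_mem_of_mem_smul_top he i)
      convert add_mem (Ideal.mul_mem_left _ ((rsR d.le a : OA 𝔛 h𝔛.1 W) ^ m) h6) h7 using 1
      ring
    have h8 := Submodule.smul_mem _ (↑hu.unit⁻¹ : OA 𝔛 h𝔛.1 W) h5
    rwa [smul_smul, hu.val_inv_mul, one_smul] at h8
  have hq : S.mkQ c ∈
      (⨅ n : ℕ, JA 𝔛 h𝔛.1 W ^ n • (⊤ : Submodule (OA 𝔛 h𝔛.1 W) ((ι → OA 𝔛 h𝔛.1 W) ⧸ S))) := by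
    rw [Submodule.mem_iInf]
    intro n
    obtain ⟨y, hy, z, hz, hyz⟩ := Submodule.mem_sup.1 (key n)
    rw [← hyz, map_add, show S.mkQ y = 0 from (Submodule.Quotient.mk_eq_zero S).2 hy, zero_add]
    have h1 : S.mkQ z ∈ (JA 𝔛 h𝔛.1 W ^ (n + 1) • (⊤ : Submodule (OA 𝔛 h𝔛.1 W) (ι → OA 𝔛 h𝔛.1 W))).map S.mkQ :=
      ⟨z, hz, rfl⟩
    rw [Submodule.map_smul''] at h1
    exact Submodule.smul_mono (Ideal.pow_le_pow_right (Nat.le_succ n)) le_top h1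
  rw [Ideal.iInf_pow_smul_eq_bot_of_le_jacobson _ (JA_le_jacobson h𝔛 d.affine), Submodule.mem_bot] at hq
  exact (Submodule.Quotient.mk_eq_zero S).1 hq

theorem exists_rel_realMod {𝔐 : FSch.ModSys 𝔛} (hM : 𝔐.IsCoh) {U : (𝔛.X 0).Opens} (hU : IsAffineOpen U)
    {ι : Type} [Fintype ι] (s : ι → ModSite.sect (𝔐.realMod h𝔛.1) U) :
    ∃ (κ : Type) (_ : Fintype κ) (r : κ → ι → sc (𝔛.Osh h𝔛.1) U), Rel (𝔐.realMod h𝔛.1) s r := by
  classical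
  haveI := (main 𝔛 h𝔛.1 h𝔛 hU).1
  let φ : (ι → OA 𝔛 h𝔛.1 U) →ₗ[OA 𝔛 h𝔛.1 U] ML 𝔛 h𝔛.1 𝔐 U := Fintype.linearCombination (OA 𝔛 h𝔛.1 U) s
  obtain ⟨q, r, hrr⟩ := Submodule.fg_iff_exists_fin_generating_family.1
    (IsNoetherian.noetherian (LinearMap.ker φ))
  refine ⟨Fin q, inferInstance, r, fun k => ?_, ?_⟩
  · have hk : r k ∈ LinearMap.ker φ := hrr ▸ Submodule.subset_span ⟨k, rfl⟩
    rw [LinearMap.mem_ker, Fintype.linearCombination_apply] at hk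
    exact hk
  · intro V hV c hc x hx
    obtain ⟨a, W, hxW, hWV, d⟩ := exists_dist 𝔛 h𝔛.1 hU hV hx
    refine ⟨W, hWV, hxW, mem_span_rel_of_sections h𝔛 hM hU d s r (fun z hz => ?_) _ ?_⟩
    · rw [hrr, LinearMap.mem_ker, Fintype.linearCombination_apply]
      exact hz
    · have := congrArg (RSFin.rs (𝔐.realMod h𝔛.1) hWV) hc
      rw [RSFin.rs_sum_smul, map_zero] at this
      simpa only [RSFin.rs_rs] using this

/-- relations between finitely many sections of a coherent module over an affine open are finitely generated -/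
theorem exists_rel {F : FSch.ModF 𝔛 h𝔛.1} (hF : FSch.IsCohF 𝔛 h𝔛.1 F) {U : (𝔛.X 0).Opens} (hU : IsAffineOpen U)
    {ι : Type} [Fintype ι] (s : ι → ModSite.sect F U) :
    ∃ (κ : Type) (_ : Fintype κ) (r : κ → ι → sc (𝔛.Osh h𝔛.1) U), Rel F s r := by
  haveI := isIso_toReal h𝔛 hF
  let e := toReal 𝔛 h𝔛.1 F
  obtain ⟨κ, hκ, r, hr⟩ := exists_rel_realMod h𝔛 (isCoh_pullSys 𝔛 h𝔛.1 F h𝔛 hF) hU
    (fun i => RSFin.ap e U (s i))
  refine ⟨κ, hκ, r, fun k => RSFin.injective_of_mono e U ?_, fun V hV c hc x hx => ?_⟩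
  · rw [map_zero, map_sum, ← hr.1 k]
    exact Finset.sum_congr rfl fun i _ => map_smul _ _ _
  · refine hr.2 hV c ?_ x hx
    have := congrArg (RSFin.ap e V) hc
    rw [map_sum, map_zero] at this
    refine Eq.trans ?_ this
    exact Finset.sum_congr rfl fun i _ => by rw [map_smul, RSFin.ap_rs]

/-- a submodule of finite type of a coherent module is coherent -/
theorem isCohF_of_mono {F K : FSch.ModF 𝔛 h𝔛.1} (hF : FSch.IsCohF 𝔛 h𝔛.1 F) (i : K ⟶ F) [Mono i]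
    (hK : SheafOfModules.IsFiniteType (R := ModSite.ringSh (𝔛.Osh h𝔛.1)) K) : FSch.IsCohF 𝔛 h𝔛.1 K := by
  refine RSFin.isFinitePresentation_of_forall _ fun x => ?_
  obtain ⟨U₀, n, s₀, hxU₀, hs₀⟩ := @RSFin.exists_gen_of_isFiniteType _ _ K hK x
  obtain ⟨U, hU, hxU, hle⟩ := exists_isAffineOpen_mem_and_subset (X := 𝔛.X 0) (x := x) (U := U₀) hxU₀
  have e : U ≤ U₀ := hle
  obtain ⟨κ, hκ, r, hr⟩ := exists_rel h𝔛 hF hU fun k => RSFin.ap i U (RSFin.rs K e (s₀ k))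
  refine ⟨U, Fin n, κ, inferInstance, hκ, fun k => RSFin.rs K e (s₀ k), r, hxU, hs₀.mono e,
    fun j => RSFin.injective_of_mono i U ?_, fun V hV c hc y hy => hr.2 hV c ?_ y hy⟩
  · rw [map_zero, map_sum, ← hr.1 j]
    exact Finset.sum_congr rfl fun k _ => map_smul _ _ _
  · have := congrArg (RSFin.ap i V) hc
    rw [map_sum, map_zero] at this
    refine Eq.trans ?_ this
    exact Finset.sum_congr rfl fun k _ => by rw [map_smul, RSFin.ap_rs]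

/-- the image of a morphism to a coherent module from a module of finite type is coherent -/
theorem isFiniteType_kernel {G F : FSch.ModF 𝔛 h𝔛.1} (hG : FSch.IsCohF 𝔛 h𝔛.1 G) (hF : FSch.IsCohF 𝔛 h𝔛.1 F)
    (φ : G ⟶ F) : SheafOfModules.IsFiniteType (R := ModSite.ringSh (𝔛.Osh h𝔛.1)) (kernel φ) := by
  let I := Abelian.image φ
  let θ : G ⟶ I := Abelian.factorThruImage φ
  haveI : SheafOfModules.IsFinitePresentation (R := ModSite.ringSh (𝔛.Osh h𝔛.1)) G := hG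
  have hI : SheafOfModules.IsFiniteType (R := ModSite.ringSh (𝔛.Osh h𝔛.1)) I := by
    refine RSFin.isFiniteType_of_forall _ fun x => ?_
    obtain ⟨U, n, s, hxU, hs⟩ := RSFin.exists_gen_of_isFiniteType G x
    refine ⟨U, Fin n, inferInstance, fun k => RSFin.ap θ U (s k), hxU, fun V hV t y hy => ?_⟩
    obtain ⟨W₁, hW₁, a, hyW₁, ha⟩ := RSFin.epi_locally θ t hy
    obtain ⟨W, hW, c, hyW, hc⟩ := hs.exists_fun (hW₁.trans hV) a hyW₁
    refine ⟨W, hW.trans hW₁, hyW, (RSFin.mem_spanOn_iff _ _ _ _).2 ⟨c, ?_⟩⟩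
    rw [← RSFin.rs_rs _ hW hW₁, ← ha, ← RSFin.ap_rs, ← hc, map_sum]
    exact Finset.sum_congr rfl fun k _ => by rw [map_smul, RSFin.ap_rs]
  haveI : SheafOfModules.IsFinitePresentation (R := ModSite.ringSh (𝔛.Osh h𝔛.1)) I :=
    isCohF_of_mono h𝔛 hF (Abelian.image.ι φ) hI
  haveI := RSFin.isFiniteType_kernel (G := G) θ
  have e : kernel φ ≅ kernel θ :=
    (kernel.mapIso φ (θ ≫ Abelian.image.ι φ) (Iso.refl _) (Iso.refl _) (by simp [θ])).trans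
      (kernelCompMono θ (Abelian.image.ι φ))
  refine RSFin.isFiniteType_of_forall _ fun x => ?_
  obtain ⟨U, n, s, hxU, hs⟩ := RSFin.exists_gen_of_isFiniteType (kernel θ) x
  refine ⟨U, Fin n, inferInstance, fun k => RSFin.ap e.inv U (s k), hxU, fun V hV t y hy => ?_⟩
  obtain ⟨W, hW, c, hyW, hc⟩ := hs.exists_fun hV (RSFin.ap e.hom V t) hy
  refine ⟨W, hW, hyW, (RSFin.mem_spanOn_iff _ _ _ _).2 ⟨c, ?_⟩⟩
  have h1 : RSFin.ap e.inv V (RSFin.ap e.hom V t) = t := by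
    rw [← RSFin.ap_comp, e.hom_inv_id]; rfl
  rw [← h1, ← RSFin.ap_rs, ← hc, map_sum]
  exact Finset.sum_congr rfl fun k _ => by rw [map_smul, RSFin.ap_rs]

theorem isCohF_kernel {G F : FSch.ModF 𝔛 h𝔛.1} (hG : FSch.IsCohF 𝔛 h𝔛.1 G) (hF : FSch.IsCohF 𝔛 h𝔛.1 F)
    (φ : G ⟶ F) : FSch.IsCohF 𝔛 h𝔛.1 (kernel φ) :=
  isCohF_of_mono h𝔛 hG (kernel.ι φ) (isFiniteType_kernel h𝔛 hG hF φ)

end Groth.Agent.FSchCoh
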