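import Groth.Agent.DualCx.RightAdjoint
import Groth.Agent.HDU.Top

/-!
# Right adjoint of the derived functor of an exact left adjoint
-/

universe u v w w' v' u'

open CategoryTheory CategoryTheory.Limits DerivedCategory

set_option autoImplicit false

noncomputable section

namespace Groth.Agent.FSchCoh

theorem isLeftAdjoint_mapDerived {A : Type u} [Category.{v} A] [Abelian A] [IsGrothendieckAbelian.{v} A]
    [HasDerivedCategory.{w} A]
    {B : Type u'} [Category.{v'} B] [Abelian B] [HasDerivedCategory.{w} B]
    (F : B ⥤ A) [F.Additive] [PreservesFiniteLimits F] [PreservesFiniteColimits F] (hF : F.IsLeftAdjoint) :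
    F.mapDerivedCategory.IsLeftAdjoint := by
  let G := F.rightAdjoint
  let adj : F ⊣ G := Adjunction.ofIsLeftAdjoint F
  haveI : G.Additive := adj.right_adjoint_additive
  choose I hI e using fun L : DerivedCategory A => HDU.exists_kInj_rep L
  let W := fun L => (Q : CochainComplex B ℤ ⥤ _).obj ((G.mapHomologicalComplex (ComplexShape.up ℤ)).obj (I L))
  let c : ∀ L, F.mapDerivedCategory.obj (W L) ⟶ L := fun L =>
    DualCx.raCounit adj (I L) ≫ (e L).some.hom
  have hc : ∀ L X, Function.Bijective (fun v : X ⟶ W L => F.mapDerivedCategory.map v ≫ c L) := fun L X => by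
    have h := DualCx.raCounit_bijective adj (I L) (hI := hI L) X
    have h2 : Function.Bijective (fun u : F.mapDerivedCategory.obj X ⟶ Q.obj (I L) => u ≫ (e L).some.hom) :=
      ⟨fun u u' huu' => (cancel_mono (e L).some.hom).1 huu', fun y => ⟨y ≫ (e L).some.inv, by simp⟩⟩
    have h3 : (fun v : X ⟶ W L => F.mapDerivedCategory.map v ≫ c L) =
        (fun u => u ≫ (e L).some.hom) ∘ fun v => F.mapDerivedCategory.map v ≫ DualCx.raCounit adj (I L) :=
      funext fun v => by simp [c]
    rw [h3]
    exact h2.comp h
  let eq : ∀ (X : DerivedCategory B) (L : DerivedCategory A), (F.mapDerivedCategory.obj X ⟶ L) ≃ (X ⟶ W L) :=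
    fun X L => (Equiv.ofBijective _ (hc L X)).symm
  have he : ∀ X' X L (f : X' ⟶ X) (g : F.mapDerivedCategory.obj X ⟶ L),
      eq X' L (F.mapDerivedCategory.map f ≫ g) = f ≫ eq X L g := fun X' X L f g => by
    apply (Equiv.ofBijective _ (hc L X')).injective
    refine ((Equiv.ofBijective _ (hc L X')).apply_symm_apply _).trans ?_
    change F.mapDerivedCategory.map f ≫ g = F.mapDerivedCategory.map (f ≫ eq X L g) ≫ c L
    rw [Functor.map_comp, Category.assoc]
    exact congrArg (_ ≫ ·) ((Equiv.ofBijective _ (hc L X)).apply_symm_apply g).symm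
  exact (Adjunction.adjunctionOfEquivRight eq he).isLeftAdjoint

end Groth.Agent.FSchCoh
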