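import Groth.Agent.FSchCoh.Coh

/-!
# Surjectivity of a morphism of coherent modules is detected on the smallest level
-/

universe u

open CategoryTheory CategoryTheory.Limits AlgebraicGeometry TopologicalSpace Opposite
open Groth.Agent.RSFin (sc rsR Gen Rel spanOn)

set_option autoImplicit false
set_option backward.isDefEq.respectTransparency false
set_option linter.style.haveILetI false

noncomputable section

namespace Groth.Agent.FSchCoh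

variable {𝔛 : FSch.Sys.{u}} {h : 𝔛.IsFormal}

theorem span_eq_top_of_level (h𝔛 : 𝔛.IsLocNoethFormal) {𝔐 : FSch.ModSys 𝔛} (hM : 𝔐.IsCoh)
    {U : (𝔛.X 0).Opens} (hU : IsAffineOpen U) {ι : Type*} [Fintype ι] (g : ι → ML 𝔛 h 𝔐 U)
    (hg : Submodule.span (RA 𝔛 h U 0) (Set.range fun i => (show Γ(𝔐.F 0, 𝔛.lvU h 0 U) from projM 𝔛 h 𝔐 U 0 (g i))) = ⊤) :
    Submodule.span (OA 𝔛 h U) (Set.range g) = ⊤ := by
  obtain ⟨hfin, -, hker⟩ := main_mod 𝔛 h 𝔐 h𝔛 hM hU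
  haveI := hfin
  refine eq_top_iff.2 (Submodule.le_of_le_smul_of_le_jacobson_bot (Module.Finite.fg_top)
    (JA_le_jacobson h𝔛 hU) fun t _ => ?_)
  have hmem : (show Γ(𝔐.F 0, 𝔛.lvU h 0 U) from projM 𝔛 h 𝔐 U 0 t) ∈
      Submodule.span (RA 𝔛 h U 0) (Set.range fun i => (show Γ(𝔐.F 0, 𝔛.lvU h 0 U) from projM 𝔛 h 𝔐 U 0 (g i))) :=
    hg.symm ▸ Submodule.mem_top
  obtain ⟨c, hc⟩ := (Submodule.mem_span_range_iff_exists_fun _).1 hmem
  choose c' hc' using fun i => projR_surjective 𝔛 h hU 0 (c i)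
  rw [Submodule.mem_sup]
  refine ⟨∑ i, c' i • g i,
    (Submodule.mem_span_range_iff_exists_fun _).2 ⟨c', rfl⟩, t - ∑ i, c' i • g i, ?_, add_sub_cancel _ _⟩
  have h1 : t - ∑ i, c' i • g i ∈ LinearMap.ker (projM 𝔛 h 𝔐 U 0) := by
    rw [LinearMap.mem_ker, map_sub, map_sum, sub_eq_zero]
    refine hc.symm.trans (Finset.sum_congr rfl fun i _ => ?_)
    rw [map_smul, ← hc' i]
    rfl
  rw [hker, zero_add, pow_one] at h1
  exact h1

theorem epi_of_epi_pull_zero (h𝔛 : 𝔛.IsLocNoethFormal) {F G : FSch.ModF 𝔛 h} (hF : FSch.IsCohF 𝔛 h F)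
    (hG : FSch.IsCohF 𝔛 h G) (θ : F ⟶ G) [Epi ((FSch.levelMor 𝔛 h 0).pull.map θ)] : Epi θ := by
  haveI := isIso_toReal h𝔛 hG
  refine RSFin.epi_of_locally _ fun V t x hx => ?_
  obtain ⟨U₁, ι, κ, hι, hκ, s, r, hxU₁, hU₁V, -, hs, -⟩ := exists_affine_pres h𝔛 hF hx
  obtain ⟨U, hU, hxU, hle⟩ := exists_isAffineOpen_mem_and_subset (X := 𝔛.X 0) (x := x) (U := U₁) hxU₁
  have e : U ≤ U₁ := hle
  let g : ι → ML 𝔛 h (pullSys 𝔛 h G) U := fun i =>
    RSFin.ap (toReal 𝔛 h G) U (RSFin.ap θ U (RSFin.rs F e (s i)))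
  have hF0 := isCoh_pullSys 𝔛 h F h𝔛 hF 0
  have hG0 := isCoh_pullSys 𝔛 h G h𝔛 hG 0
  let pθ : (pullSys 𝔛 h F).F 0 ⟶ (pullSys 𝔛 h G).F 0 := (FSch.levelMor 𝔛 h 0).pull.map θ
  let a : Γ((pullSys 𝔛 h F).F 0, 𝔛.lvU h 0 U) →ₗ[RA 𝔛 h U 0] Γ((pullSys 𝔛 h G).F 0, 𝔛.lvU h 0 U) :=
    { toFun := Scheme.Modules.Hom.app pθ (𝔛.lvU h 0 U)
      map_add' := map_add _
      map_smul' := fun r y => Scheme.Modules.Hom.app_smul _ r y }
  have hsurj : Function.Surjective a := by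
    haveI : Epi pθ := ‹_›
    exact QC.app_surjective_of_epi (FSchAff.isAffineOpen_lvU 𝔛 h hU 0) hF0.1 hG0.1
      pθ
  have hspan : Submodule.span (OA 𝔛 h U) (Set.range g) = ⊤ := by
    refine span_eq_top_of_level h𝔛 (isCoh_pullSys 𝔛 h G h𝔛 hG) hU g ?_
    have h1 := congrArg (Submodule.map a) (span_uS_eq_top 0 hU hF0.1 (hs.mono e))
    rw [Submodule.map_span, Submodule.map_top, LinearMap.range_eq_top.2 hsurj, ← Set.range_comp] at h1
    refine Eq.trans ?_ h1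
    congr 2
    funext i
    show _ = Scheme.Modules.Hom.app pθ _ (uS 0 U _)
    rw [projM_toReal]
    exact congrArg (fun q => RSFin.ap q U (RSFin.rs F e (s i))) ((FSch.levelMor 𝔛 h 0).adj.unit.naturality θ)
  obtain ⟨c, hc⟩ := (Submodule.mem_span_range_iff_exists_fun _).1
    (hspan.symm ▸ Submodule.mem_top (x := (show ML 𝔛 h (pullSys 𝔛 h G) U from
      RSFin.ap (toReal 𝔛 h G) U (RSFin.rs G (e.trans hU₁V) t))))
  refine ⟨U, e.trans hU₁V, ∑ i, (show sc (𝔛.Osh h) U from c i) • RSFin.rs F e (s i), hxU,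
    RSFin.injective_of_mono (toReal 𝔛 h G) U ?_⟩
  refine Eq.trans ?_ hc
  rw [map_sum, map_sum]
  exact Finset.sum_congr rfl fun i _ => by rw [map_smul, map_smul]

end Groth.Agent.FSchCoh
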