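import Groth.Agent.RSFin.FP

/-!
# Free modules of finite rank are finitely presented
-/

set_option autoImplicit false
set_option linter.style.haveILetI false
set_option backward.isDefEq.respectTransparency false
set_option backward.isDefEq.respectTransparency.types false

universe u

open CategoryTheory Limits TopologicalSpace Opposite

noncomputable section

namespace Groth.Agent.FSchCoh

open Groth.Agent.RSFin

variable {X : TopCat.{u}} (O : TopCat.Sheaf CommRingCat.{u} X)

/-- the section one -/
def oneSec (V : Opens X) : ModSite.sect (ModSite.unit O) V := (1 : sc O V)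

theorem smul_oneSec (V : Opens X) (a : sc O V) : a • oneSec O V = (a : ModSite.sect (ModSite.unit O) V) :=
  mul_one a

theorem rs_oneSec {W V : Opens X} (h : W ≤ V) : RSFin.rs (ModSite.unit O) h (oneSec O V) = oneSec O W :=
  map_one (rsR h)

theorem isFinitePresentation_free (I : Type u) [Finite I] :
    SheafOfModules.IsFinitePresentation (R := ModSite.ringSh O) (SheafOfModules.free (R := ModSite.ringSh O) I) := by
  classical
  let n := Nat.card I
  let e : Fin n ≃ I := (Finite.equivFin I).symm
  haveI := Fintype.ofFinite I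
  let F := SheafOfModules.free (R := ModSite.ringSh O) I
  let ι' : I → (ModSite.unit O ⟶ F) := fun i => Sigma.ι (fun _ : I => ModSite.unit O) i
  let π' : I → (F ⟶ ModSite.unit O) := fun k => Sigma.desc fun j => if j = k then 𝟙 _ else 0
  have hπ : ∀ i k, ι' i ≫ π' k = if i = k then 𝟙 _ else 0 := fun i k => Sigma.ι_desc _ _
  have htot : ∑ k, π' k ≫ ι' k = 𝟙 F := by
    refine Sigma.hom_ext _ _ fun i => ?_
    change ι' i ≫ (∑ k, π' k ≫ ι' k) = ι' i ≫ 𝟙 F
    rw [Category.comp_id, Preadditive.comp_sum]
    simp only [← Category.assoc, hπ]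
    rw [Finset.sum_eq_single i (fun k _ hk => by rw [if_neg (Ne.symm hk), zero_comp]) (by simp), if_pos rfl,
      Category.id_comp]
  let s : Fin n → ModSite.sect F ⊤ := fun i => ap (ι' (e i)) ⊤ (oneSec O ⊤)
  have hι : ∀ (i : I) (V : Opens X) (a : sc O V),
      a • RSFin.rs F (le_top : V ≤ ⊤) (ap (ι' i) ⊤ (oneSec O ⊤)) = ap (ι' i) V a := fun i V a => by
    rw [← ap_rs, rs_oneSec, ← map_smul, smul_oneSec]
  have happ : ∀ (V : Opens X) (t : ModSite.sect F V), ∑ k, ap (ι' k) V (ap (π' k) V t) = t := fun V t => by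
    let φ : (F ⟶ F) →+ ModSite.sect F V := AddMonoidHom.mk' (fun f => ap f V t) fun a b => rfl
    exact (map_sum φ _ _).symm.trans (congrArg φ htot)
  refine isFinitePresentation_of_forall F fun x =>
    ⟨⊤, Fin n, Fin 0, inferInstance, inferInstance, s, Fin.elim0, Opens.mem_top x,
      fun V h t y hy => ⟨V, le_rfl, hy, (mem_spanOn_iff _ _ _ _).2 ⟨fun i => ap (π' (e i)) V t, ?_⟩⟩,
      fun k => k.elim0, fun V h c hc y hy => ⟨V, le_rfl, hy, ?_⟩⟩
  · rw [rs_self]
    refine Eq.trans ?_ (happ V t)
    refine (Finset.sum_congr rfl fun i _ => hι (e i) V _).trans ?_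
    exact Fintype.sum_equiv e _ _ fun _ => rfl
  · have hc0 : ∀ j, c j = 0 := fun j => by
      have h1 := congrArg (ap (π' (e j)) V) hc
      rw [map_sum, map_zero] at h1
      rw [← h1]
      symm
      refine (Finset.sum_eq_single j (fun i _ hij => ?_) (by simp)).trans ?_
      · rw [show RSFin.rs F h (s i) = RSFin.rs F (le_top : V ≤ ⊤) (s i) from rfl, hι, ← ap_comp, hπ,
          if_neg (fun he => hij (e.injective he))]
        rfl
      · rw [show RSFin.rs F h (s j) = RSFin.rs F (le_top : V ≤ ⊤) (s j) from rfl, hι, ← ap_comp, hπ, if_pos rfl]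
        rfl
    have : (fun i => rsR (le_refl V) (c i)) = 0 := funext fun i => by rw [hc0, map_zero]; rfl
    rw [this]
    exact Submodule.zero_mem _

theorem isFinitePresentation_unit :
    SheafOfModules.IsFinitePresentation (R := ModSite.ringSh O) (ModSite.unit O) := by
  refine isFinitePresentation_of_forall _ fun x =>
    ⟨⊤, Fin 1, Fin 0, inferInstance, inferInstance, fun _ => oneSec O ⊤, Fin.elim0, Opens.mem_top x,
      fun V h t y hy => ⟨V, le_rfl, hy, (mem_spanOn_iff _ _ _ _).2 ⟨fun _ => (t : sc O V), ?_⟩⟩,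
      fun k => k.elim0, fun V h c hc y hy => ⟨V, le_rfl, hy, ?_⟩⟩
  · rw [Fin.sum_univ_one, rs_oneSec, smul_oneSec, rs_self]
  · rw [Fin.sum_univ_one, rs_oneSec, smul_oneSec] at hc
    have : (fun i => rsR (le_refl V) (c i)) = 0 := funext fun i => by
      rw [Subsingleton.elim i 0, show c 0 = 0 from hc, map_zero]; rfl
    rw [this]
    exact Submodule.zero_mem _

end Groth.Agent.FSchCoh
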