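import Groth.Agent.FSchCoh.Pres

/-!
# Gluing vectors of functions modulo finitely many relations on an affine formal scheme
-/

universe u

open CategoryTheory CategoryTheory.Limits AlgebraicGeometry TopologicalSpace Opposite
open Groth.Agent.RSFin (sc rsR)

set_option autoImplicit false
set_option backward.isDefEq.respectTransparency false
set_option linter.style.haveILetI false

noncomputable section

namespace Groth.Agent.FSchCoh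

variable {𝔛 : FSch.Sys.{u}} (h𝔛 : 𝔛.IsLocNoethFormal)

/-- the restricted vector -/
abbrev rsV {U W : (𝔛.X 0).Opens} (e : W ≤ U) {ι : Type*} (c : ι → OA 𝔛 h𝔛.1 U) : ι → OA 𝔛 h𝔛.1 W :=
  fun i => rsR e (c i)

/-- the relations `r` modulo the `n`-th power of the ideal of definition -/
abbrev relMod (U : (𝔛.X 0).Opens) {ι κ : Type*} (r : κ → ι → OA 𝔛 h𝔛.1 U) (n : ℕ) :
    Submodule (OA 𝔛 h𝔛.1 U) (ι → OA 𝔛 h𝔛.1 U) :=
  Submodule.span (OA 𝔛 h𝔛.1 U) (Set.range r) ⊔ JA 𝔛 h𝔛.1 U ^ (n + 1) • ⊤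

theorem IsDist.mul {U W W' : (𝔛.X 0).Opens} {a b : OA 𝔛 h𝔛.1 U} (d : IsDist 𝔛 h𝔛.1 U a W)
    (d' : IsDist 𝔛 h𝔛.1 U b W') (hU : IsAffineOpen U) : IsDist 𝔛 h𝔛.1 U (a * b) (W ⊓ W') := by
  have hl : ∀ n, 𝔛.lvU h𝔛.1 n (W ⊓ W') = (𝔛.X n).basicOpen (projR 𝔛 h𝔛.1 U n (a * b)) := fun n => by
    rw [map_mul, Scheme.basicOpen_mul, ← d.level n, ← d'.level n]
    rfl
  refine ⟨inf_le_left.trans d.le, ?_, hl⟩
  rw [← lvU_zero 𝔛 h𝔛.1 (W ⊓ W'), hl 0]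
  exact (FSchAff.isAffineOpen_lvU 𝔛 h𝔛.1 hU 0).basicOpen _

theorem mem_pow_of_projR {U : (𝔛.X 0).Opens} (hU : IsAffineOpen U) {n : ℕ} {x : OA 𝔛 h𝔛.1 U}
    (hx : projR 𝔛 h𝔛.1 U n x = 0) : x ∈ JA 𝔛 h𝔛.1 U ^ (n + 1) := by
  rw [← (main 𝔛 h𝔛.1 h𝔛 hU).2.2 n, RingHom.mem_ker]
  exact hx

theorem rsV_relMod {U W : (𝔛.X 0).Opens} (hU : IsAffineOpen U) (hW : IsAffineOpen W) (e : W ≤ U)
    {ι κ : Type*} [Fintype ι] (r : κ → ι → OA 𝔛 h𝔛.1 U) {n : ℕ} {z : ι → OA 𝔛 h𝔛.1 U}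
    (hz : z ∈ relMod h𝔛 U r n) : rsV h𝔛 e z ∈ relMod h𝔛 W (fun k => rsV h𝔛 e (r k)) n := by
  obtain ⟨x, hx, y, hy, rfl⟩ := Submodule.mem_sup.1 hz
  refine Submodule.mem_sup.2 ⟨rsV h𝔛 e x, ?_, rsV h𝔛 e y, AdicLim.mem_smul_top_of_apply fun i =>
    rsR_mem_pow h𝔛 hU hW e (AdicLim.apply_mem_of_mem_smul_top hy i), funext fun i => (map_add (rsR e) _ _).symm⟩
  clear hz
  induction hx using Submodule.span_induction with
  | mem x hx => obtain ⟨k, rfl⟩ := hx; exact Submodule.subset_span ⟨k, rfl⟩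
  | zero =>
    rw [show rsV h𝔛 e (0 : ι → OA 𝔛 h𝔛.1 U) = 0 from funext fun i => map_zero (rsR e)]
    exact zero_mem _
  | add x y _ _ hx hy =>
    rw [show rsV h𝔛 e (x + y) = rsV h𝔛 e x + rsV h𝔛 e y from funext fun i => map_add (rsR e) _ _]
    exact add_mem hx hy
  | smul b x _ hx =>
    rw [show rsV h𝔛 e (b • x) = rsR e b • rsV h𝔛 e x from funext fun i => map_mul (rsR e) _ _]
    exact Submodule.smul_mem _ _ hx

/-- a congruence on a distinguished open spreads out after multiplying by a power -/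
theorem exists_pow_relMod {U W : (𝔛.X 0).Opens} (hU : IsAffineOpen U) {a : OA 𝔛 h𝔛.1 U}
    (d : IsDist 𝔛 h𝔛.1 U a W) {ι κ : Type*} [Fintype ι] (r : κ → ι → OA 𝔛 h𝔛.1 U) {n : ℕ}
    (z : ι → OA 𝔛 h𝔛.1 U) (hz : rsV h𝔛 d.le z ∈ relMod h𝔛 W (fun k => rsV h𝔛 d.le (r k)) n) :
    ∃ m, a ^ m • z ∈ relMod h𝔛 U r n := by
  classical
  obtain ⟨x, hx, y, hy, hxy⟩ := Submodule.mem_sup.1 hz
  obtain ⟨c, hc⟩ := Finsupp.mem_span_range_iff_exists_finsupp.1 hx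
  obtain ⟨k, c', hc'⟩ := exists_scal_extend_fin h𝔛 hU d n fun l : c.support => c l.1
  let z' : ι → OA 𝔛 h𝔛.1 U := a ^ k • z - ∑ l : c.support, c' l • r l.1
  have h0 : ∀ i, projR 𝔛 h𝔛.1 W n (rsR d.le (z' i)) = 0 := fun i => by
    have hy0 : projR 𝔛 h𝔛.1 W n (y i) = 0 := by
      have := AdicLim.apply_mem_of_mem_smul_top hy i
      rwa [← (main 𝔛 h𝔛.1 h𝔛 d.affine).2.2 n, RingHom.mem_ker] at this
    have hzi : (rsR d.le (z i) : OA 𝔛 h𝔛.1 W) = x i + y i := (congrFun hxy i).symm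
    have hxi : x i = ∑ l : c.support, c l.1 * rsR d.le (r l.1 i) := by
      rw [← hc, Finsupp.sum, Finset.sum_apply]
      exact (Finset.sum_coe_sort c.support fun l => c l * rsR d.le (r l i)).symm
    simp only [z', Pi.sub_apply, Pi.smul_apply, Finset.sum_apply, smul_eq_mul, map_sub, map_mul, map_pow, map_sum]
    rw [hzi, map_add, hy0, add_zero, hxi, map_sum, Finset.mul_sum, sub_eq_zero]
    refine Finset.sum_congr rfl fun l _ => ?_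
    rw [map_mul, ← mul_assoc, ← map_pow, ← map_mul, hc' l]
  have hm : ∀ i, ∃ m, projR 𝔛 h𝔛.1 U n (a ^ m * z' i) = 0 := fun i => by
    let b := projR 𝔛 h𝔛.1 U n a
    haveI := (FSchAff.isAffineOpen_lvU 𝔛 h𝔛.1 hU n).isLocalization_basicOpen b
    have h1 := congrArg (QC.resO (𝔛.X n) (d.level n).ge) ((projR_rsR d.le n (z' i)).symm.trans (h0 i))
    rw [QC.resO_resO, map_zero] at h1
    obtain ⟨⟨_, m, rfl⟩, hm⟩ := (IsLocalization.map_eq_zero_iff (Submonoid.powers b)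
      Γ(𝔛.X n, (𝔛.X n).basicOpen b) (projR 𝔛 h𝔛.1 U n (z' i))).1 h1
    exact ⟨m, by rw [map_mul, map_pow]; exact hm⟩
  choose m hm using hm
  refine ⟨(∑ i, m i) + k, Submodule.mem_sup.2 ⟨a ^ (∑ i, m i) • ∑ l : c.support, c' l • r l.1, ?_,
    a ^ (∑ i, m i) • z', ?_, ?_⟩⟩
  · exact Submodule.smul_mem _ _ (Submodule.sum_mem _ fun l _ => Submodule.smul_mem _ _
      (Submodule.subset_span ⟨_, rfl⟩))
  · refine AdicLim.mem_smul_top_of_apply fun i => mem_pow_of_projR h𝔛 hU ?_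
    have hle : m i ≤ ∑ i, m i := Finset.single_le_sum (fun _ _ => Nat.zero_le _) (Finset.mem_univ i)
    show projR 𝔛 h𝔛.1 U n (a ^ (∑ i, m i) * z' i) = 0
    rw [← Nat.sub_add_cancel hle, pow_add, mul_assoc, map_mul, hm, mul_zero]
  · rw [← smul_add, add_sub_cancel, smul_smul, ← pow_add]

theorem fromSpec_mem_basicOpen_iff {Y : Scheme.{u}} {V : Y.Opens} (hV : IsAffineOpen V) (q : Ideal Γ(Y, V)) [q.IsPrime]
    (f : Γ(Y, V)) : hV.fromSpec ⟨q, inferInstance⟩ ∈ Y.basicOpen f ↔ f ∉ q := by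
  have h := hV.fromSpec_preimage_basicOpen f
  exact SetLike.ext_iff.1 h ⟨q, inferInstance⟩

/-- membership in the radical can be checked locally -/
theorem mem_radical_of_cover {U W : (𝔛.X 0).Opens} (hU : IsAffineOpen U) {a : OA 𝔛 h𝔛.1 U}
    (d : IsDist 𝔛 h𝔛.1 U a W) (I : Ideal (OA 𝔛 h𝔛.1 U)) (hI : JA 𝔛 h𝔛.1 U ≤ I.radical)
    (h : ∀ y ∈ W, ∃ g ∈ I, ∃ W', IsDist 𝔛 h𝔛.1 U g W' ∧ y ∈ W') : a ∈ I.radical := by
  rw [Ideal.radical_eq_sInf, Submodule.mem_sInf]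
  rintro p ⟨hIp, hp⟩
  by_contra ha
  have hJp : JA 𝔛 h𝔛.1 U ≤ p := hI.trans (hp.radical_le_iff.2 hIp)
  have hs := projR_surjective 𝔛 h𝔛.1 hU 0
  haveI : (Ideal.map (projR 𝔛 h𝔛.1 U 0) p).IsPrime := Ideal.map_isPrime_of_surjective hs hJp
  have hmem : ∀ g, projR 𝔛 h𝔛.1 U 0 g ∈ Ideal.map (projR 𝔛 h𝔛.1 U 0) p ↔ g ∈ p := fun g => by
    rw [← Ideal.mem_comap, Ideal.comap_map_of_surjective _ hs, sup_eq_left.2 (show Ideal.comap (projR 𝔛 h𝔛.1 U 0) ⊥ ≤ p from hJp)]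
  let aff := FSchAff.isAffineOpen_lvU 𝔛 h𝔛.1 hU 0
  let y := aff.fromSpec ⟨Ideal.map (projR 𝔛 h𝔛.1 U 0) p, inferInstance⟩
  have hy : ∀ g W', IsDist 𝔛 h𝔛.1 U g W' → (y ∈ W' ↔ g ∉ p) := fun g W' d' => by
    rw [show W' = (𝔛.X 0).basicOpen (projR 𝔛 h𝔛.1 U 0 g) from (lvU_zero 𝔛 h𝔛.1 W').symm.trans (d'.level 0)]
    exact (fromSpec_mem_basicOpen_iff aff _ (projR 𝔛 h𝔛.1 U 0 g)).trans (not_congr (hmem g))
  obtain ⟨g, hg, W', d', hyW⟩ := h y ((hy a W d).2 ha)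
  exact (hy g W' d').1 hyW (hIp hg)

/-- the colon ideal of a congruence -/
def colonI (U : (𝔛.X 0).Opens) {ι κ : Type*} (r : κ → ι → OA 𝔛 h𝔛.1 U) (n : ℕ) (z : ι → OA 𝔛 h𝔛.1 U) :
    Ideal (OA 𝔛 h𝔛.1 U) :=
  (relMod h𝔛 U r n).comap (LinearMap.toSpanSingleton (OA 𝔛 h𝔛.1 U) (ι → OA 𝔛 h𝔛.1 U) z)

theorem mem_colonI {U : (𝔛.X 0).Opens} {ι κ : Type*} (r : κ → ι → OA 𝔛 h𝔛.1 U) (n : ℕ)
    (z : ι → OA 𝔛 h𝔛.1 U) (b : OA 𝔛 h𝔛.1 U) : b ∈ colonI h𝔛 U r n z ↔ b • z ∈ relMod h𝔛 U r n := Iff.rfl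

theorem JA_le_radical_colonI {U : (𝔛.X 0).Opens} {ι κ : Type*} [Fintype ι] (r : κ → ι → OA 𝔛 h𝔛.1 U) (n : ℕ)
    (z : ι → OA 𝔛 h𝔛.1 U) : JA 𝔛 h𝔛.1 U ≤ (colonI h𝔛 U r n z).radical := fun b hb =>
  ⟨n + 1, (mem_colonI h𝔛 r n z _).2 (Submodule.mem_sup_right (Submodule.smul_mem_smul (Ideal.pow_mem_pow hb _) trivial))⟩

/-- a congruence that holds near every point of a distinguished open -/
theorem exists_pow_relMod_of_local {U W : (𝔛.X 0).Opens} (hU : IsAffineOpen U) {a : OA 𝔛 h𝔛.1 U}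
    (d : IsDist 𝔛 h𝔛.1 U a W) {ι κ : Type*} [Fintype ι] (r : κ → ι → OA 𝔛 h𝔛.1 U) {n : ℕ}
    (z : ι → OA 𝔛 h𝔛.1 U)
    (h : ∀ y ∈ W, ∃ (g : OA 𝔛 h𝔛.1 U) (W' : (𝔛.X 0).Opens) (d' : IsDist 𝔛 h𝔛.1 U g W'), y ∈ W' ∧
      rsV h𝔛 d'.le z ∈ relMod h𝔛 W' (fun k => rsV h𝔛 d'.le (r k)) n) :
    ∃ m, a ^ m • z ∈ relMod h𝔛 U r n := by
  refine mem_radical_of_cover h𝔛 hU d (colonI h𝔛 U r n z) (JA_le_radical_colonI h𝔛 r n z) fun y hy => ?_
  obtain ⟨g, W', d', hyW, hz⟩ := h y hy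
  obtain ⟨m, hm⟩ := exists_pow_relMod h𝔛 hU d' r z hz
  have d'' : IsDist 𝔛 h𝔛.1 U (g ^ (m + 1)) W' := ⟨d'.le, d'.affine, fun k => by
    rw [d'.level k, map_pow, Scheme.basicOpen_pow _ _ (Nat.succ_pos m)]⟩
  refine ⟨g ^ (m + 1), (mem_colonI h𝔛 r n z _).2 ?_, W', d'', hyW⟩
  rw [pow_succ', mul_smul]
  exact Submodule.smul_mem _ _ hm

theorem span_eq_top_of_cover {U : (𝔛.X 0).Opens} (hU : IsAffineOpen U) {P : Type*} (a : P → OA 𝔛 h𝔛.1 U)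
    (W : P → (𝔛.X 0).Opens) (d : ∀ j, IsDist 𝔛 h𝔛.1 U (a j) (W j)) (hcov : ∀ y ∈ U, ∃ j, y ∈ W j) :
    Ideal.span (Set.range a) = ⊤ := by
  have d1 : IsDist 𝔛 h𝔛.1 U (1 : OA 𝔛 h𝔛.1 U) U := ⟨le_rfl, hU, fun n => by
    rw [map_one]; exact (Scheme.basicOpen_of_isUnit _ isUnit_one).symm⟩
  have h := mem_radical_of_cover h𝔛 hU d1 (Ideal.span (Set.range a) ⊔ JA 𝔛 h𝔛.1 U)
    (le_sup_right.trans Ideal.le_radical) fun y hy => by
      obtain ⟨j, hj⟩ := hcov y hy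
      exact ⟨a j, Ideal.mem_sup_left (Ideal.subset_span ⟨j, rfl⟩), W j, d j, hj⟩
  obtain ⟨n, hn⟩ := h
  rw [one_pow] at hn
  obtain ⟨x, hx, y, hy, hxy⟩ := Submodule.mem_sup.1 hn
  refine Ideal.eq_top_of_isUnit_mem _ hx ?_
  have h2 := Ideal.mem_jacobson_bot.1 (JA_le_jacobson h𝔛 hU hy) (-1)
  rwa [mul_neg_one, neg_add_eq_sub, ← eq_sub_of_add_eq hxy] at h2

theorem rsV_sub {U W : (𝔛.X 0).Opens} (e : W ≤ U) {ι : Type*} (x y : ι → OA 𝔛 h𝔛.1 U) :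
    rsV h𝔛 e (x - y) = rsV h𝔛 e x - rsV h𝔛 e y := funext fun _ => map_sub (rsR e) _ _

theorem rsV_smul {U W : (𝔛.X 0).Opens} (e : W ≤ U) {ι : Type*} (b : OA 𝔛 h𝔛.1 U) (x : ι → OA 𝔛 h𝔛.1 U) :
    rsV h𝔛 e (b • x) = rsR e b • rsV h𝔛 e x := funext fun _ => map_mul (rsR e) _ _

theorem rsV_rsV {U W W' : (𝔛.X 0).Opens} (e : W ≤ U) (e' : W' ≤ W) {ι : Type*} (x : ι → OA 𝔛 h𝔛.1 U) :
    rsV h𝔛 e' (rsV h𝔛 e x) = rsV h𝔛 (e'.trans e) x := funext fun _ => RSFin.rsR_rsR e' e _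

theorem mem_span_of_forall_relMod {U : (𝔛.X 0).Opens} (hU : IsAffineOpen U) {ι κ : Type*} [Fintype ι]
    (r : κ → ι → OA 𝔛 h𝔛.1 U) {z : ι → OA 𝔛 h𝔛.1 U} (h : ∀ n, z ∈ relMod h𝔛 U r n) :
    z ∈ Submodule.span (OA 𝔛 h𝔛.1 U) (Set.range r) := by
  haveI := (main 𝔛 h𝔛.1 h𝔛 hU).1
  set S := Submodule.span (OA 𝔛 h𝔛.1 U) (Set.range r)
  have hq : S.mkQ z ∈ (⨅ n : ℕ, JA 𝔛 h𝔛.1 U ^ n • (⊤ : Submodule (OA 𝔛 h𝔛.1 U) ((ι → OA 𝔛 h𝔛.1 U) ⧸ S))) := by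
    rw [Submodule.mem_iInf]
    intro n
    obtain ⟨y, hy, x, hx, hyx⟩ := Submodule.mem_sup.1 (h n)
    rw [← hyx, map_add, show S.mkQ y = 0 from (Submodule.Quotient.mk_eq_zero S).2 hy, zero_add]
    have h1 : S.mkQ x ∈ (JA 𝔛 h𝔛.1 U ^ (n + 1) • (⊤ : Submodule (OA 𝔛 h𝔛.1 U) (ι → OA 𝔛 h𝔛.1 U))).map S.mkQ :=
      ⟨x, hx, rfl⟩
    rw [Submodule.map_smul''] at h1
    exact Submodule.smul_mono (Ideal.pow_le_pow_right (Nat.le_succ n)) le_top h1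
  rw [Ideal.iInf_pow_smul_eq_bot_of_le_jacobson _ (JA_le_jacobson h𝔛 hU), Submodule.mem_bot] at hq
  exact (Submodule.Quotient.mk_eq_zero S).1 hq

variable {U : (𝔛.X 0).Opens} (hU : IsAffineOpen U) {ι κ : Type*} [Fintype ι] (r : κ → ι → OA 𝔛 h𝔛.1 U)
  {P : Type*} [Fintype P] (a : P → OA 𝔛 h𝔛.1 U) (W : P → (𝔛.X 0).Opens)
  (d : ∀ j, IsDist 𝔛 h𝔛.1 U (a j) (W j)) (hcov : ∀ y ∈ U, ∃ j, y ∈ W j)

include hU d hcov in
theorem mem_relMod_of_cover {n : ℕ} (z : ι → OA 𝔛 h𝔛.1 U)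
    (h : ∀ j, rsV h𝔛 (d j).le z ∈ relMod h𝔛 (W j) (fun k => rsV h𝔛 (d j).le (r k)) n) :
    z ∈ relMod h𝔛 U r n := by
  have d1 : IsDist 𝔛 h𝔛.1 U (1 : OA 𝔛 h𝔛.1 U) U := ⟨le_rfl, hU, fun n => by
    rw [map_one]; exact (Scheme.basicOpen_of_isUnit _ isUnit_one).symm⟩
  obtain ⟨m, hm⟩ := exists_pow_relMod_of_local h𝔛 hU d1 r z fun y hy => by
    obtain ⟨j, hj⟩ := hcov y hy
    exact ⟨a j, W j, d j, hj, h j⟩
  rwa [one_pow, one_smul] at hm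

variable (c : ∀ j, ι → OA 𝔛 h𝔛.1 (W j))
  (hc : ∀ i j, ∀ y ∈ W i ⊓ W j, ∃ (W' : (𝔛.X 0).Opens) (e : W' ≤ W i ⊓ W j), y ∈ W' ∧
    rsV h𝔛 (e.trans inf_le_left) (c i) - rsV h𝔛 (e.trans inf_le_right) (c j) ∈
      Submodule.span (OA 𝔛 h𝔛.1 W') (Set.range fun k => rsV h𝔛 (e.trans (inf_le_left.trans (d i).le)) (r k)))

include hU d hcov hc in
theorem exists_glue_level (n : ℕ) : ∃ c₀ : ι → OA 𝔛 h𝔛.1 U,
    ∀ j, rsV h𝔛 (d j).le c₀ - c j ∈ relMod h𝔛 (W j) (fun k => rsV h𝔛 (d j).le (r k)) n := by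
  classical
  choose k g hg using fun j => exists_scal_extend_fin h𝔛 hU (d j) n (c j)
  let k₀ := ∑ j, k j
  let g₀ : P → ι → OA 𝔛 h𝔛.1 U := fun j => a j ^ (k₀ - k j) • g j
  have hg₀ : ∀ j, rsR (d j).le (a j) ^ k₀ • c j - rsV h𝔛 (d j).le (g₀ j) ∈
      JA 𝔛 h𝔛.1 (W j) ^ (n + 1) • (⊤ : Submodule (OA 𝔛 h𝔛.1 (W j)) (ι → OA 𝔛 h𝔛.1 (W j))) := fun j => by
    refine AdicLim.mem_smul_top_of_apply fun i => mem_pow_of_projR h𝔛 (d j).affine ?_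
    have hle : k j ≤ k₀ := Finset.single_le_sum (fun _ _ => Nat.zero_le _) (Finset.mem_univ j)
    have e : rsR (d j).le (a j) ^ k₀ * c j i =
        rsR (d j).le (a j) ^ (k₀ - k j) * (rsR (d j).le (a j) ^ k j * c j i) := by
      rw [← mul_assoc, ← pow_add, Nat.sub_add_cancel hle]
    show projR 𝔛 h𝔛.1 (W j) n (rsR (d j).le (a j) ^ k₀ * c j i - rsR (d j).le (a j ^ (k₀ - k j) * g j i)) = 0
    rw [e, map_mul (rsR (d j).le), map_pow (rsR (d j).le), map_sub,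
      map_mul (projR 𝔛 h𝔛.1 (W j) n) _ (_ * c j i), hg j i, ← map_mul, sub_self]
  have hpair : ∀ i j, ∃ m, (a i * a j) ^ m • (a j ^ k₀ • g₀ i - a i ^ k₀ • g₀ j) ∈ relMod h𝔛 U r n := fun i j => by
    refine exists_pow_relMod_of_local h𝔛 hU (IsDist.mul h𝔛 (d i) (d j) hU) r _ fun y hy => ?_
    obtain ⟨W', e, hyW', hmem⟩ := hc i j y hy
    obtain ⟨b, W'', hyW'', hle, d''⟩ := exists_dist 𝔛 h𝔛.1 hU ((e.trans inf_le_left).trans (d i).le) hyW'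
    refine ⟨b, W'', d'', hyW'', ?_⟩
    have e₁ : W'' ≤ W i := hle.trans (e.trans inf_le_left)
    have e₂ : W'' ≤ W j := hle.trans (e.trans inf_le_right)
    have h1 := rsV_relMod h𝔛 (d i).affine d''.affine e₁ (fun k => rsV h𝔛 (d i).le (r k))
      (Submodule.mem_sup_right (hg₀ i))
    have h2 := rsV_relMod h𝔛 (d j).affine d''.affine e₂ (fun k => rsV h𝔛 (d j).le (r k))
      (Submodule.mem_sup_right (hg₀ j))
    simp only [rsV_sub, rsV_smul, rsV_rsV, RSFin.rsR_rsR, map_pow] at h1 h2 ⊢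
    have h3 : rsV h𝔛 e₁ (c i) - rsV h𝔛 e₂ (c j) ∈ relMod h𝔛 W'' (fun k => rsV h𝔛 d''.le (r k)) n := by
      refine Submodule.mem_sup_left ?_
      obtain ⟨x, hx⟩ := Finsupp.mem_span_range_iff_exists_finsupp.1 hmem
      have := congrArg (rsV h𝔛 hle) hx
      rw [rsV_sub, rsV_rsV, rsV_rsV] at this
      rw [← this, Finsupp.sum]
      have e3 : rsV h𝔛 hle (∑ k ∈ x.support, x k • rsV h𝔛 (e.trans (inf_le_left.trans (d i).le)) (r k)) =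
          ∑ k ∈ x.support, rsR hle (x k) • rsV h𝔛 d''.le (r k) := funext fun l => by
        simp only [rsV, Finset.sum_apply, Pi.smul_apply, smul_eq_mul, map_sum, map_mul, RSFin.rsR_rsR]
      rw [e3]
      exact Submodule.sum_mem _ fun k _ => Submodule.smul_mem _ _ (Submodule.subset_span ⟨k, rfl⟩)
    have key := add_mem (sub_mem (Submodule.smul_mem _ (rsR d''.le (a i) ^ k₀) h2)
      (Submodule.smul_mem _ (rsR d''.le (a j) ^ k₀) h1))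
      (Submodule.smul_mem _ (rsR d''.le (a i) ^ k₀ * rsR d''.le (a j) ^ k₀) h3)
    convert key using 1
    funext l
    simp only [Pi.add_apply, Pi.sub_apply, Pi.smul_apply, smul_eq_mul]
    ring
  choose m hm using hpair
  let m₀ := ∑ p : P × P, m p.1 p.2
  have hm₀ : ∀ i j, (a i * a j) ^ m₀ • (a j ^ k₀ • g₀ i - a i ^ k₀ • g₀ j) ∈ relMod h𝔛 U r n := fun i j => by
    have hle : m i j ≤ m₀ := Finset.single_le_sum (f := fun p : P × P => m p.1 p.2) (fun _ _ => Nat.zero_le _)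
      (Finset.mem_univ (i, j))
    rw [← Nat.sub_add_cancel hle, pow_add, mul_smul]
    exact Submodule.smul_mem _ _ (hm i j)
  let K := k₀ + m₀
  let g₁ : P → ι → OA 𝔛 h𝔛.1 U := fun j => a j ^ m₀ • g₀ j
  have hK := Ideal.span_pow_eq_top (Set.range a) (span_eq_top_of_cover h𝔛 hU a W d hcov) K
  rw [← Set.range_comp] at hK
  obtain ⟨b, hb⟩ : ∃ b : P → OA 𝔛 h𝔛.1 U, ∑ l, b l * a l ^ K = 1 := by
    obtain ⟨b, hb⟩ := (Submodule.mem_span_range_iff_exists_fun _).1 ((Ideal.eq_top_iff_one _).1 hK)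
    exact ⟨b, hb⟩
  refine ⟨∑ l, b l • g₁ l, fun j => ?_⟩
  have h1 : a j ^ K • (∑ l, b l • g₁ l) - g₁ j ∈ relMod h𝔛 U r n := by
    have e : a j ^ K • (∑ l, b l • g₁ l) - g₁ j =
        ∑ l, b l • ((a l * a j) ^ m₀ • (a j ^ k₀ • g₀ l - a l ^ k₀ • g₀ j)) := by
      conv_lhs => arg 2; rw [← one_smul (OA 𝔛 h𝔛.1 U) (g₁ j), ← hb, Finset.sum_smul]
      rw [Finset.smul_sum, ← Finset.sum_sub_distrib]
      refine Finset.sum_congr rfl fun l _ => funext fun q => ?_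
      simp only [g₁, K, Pi.sub_apply, Pi.smul_apply, smul_eq_mul, pow_add, mul_pow]
      ring
    rw [e]
    exact Submodule.sum_mem _ fun l _ => Submodule.smul_mem _ _ (hm₀ l j)
  have h2 := rsV_relMod h𝔛 hU (d j).affine (d j).le r h1
  have h3 := Submodule.smul_mem (relMod h𝔛 (W j) (fun k => rsV h𝔛 (d j).le (r k)) n) (rsR (d j).le (a j) ^ m₀)
    (Submodule.mem_sup_right (hg₀ j))
  have hu := ((d j).isUnit h𝔛).pow K
  have h4 : rsR (d j).le (a j) ^ K • (rsV h𝔛 (d j).le (∑ l, b l • g₁ l) - c j) ∈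
      relMod h𝔛 (W j) (fun k => rsV h𝔛 (d j).le (r k)) n := by
    simp only [g₁, rsV_sub, rsV_smul, map_pow] at h2 ⊢
    convert sub_mem h2 h3 using 1
    funext l
    simp only [K, pow_add, Pi.sub_apply, Pi.smul_apply, smul_eq_mul]
    ring
  have h5 := Submodule.smul_mem (relMod h𝔛 (W j) (fun k => rsV h𝔛 (d j).le (r k)) n) (↑hu.unit⁻¹ : OA 𝔛 h𝔛.1 (W j)) h4
  rwa [smul_smul, hu.val_inv_mul, one_smul] at h5

include hU d hcov hc in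
/-- vectors that agree on overlaps modulo the relations come from a global vector -/
theorem exists_glue : ∃ c₀ : ι → OA 𝔛 h𝔛.1 U,
    ∀ j, rsV h𝔛 (d j).le c₀ - c j ∈ Submodule.span (OA 𝔛 h𝔛.1 (W j)) (Set.range fun k => rsV h𝔛 (d j).le (r k)) := by
  choose b hb using exists_glue_level h𝔛 hU r a W d hcov c hc
  have hdiff : ∀ n, b (n + 1) - b n ∈ relMod h𝔛 U r n := fun n =>
    mem_relMod_of_cover h𝔛 hU r a W d hcov _ fun j => by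
      have h' : rsV h𝔛 (d j).le (b (n + 1)) - c j ∈ relMod h𝔛 (W j) (fun k => rsV h𝔛 (d j).le (r k)) n :=
        SetLike.le_def.1 (sup_le_sup_left (Submodule.smul_mono (Ideal.pow_le_pow_right (Nat.le_succ _)) le_rfl) _)
          (hb (n + 1) j)
      rw [rsV_sub]
      convert sub_mem h' (hb n j) using 1
      abel
  choose x hx y hy hxy using fun n => Submodule.mem_sup.1 (hdiff n)
  let s : ℕ → ι → OA 𝔛 h𝔛.1 U := fun n => b 0 + ∑ l ∈ Finset.range n, y l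
  have hs : ∀ n, b n - s n ∈ Submodule.span (OA 𝔛 h𝔛.1 U) (Set.range r) := fun n => by
    induction n with
    | zero => simp [s]
    | succ n ih =>
      have e : b (n + 1) - s (n + 1) = (b n - s n) + x n := by
        simp only [s, Finset.sum_range_succ]
        have e1 : b (n + 1) = x n + y n + b n := by rw [hxy, sub_add_cancel]
        rw [e1]
        abel
      rw [e]
      exact add_mem ih (hx n)
  haveI := (main 𝔛 h𝔛.1 h𝔛 hU).2.1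
  have hcau : ∀ i, ∃ L, ∀ n, s n i - L ∈ JA 𝔛 h𝔛.1 U ^ (n + 1) := fun i => by
    obtain ⟨L, hL⟩ := IsPrecomplete.prec (I := JA 𝔛 h𝔛.1 U) (M := OA 𝔛 h𝔛.1 U) inferInstance (f := fun n => s n i)
      (fun {m n} hmn => by
        rw [SModEq.sub_mem, smul_eq_mul, Ideal.mul_top]
        induction hmn with
        | refl => simp
        | @step n hmn ih =>
          have h1 : s m i - s (n + 1) i = (s m i - s n i) + -(y n i) := by
            simp only [s, Finset.sum_range_succ, Pi.add_apply]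
            ring
          show s m i - s (n + 1) i ∈ _
          rw [h1]
          exact add_mem ih (neg_mem (Ideal.pow_le_pow_right (le_trans hmn (Nat.le_succ n))
            (AdicLim.apply_mem_of_mem_smul_top (hy n) i))))
    refine ⟨L, fun n => ?_⟩
    have h1 := hL (n + 1)
    rw [SModEq.sub_mem, smul_eq_mul, Ideal.mul_top] at h1
    have h2 : s n i - L = (s (n + 1) i - L) + -(y n i) := by
      simp only [s, Finset.sum_range_succ, Pi.add_apply]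
      ring
    rw [h2]
    exact add_mem h1 (neg_mem (AdicLim.apply_mem_of_mem_smul_top (hy n) i))
  choose L hL using hcau
  refine ⟨L, fun j => mem_span_of_forall_relMod h𝔛 (d j).affine _ fun n => ?_⟩
  have h1 : s n - L ∈ relMod h𝔛 U r n :=
    Submodule.mem_sup_right (AdicLim.mem_smul_top_of_apply fun i => hL i n)
  have h2 := add_mem (rsV_relMod h𝔛 hU (d j).affine (d j).le r (Submodule.mem_sup_left (hs n)))
    (rsV_relMod h𝔛 hU (d j).affine (d j).le r h1)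
  convert sub_mem (hb n j) h2 using 1
  simp only [rsV_sub]
  abel

end Groth.Agent.FSchCoh
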