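import Groth.Agent.BrownDerived.Basic
import Groth.Agent.Brown.Apply

/-!
# Brown representability for the standard derived category
-/

universe w₁ w₂ v u u'

open CategoryTheory CategoryTheory.Limits Pretriangulated Opposite

set_option autoImplicit false
set_option backward.isDefEq.respectTransparency false
set_option linter.style.haveILetI false

noncomputable section

namespace Groth.Agent.FSchCoh

variable {A : Type u} [Category.{v} A] [Abelian A]

/-- comparison of two models of the derived category -/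
def idD (h₁ : HasDerivedCategory.{w₁} A) (h₂ : HasDerivedCategory.{w₂} A) :
    @DerivedCategory A _ _ h₁ ⥤ @DerivedCategory A _ _ h₂ :=
  @Functor.mapDerivedCategory A _ _ h₁ A _ _ h₂ (𝟭 A) _ _ _

theorem isEquivalence_idD (h₁ : HasDerivedCategory.{w₁} A) (h₂ : HasDerivedCategory.{w₂} A) :
    (idD h₁ h₂).IsEquivalence := by
  let W := HomologicalComplex.quasiIso A (ComplexShape.up ℤ)
  let Q₁ := @DerivedCategory.Q A _ _ h₁
  let Q₂ := @DerivedCategory.Q A _ _ h₂
  haveI : Q₁.IsLocalization W := @DerivedCategory.instIsLocalizationCochainComplexIntQQuasiIsoUp A _ _ h₁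
  haveI : Q₂.IsLocalization W := @DerivedCategory.instIsLocalizationCochainComplexIntQQuasiIsoUp A _ _ h₂
  let e₁ : Q₁ ⋙ idD h₁ h₂ ≅ (𝟭 A).mapHomologicalComplex (ComplexShape.up ℤ) ⋙ Q₂ :=
    @Functor.mapDerivedCategoryFactors A _ _ h₁ A _ _ h₂ (𝟭 A) _ _ _
  let e₂ : (𝟭 A).mapHomologicalComplex (ComplexShape.up ℤ) ⋙ Q₂ ≅ Q₂ :=
    Functor.isoWhiskerRight (Functor.mapHomologicalComplexIdIso A (ComplexShape.up ℤ)) Q₂ ≪≫ Functor.leftUnitor _
  let e : (Localization.uniq Q₁ Q₂ W).functor ≅ idD h₁ h₂ :=
    @Localization.liftNatIso _ _ _ _ Q₁ W _ _ _ (Q₁ ⋙ (Localization.uniq Q₁ Q₂ W).functor) (Q₁ ⋙ idD h₁ h₂) _ _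
      ⟨Iso.refl _⟩ ⟨Iso.refl _⟩ (Localization.compUniqFunctor Q₁ Q₂ W ≪≫ (e₁ ≪≫ e₂).symm)
  exact Functor.isEquivalence_of_iso e

theorem additive_shift (h : HasDerivedCategory.{w₁} A) (n : ℤ) :
    (shiftFunctor (@DerivedCategory A _ _ h) n).Additive := inferInstance

theorem hasBinaryProducts_D (h : HasDerivedCategory.{w₁} A) :
    HasBinaryProducts (@DerivedCategory A _ _ h) := inferInstance

section

variable [IsGrothendieckAbelian.{v} A] {B : Type u'} [Category.{v} B] [Abelian B] [IsGrothendieckAbelian.{v} B]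

theorem isLeftAdjoint_small [HasDerivedCategory.{v} A] [HasDerivedCategory.{v} B]
    (G : DerivedCategory A ⥤ DerivedCategory B) [G.Additive]
    (hT : ∀ T ∈ Pretriangulated.distinguishedTriangles (C := DerivedCategory A),
      ∃ c, Triangle.mk (G.map T.mor₁) (G.map T.mor₂) c ∈ Pretriangulated.distinguishedTriangles (C := DerivedCategory B))
    (hc : ∀ ι : Type v, PreservesColimitsOfShape (Discrete ι) G) : G.IsLeftAdjoint := by
  haveI : HasCoproducts.{v} (DerivedCategory A) := BrownDerived.hasCoproducts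
  haveI := Brown.hasColimitsOfShape_nat (D := DerivedCategory A)
  refine Brown.isLeftAdjoint_of_isRepresentable G fun Y => BrownDerived.isRepresentable
    { additive := inferInstance
      exact := fun T hT' y hy => ?_
      pi := fun {J} X _ => haveI := hc J; ?_
      piNat := fun X => ?_ }
  · obtain ⟨c, hc'⟩ := hT T hT'
    change G.map T.mor₁ ≫ y = 0 at hy
    obtain ⟨z, hz⟩ := Triangle.yoneda_exact₂ _ hc' y hy
    exact ⟨z, hz.symm⟩
  · exact Brown.bijective_of_preserves G Y X
  · haveI := hc (ULift.{v} ℕ)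
    haveI : PreservesColimitsOfShape (Discrete ℕ) G :=
      preservesColimitsOfShape_of_equiv (Discrete.equivalence Equiv.ulift.{v}) G
    exact Brown.bijective_of_preserves G Y X

attribute [local instance] HasDerivedCategory.standard

theorem isLeftAdjoint_standard (G : DerivedCategory A ⥤ DerivedCategory B) [G.Additive]
    (hT : ∀ T ∈ Pretriangulated.distinguishedTriangles (C := DerivedCategory A),
      ∃ c, Triangle.mk (G.map T.mor₁) (G.map T.mor₂) c ∈ Pretriangulated.distinguishedTriangles (C := DerivedCategory B))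
    (hc : ∀ ι : Type v, PreservesColimitsOfShape (Discrete ι) G) : G.IsLeftAdjoint := by
  let Φ := idD (BrownDerived.smallDerived A) (HasDerivedCategory.standard A)
  let Ψ := idD (HasDerivedCategory.standard B) (BrownDerived.smallDerived B)
  haveI := fun n => additive_shift (BrownDerived.smallDerived A) n
  haveI := fun n => additive_shift (BrownDerived.smallDerived B) n
  haveI := hasBinaryProducts_D (BrownDerived.smallDerived A)
  haveI := hasBinaryProducts_D (BrownDerived.smallDerived B)
  haveI hΦ : Φ.IsEquivalence := isEquivalence_idD _ _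
  haveI hΨ : Ψ.IsEquivalence := isEquivalence_idD _ _
  letI : Φ.CommShift ℤ := by unfold Φ idD; infer_instance
  haveI : Φ.IsTriangulated := by unfold Φ idD; infer_instance
  letI : Ψ.CommShift ℤ := by unfold Ψ idD; infer_instance
  haveI : Ψ.IsTriangulated := by unfold Ψ idD; infer_instance
  haveI : Φ.Additive := Functor.additive_of_preserves_binary_products _
  haveI : Ψ.Additive := Functor.additive_of_preserves_binary_products _
  haveI h : (Φ ⋙ G ⋙ Ψ).IsLeftAdjoint :=
    @isLeftAdjoint_small A _ _ _ B _ _ _ (BrownDerived.smallDerived A) (BrownDerived.smallDerived B) (Φ ⋙ G ⋙ Ψ) inferInstance (fun T hT' => by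
      obtain ⟨c, hc'⟩ := hT _ (Φ.map_distinguished T hT')
      exact ⟨_, Ψ.map_distinguished _ hc'⟩) fun ι => by
      haveI := hc ι
      infer_instance
  have e : G ≅ Φ.asEquivalence.inverse ⋙ (Φ ⋙ G ⋙ Ψ) ⋙ Ψ.asEquivalence.inverse :=
    (Functor.leftUnitor G).symm ≪≫ Functor.isoWhiskerRight Φ.asEquivalence.counitIso.symm G ≪≫
      Functor.associator _ _ _ ≪≫ Functor.isoWhiskerLeft _ ((Functor.rightUnitor (Φ ⋙ G)).symm ≪≫
        Functor.isoWhiskerLeft (Φ ⋙ G) Ψ.asEquivalence.unitIso ≪≫ (Functor.associator _ _ _).symm ≪≫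
          Functor.isoWhiskerRight (Functor.associator _ _ _) _)
  exact Functor.isLeftAdjoint_of_iso e.symm

end

end Groth.Agent.FSchCoh
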