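import Groth.Agent.FSchCoh.RpushCoprod
import Mathlib.CategoryTheory.Abelian.Subcategory
import Mathlib.CategoryTheory.Abelian.GrothendieckAxioms.Basic

/-!
# The category of ind-coherent modules on a Noetherian formal scheme is Grothendieck abelian
-/

universe u

open CategoryTheory CategoryTheory.Limits AlgebraicGeometry TopologicalSpace Opposite
open Groth.Agent.RSFin (ap rs ap_rs)

set_option autoImplicit false
set_option backward.isDefEq.respectTransparency false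
set_option linter.style.haveILetI false

noncomputable section

namespace Groth.Agent.FSchCoh

variable {𝔛 : FSch.Sys.{u}} (h𝔛 : 𝔛.IsLocNoethFormal)

/-- finite sums of free modules on opens -/
def freeSum {n : ℕ} (L : Fin n → (𝔛.X 0).Opens) : FSch.ModF 𝔛 h𝔛.1 :=
  haveI : IsGrothendieckAbelian.{u} (FSch.ModF 𝔛 h𝔛.1) := KFlat.isGrothendieck _
  ∐ fun i : ULift.{u} (Fin n) => HDU.freeMod (𝔛.Osh h𝔛.1) (L i.down)

theorem exists_epi_freeSum [CompactSpace (𝔛.X 0)] (G : FSch.ModF 𝔛 h𝔛.1) (hG : FSch.IsCohF 𝔛 h𝔛.1 G) :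
    ∃ (n : ℕ) (L : Fin n → (𝔛.X 0).Opens) (φ : freeSum h𝔛 L ⟶ G), Epi φ := by
  classical
  haveI : IsGrothendieckAbelian.{u} (FSch.ModF 𝔛 h𝔛.1) := KFlat.isGrothendieck _
  choose U ι κ hι hκ s r hxU hUV hU hs hr using
    fun x : 𝔛.X 0 => exists_affine_pres h𝔛 hG (V := (⊤ : (𝔛.X 0).Opens)) (x := x) trivial
  obtain ⟨T, hT⟩ := isCompact_univ.elim_finite_subcover (fun x : 𝔛.X 0 => (U x : Set (𝔛.X 0)))
    (fun x => (U x).2) (fun x _ => Set.mem_iUnion.2 ⟨x, hxU x⟩)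
  let e := (Fintype.equivFin (Σ x : T, ι x.1)).symm
  let L : Fin (Fintype.card (Σ x : T, ι x.1)) → (𝔛.X 0).Opens := fun k => U (e k).1.1
  let φ : freeSum h𝔛 L ⟶ G := Sigma.desc fun k =>
    (HDU.modSec (𝔛.Osh h𝔛.1) (L k.down) G).symm (s (e k.down).1.1 (e k.down).2)
  refine ⟨_, L, φ, RSFin.epi_of_locally φ fun V t x hx => ?_⟩
  obtain ⟨x₀, hx₀, hxx₀⟩ : ∃ x₀ ∈ T, x ∈ U x₀ := by simpa using hT (Set.mem_univ x)
  have hgen : ∀ l : ι x₀, ∃ a : ModSite.sect (freeSum h𝔛 L) (U x₀), ap φ (U x₀) a = s x₀ l := by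
    intro l
    obtain ⟨k, hk⟩ := e.surjective ⟨⟨x₀, hx₀⟩, l⟩
    have key : ∀ p : (Σ x : T, ι x.1), e k = p → ∃ a : ModSite.sect (freeSum h𝔛 L) (U p.1.1),
        ap φ (U p.1.1) a = s p.1.1 p.2 := by
      rintro p rfl
      let j : HDU.freeMod (𝔛.Osh h𝔛.1) (L k) ⟶ freeSum h𝔛 L :=
        Sigma.ι (fun i : ULift.{u} (Fin _) => HDU.freeMod (𝔛.Osh h𝔛.1) (L i.down)) ⟨k⟩
      refine ⟨HDU.modSec (𝔛.Osh h𝔛.1) (L k) _ j, ?_⟩
      refine (HDU.modSec_comp (𝔛.Osh h𝔛.1) j φ).symm.trans ?_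
      have hj : j ≫ φ = (HDU.modSec (𝔛.Osh h𝔛.1) (L k) G).symm (s (e k).1.1 (e k).2) :=
        Sigma.ι_desc _ _
      rw [hj]
      exact (HDU.modSec (𝔛.Osh h𝔛.1) (L k) G).apply_symm_apply _
    exact key _ hk
  choose a ha using hgen
  obtain ⟨W, hW, hxW, hm⟩ := hs x₀ (inf_le_right : V ⊓ U x₀ ≤ U x₀) (rs G inf_le_left t) x ⟨hx, hxx₀⟩
  obtain ⟨c, hc⟩ := (RSFin.mem_spanOn_iff _ _ _ _).1 hm
  refine ⟨W, hW.trans inf_le_left, ∑ l, c l • rs _ (hW.trans inf_le_right) (a l), hxW, ?_⟩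
  refine (map_sum _ _ _).trans (Eq.trans ?_ (hc.trans (RSFin.rs_rs G hW inf_le_left t)))
  refine Finset.sum_congr rfl fun l _ => ?_
  exact (map_smul _ _ _).trans (congrArg (c l • ·) ((ap_rs φ _ _).trans (congrArg _ (ha l))))

theorem isGrothendieckAbelian_ind [CompactSpace (𝔛.X 0)]
    [(ObjectProperty.ind.{u} fun G : FSch.ModF 𝔛 h𝔛.1 => FSch.IsCohF 𝔛 h𝔛.1 G).ContainsZero]
    [(ObjectProperty.ind.{u} fun G : FSch.ModF 𝔛 h𝔛.1 => FSch.IsCohF 𝔛 h𝔛.1 G).IsClosedUnderKernels]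
    [(ObjectProperty.ind.{u} fun G : FSch.ModF 𝔛 h𝔛.1 => FSch.IsCohF 𝔛 h𝔛.1 G).IsClosedUnderCokernels]
    [(ObjectProperty.ind.{u} fun G : FSch.ModF 𝔛 h𝔛.1 => FSch.IsCohF 𝔛 h𝔛.1 G).IsClosedUnderFiniteProducts]
    [PreservesFiniteLimits (ObjectProperty.ind.{u} fun G : FSch.ModF 𝔛 h𝔛.1 => FSch.IsCohF 𝔛 h𝔛.1 G).ι]
    [PreservesFiniteColimits (ObjectProperty.ind.{u} fun G : FSch.ModF 𝔛 h𝔛.1 => FSch.IsCohF 𝔛 h𝔛.1 G).ι] :
    IsGrothendieckAbelian.{u}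
      (ObjectProperty.ind.{u} fun G : FSch.ModF 𝔛 h𝔛.1 => FSch.IsCohF 𝔛 h𝔛.1 G).FullSubcategory := by
  classical
  haveI : IsGrothendieckAbelian.{u} (FSch.ModF 𝔛 h𝔛.1) := KFlat.isGrothendieck _
  let P := ObjectProperty.ind.{u} fun G : FSch.ModF 𝔛 h𝔛.1 => FSch.IsCohF 𝔛 h𝔛.1 G
  haveI hcl : ∀ (J : Type u) [SmallCategory J], P.IsClosedUnderColimitsOfShape J :=
    fun J _ => Groth.Agent.S17026.result 𝔛 h𝔛 J
  haveI : HasColimitsOfSize.{u, u} P.FullSubcategory := ⟨fun J _ => inferInstance⟩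
  haveI hp : ∀ (J : Type u) [SmallCategory J], PreservesColimitsOfShape J P.ι := fun J _ =>
    preservesColimitOfShape_of_createsColimitsOfShape_and_hasColimitsOfShape _
  haveI : PreservesColimitsOfSize.{u, u} P.ι := ⟨fun {J _} => hp J⟩
  haveI : ReflectsFiniteLimits P.ι := ⟨fun _ _ _ => inferInstance⟩
  haveI : AB5OfSize.{u, u} P.FullSubcategory :=
    ⟨fun J _ _ => HasExactColimitsOfShape.domain_of_functor J P.ι⟩
  let S := Σ (n : ℕ) (L : Fin n → (𝔛.X 0).Opens),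
    {K : Shrink.{u} (Subobject (freeSum h𝔛 L)) //
      FSch.IsCohF 𝔛 h𝔛.1 (cokernel ((equivShrink (Subobject (freeSum h𝔛 L))).symm K).arrow)}
  let sep : S → P.FullSubcategory := fun p =>
    ⟨cokernel ((equivShrink (Subobject (freeSum h𝔛 p.2.1))).symm p.2.2.1).arrow, ObjectProperty.le_ind _ _ p.2.2.2⟩
  have hsep : ObjectProperty.IsSeparating (ObjectProperty.ofObj sep) := by
    intro M N f g hfg
    obtain ⟨J, _, _, pres, hP⟩ := M.property
    apply ObjectProperty.hom_ext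
    refine pres.isColimit.hom_ext fun j => ?_
    obtain ⟨n, L, φ, hφ⟩ := exists_epi_freeSum h𝔛 _ (hP j)
    haveI := hφ
    let K := Subobject.mk (kernel.ι φ)
    let e₀ : cokernel K.arrow ≅ cokernel (kernel.ι φ) :=
      cokernelIsoOfEq (Subobject.underlyingIso_hom_comp_eq_mk (kernel.ι φ)).symm ≪≫ cokernelEpiComp _ _
    let e₁ : cokernel (kernel.ι φ) ≅ pres.diag.obj j :=
      (cokernelIsCokernel (kernel.ι φ)).coconePointUniqueUpToIso (Abelian.epiIsCokernelOfKernel _ (limit.isLimit (parallelPair φ 0)))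
    let e : cokernel ((equivShrink (Subobject (freeSum h𝔛 L))).symm (equivShrink _ K)).arrow ≅ pres.diag.obj j :=
      eqToIso (congrArg (fun K' : Subobject (freeSum h𝔛 L) => cokernel K'.arrow) (Equiv.symm_apply_apply _ K)) ≪≫ e₀ ≪≫ e₁
    let p : S := ⟨n, L, equivShrink _ K,
      (ObjectProperty.IsClosedUnderIsomorphisms.of_iso (P := fun G : FSch.ModF 𝔛 h𝔛.1 => FSch.IsCohF 𝔛 h𝔛.1 G) e.symm (hP j))⟩
    have h1 := congrArg InducedCategory.Hom.hom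
      (hfg (sep p) (ObjectProperty.ofObj_apply _ p) (ObjectProperty.homMk (e.hom ≫ pres.ι.app j)))
    change (e.hom ≫ pres.ι.app j) ≫ f.hom = (e.hom ≫ pres.ι.app j) ≫ g.hom at h1
    rw [Category.assoc, Category.assoc] at h1
    exact (cancel_epi e.hom).1 h1
  haveI : HasColimitsOfShape (Discrete S) P.FullSubcategory := HasColimitsOfSize.has_colimits_of_shape _
  haveI : HasColimit (Discrete.functor sep) := HasColimitsOfShape.has_colimit _
  haveI : HasSeparator P.FullSubcategory := ⟨∐ sep, (isSeparator_sigma _).2 hsep⟩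
  exact {}

end Groth.Agent.FSchCoh
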