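import Groth.Agent.FSchCoh.Coh
import Groth.Agent.FSchCoh.Pres

/-!
# The kernel of a coherent module to a level is of finite type
-/

universe u

open CategoryTheory CategoryTheory.Limits AlgebraicGeometry TopologicalSpace Opposite
open Groth.Agent.RSFin (sc rsR Gen Rel spanOn)

set_option autoImplicit false
set_option backward.isDefEq.respectTransparency false
set_option linter.style.haveILetI false

noncomputable section

namespace Groth.Agent.FSchCoh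

variable {𝔛 : FSch.Sys.{u}} (h𝔛 : 𝔛.IsLocNoethFormal)
include h𝔛

theorem pow_JA_le_map {U W : (𝔛.X 0).Opens} (hU : IsAffineOpen U) {a : OA 𝔛 h𝔛.1 U}
    (d : IsDist 𝔛 h𝔛.1 U a W) (n : ℕ) :
    JA 𝔛 h𝔛.1 W ^ (n + 1) ≤ (JA 𝔛 h𝔛.1 U ^ (n + 1)).map (rsR d.le : OA 𝔛 h𝔛.1 U →+* OA 𝔛 h𝔛.1 W) := by
  haveI := (main 𝔛 h𝔛.1 h𝔛 d.affine).1
  set I := (JA 𝔛 h𝔛.1 U ^ (n + 1)).map (rsR d.le : OA 𝔛 h𝔛.1 U →+* OA 𝔛 h𝔛.1 W)
  intro y hy
  have key : ∀ m, y ∈ I ⊔ JA 𝔛 h𝔛.1 W ^ (n + m + 1) := fun m => by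
    let N := n + m
    obtain ⟨k, c', hc'⟩ := exists_scal_extend h𝔛 hU d N y
    have h1 : rsR d.le a ^ k * y - rsR d.le c' ∈ JA 𝔛 h𝔛.1 W ^ (N + 1) := by
      rw [← (main 𝔛 h𝔛.1 h𝔛 d.affine).2.2 N, RingHom.mem_ker, map_sub, hc', sub_self]
    have h2 : rsR d.le c' ∈ JA 𝔛 h𝔛.1 W ^ (n + 1) := by
      have := sub_mem (Ideal.mul_mem_left _ ((rsR d.le a : OA 𝔛 h𝔛.1 W) ^ k) hy)
        (Ideal.pow_le_pow_right (show n + 1 ≤ N + 1 by omega) h1)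
      simpa using this
    rw [← (main 𝔛 h𝔛.1 h𝔛 d.affine).2.2 n, RingHom.mem_ker, projR_rsR] at h2
    let b := projR 𝔛 h𝔛.1 U n a
    let Y := 𝔛.X n
    have hb := (FSchAff.isAffineOpen_lvU 𝔛 h𝔛.1 hU n).isLocalization_basicOpen b
    have h3 : QC.resO Y (Y.basicOpen_le b) (projR 𝔛 h𝔛.1 U n c') = QC.resO Y (Y.basicOpen_le b) 0 := by
      have h4 := congrArg (QC.resO Y (d.level n).ge) h2
      rw [QC.resO_resO, map_zero] at h4
      rw [map_zero]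
      exact h4
    obtain ⟨⟨-, j, rfl⟩, hj⟩ := @IsLocalization.exists_of_eq _ _ _ _ _ _ hb _ _ h3
    have h5 : a ^ j * c' ∈ JA 𝔛 h𝔛.1 U ^ (n + 1) := by
      rw [← (main 𝔛 h𝔛.1 h𝔛 hU).2.2 n, RingHom.mem_ker, map_mul, map_pow]
      exact hj.trans (mul_zero _)
    have hu := ((d.isUnit h𝔛).pow j).mul ((d.isUnit h𝔛).pow k)
    have h6 : (rsR d.le a : OA 𝔛 h𝔛.1 W) ^ j * rsR d.le a ^ k * y ∈ I ⊔ JA 𝔛 h𝔛.1 W ^ (N + 1) := by
      rw [Submodule.mem_sup]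
      refine ⟨rsR d.le (a ^ j * c'), Ideal.mem_map_of_mem _ h5,
        (rsR d.le a : OA 𝔛 h𝔛.1 W) ^ j * (rsR d.le a ^ k * y - rsR d.le c'), Ideal.mul_mem_left _ _ h1, ?_⟩
      rw [map_mul, map_pow]
      ring
    exact (Ideal.unit_mul_mem_iff_mem _ hu).1 h6
  have hq : I.mkQ y ∈ (⨅ m : ℕ, JA 𝔛 h𝔛.1 W ^ m • (⊤ : Submodule (OA 𝔛 h𝔛.1 W) (OA 𝔛 h𝔛.1 W ⧸ I))) := by
    rw [Submodule.mem_iInf]
    intro m
    obtain ⟨x, hx, z, hz, hxz⟩ := Submodule.mem_sup.1 (key m)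
    rw [← hxz, map_add, show I.mkQ x = 0 from (Submodule.Quotient.mk_eq_zero I).2 hx, zero_add]
    have hz' : z ∈ JA 𝔛 h𝔛.1 W ^ m • (⊤ : Submodule (OA 𝔛 h𝔛.1 W) (OA 𝔛 h𝔛.1 W)) := by
      rw [smul_eq_mul, Ideal.mul_top]
      exact Ideal.pow_le_pow_right (by omega) hz
    have h1 : I.mkQ z ∈ (JA 𝔛 h𝔛.1 W ^ m • (⊤ : Submodule (OA 𝔛 h𝔛.1 W) (OA 𝔛 h𝔛.1 W))).map I.mkQ := ⟨z, hz', rfl⟩
    rw [Submodule.map_smul''] at h1
    exact Submodule.smul_mono le_rfl le_top h1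
  rw [Ideal.iInf_pow_smul_eq_bot_of_le_jacobson _ (JA_le_jacobson h𝔛 d.affine), Submodule.mem_bot] at hq
  exact (Submodule.Quotient.mk_eq_zero I).1 hq

theorem isFiniteType_kernel_unit {F : FSch.ModF 𝔛 h𝔛.1} (hF : FSch.IsCohF 𝔛 h𝔛.1 F) (n : ℕ) :
    SheafOfModules.IsFiniteType (R := ModSite.ringSh (𝔛.Osh h𝔛.1))
      (kernel ((FSch.levelMor 𝔛 h𝔛.1 n).adj.unit.app F)) := by
  have h := h𝔛.1
  haveI := isIso_toReal h𝔛 hF
  let η := toReal 𝔛 h𝔛.1 F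
  let R := pullSys 𝔛 h𝔛.1 F
  have hM := isCoh_pullSys 𝔛 h𝔛.1 F h𝔛 hF
  let u := (FSch.levelMor 𝔛 h𝔛.1 n).adj.unit.app F
  refine RSFin.isFiniteType_of_forall _ fun x => ?_
  obtain ⟨U, hU, hxU, -⟩ := exists_isAffineOpen_mem_and_subset (X := 𝔛.X 0) (x := x) (U := ⊤) trivial
  haveI := (main 𝔛 h𝔛.1 h𝔛 hU).1
  haveI := (main_mod 𝔛 h𝔛.1 R h𝔛 hM hU).1
  obtain ⟨p, g, hg⟩ := Submodule.fg_iff_exists_fin_generating_family.1
    (IsNoetherian.noetherian (JA 𝔛 h𝔛.1 U ^ (n + 1) • (⊤ : Submodule (OA 𝔛 h𝔛.1 U) (ML 𝔛 h𝔛.1 R U))))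
  have hk : ∀ i, ∃ k : ModSite.sect (kernel u) U, RSFin.ap η U (RSFin.ap (kernel.ι u) U k) = g i := fun i => by
    let t : ModSite.sect F U := RSFin.ap (inv η) U (g i)
    have ht : RSFin.ap η U t = g i := by
      rw [← RSFin.ap_comp, IsIso.inv_hom_id]; rfl
    have h1 : g i ∈ LinearMap.ker (projM 𝔛 h𝔛.1 R U n) := by
      rw [(main_mod 𝔛 h𝔛.1 R h𝔛 hM hU).2.2 n, ← hg]
      exact Submodule.subset_span ⟨i, rfl⟩
    have h0 : RSFin.ap u U t = 0 := by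
      refine (projM_toReal n U t).symm.trans ?_
      rw [ht]
      exact h1
    obtain ⟨k, hk⟩ := (RSFin.kernel_sections u U).2 t h0
    exact ⟨k, by rw [hk, ht]⟩
  choose k hk using hk
  refine ⟨U, Fin p, inferInstance, k, hxU, fun V hV t y hy => ?_⟩
  obtain ⟨a, W, hyW, hWV, d⟩ := exists_dist 𝔛 h𝔛.1 hU hV hy
  refine ⟨W, hWV, hyW, ?_⟩
  let j := fun z : ModSite.sect (kernel u) W => (show ML 𝔛 h𝔛.1 R W from RSFin.ap η W (RSFin.ap (kernel.ι u) W z))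
  have hj : Function.Injective j :=
    (RSFin.injective_of_mono η W).comp (RSFin.kernel_sections u W).1
  have h0 : j (RSFin.rs _ hWV t) ∈ JA 𝔛 h𝔛.1 W ^ (n + 1) • (⊤ : Submodule (OA 𝔛 h𝔛.1 W) (ML 𝔛 h𝔛.1 R W)) := by
    rw [← (main_mod 𝔛 h𝔛.1 R h𝔛 hM d.affine).2.2 n, LinearMap.mem_ker]
    refine (projM_toReal n W _).trans ?_
    exact congrArg (fun q => RSFin.ap q W (RSFin.rs _ hWV t)) (kernel.condition u)
  obtain ⟨q, φ, hφ⟩ := Module.Finite.exists_fin' (OA 𝔛 h𝔛.1 U) (ML 𝔛 h𝔛.1 R U)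
  let s : Fin q → ModSite.sect (R.realMod h𝔛.1) U := fun i => φ (Pi.single i 1)
  have hs : Submodule.span (OA 𝔛 h𝔛.1 U) (Set.range fun i => (s i : ML 𝔛 h𝔛.1 R U)) = ⊤ := eq_top_iff.2 fun z _ => by
    obtain ⟨c, rfl⟩ := hφ z
    refine (Submodule.mem_span_range_iff_exists_fun _).2 ⟨c, ?_⟩
    show ∑ i, c i • φ (Pi.single i 1) = φ c
    simp only [← map_smul, ← map_sum]
    congr 1
    funext i
    simp [Pi.single_apply]
  have h1 : (⊤ : Submodule (OA 𝔛 h𝔛.1 W) (ML 𝔛 h𝔛.1 R W)) ≤ spanOn (R.realMod h𝔛.1) d.le s :=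
    (span_rs_eq_top h𝔛 hM hU d (fun i => (s i : ML 𝔛 h𝔛.1 R U)) hs).ge
  let G := spanOn (R.realMod h𝔛.1) d.le (fun i => (g i : ModSite.sect (R.realMod h𝔛.1) U))
  have h2 : JA 𝔛 h𝔛.1 W ^ (n + 1) • spanOn (R.realMod h𝔛.1) d.le s ≤ G := by
    refine le_trans (Submodule.smul_mono (pow_JA_le_map h𝔛 hU d n) le_rfl) ?_
    rw [Submodule.smul_le]
    intro b hb z hz
    induction hz using Submodule.span_induction with
    | mem z hz =>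
      obtain ⟨i, rfl⟩ := hz
      induction hb using Submodule.span_induction with
      | mem b hb =>
        obtain ⟨b', hb', rfl⟩ := hb
        have h3 : (b' • s i : ML 𝔛 h𝔛.1 R U) ∈ Submodule.span (OA 𝔛 h𝔛.1 U) (Set.range g) := by
          rw [hg]
          exact Submodule.smul_mem_smul hb' trivial
        obtain ⟨c, hc⟩ := (Submodule.mem_span_range_iff_exists_fun _).1 h3
        refine (RSFin.mem_spanOn_iff _ _ _ _).2 ⟨fun l => rsR d.le (c l), ?_⟩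
        have h4 := congrArg (RSFin.rs (R.realMod h𝔛.1) d.le) hc
        rw [RSFin.rs_sum_smul, RSFin.rs_smul] at h4
        exact h4
      | zero => rw [zero_smul]; exact Submodule.zero_mem _
      | add b₁ b₂ _ _ hb₁ hb₂ => rw [add_smul]; exact Submodule.add_mem _ hb₁ hb₂
      | smul c b _ hb => rw [smul_eq_mul, mul_smul]; exact Submodule.smul_mem _ _ hb
    | zero => rw [smul_zero]; exact Submodule.zero_mem _
    | add z₁ z₂ _ _ h₁ h₂ => rw [smul_add]; exact Submodule.add_mem _ h₁ h₂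
    | smul c z _ hz => rw [smul_comm]; exact Submodule.smul_mem _ _ hz
  obtain ⟨c, hc⟩ := (RSFin.mem_spanOn_iff _ _ _ _).1 (h2 (Submodule.smul_mono le_rfl h1 h0))
  refine (RSFin.mem_spanOn_iff _ _ _ _).2 ⟨c, hj ?_⟩
  refine Eq.trans ?_ hc
  show RSFin.ap η W (RSFin.ap (kernel.ι u) W _) = _
  rw [map_sum, map_sum]
  exact Finset.sum_congr rfl fun i _ => by
    rw [map_smul, map_smul]
    refine congrArg (c i • ·) ?_
    exact ((congrArg (RSFin.ap η W) (RSFin.ap_rs (kernel.ι u) d.le _)).trans (RSFin.ap_rs η d.le _)).trans (congrArg (RSFin.rs _ d.le) (hk i))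

end Groth.Agent.FSchCoh
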