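import Groth.Agent.FSchCoh.QCTOps
import Groth.Agent.FSchCoh.PushColim
import Groth.Agent.RPushQC.Resolution

/-!
# Quasi-coherent torsion modules coming from a level
-/

universe u

open CategoryTheory CategoryTheory.Limits AlgebraicGeometry TopologicalSpace Opposite
open Groth.Agent.RSFin (sc rsR)

set_option autoImplicit false
set_option backward.isDefEq.respectTransparency false
set_option linter.style.haveILetI false

noncomputable section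

namespace Groth.Agent.FSchCoh

variable {𝔛 : FSch.Sys.{u}} (h𝔛 : 𝔛.IsLocNoethFormal) (n : ℕ)

theorem rs_level (G : (𝔛.X n).Modules) {U W : (𝔛.X 0).Opens} (e : W ≤ U)
    (t : Γ(G, 𝔛.lvU h𝔛.1 n U)) :
    RSFin.rs ((FSch.levelMor 𝔛 h𝔛.1 n).push.obj G) e t =
      G.presheaf.map ((Opens.map (𝔛.gInv h𝔛.1 n)).map (homOfLE e)).op t := rfl

theorem qt_level (G : (𝔛.X n).Modules) (hG : Coh.IsQCoh G) : QT h𝔛 ((FSch.levelMor 𝔛 h𝔛.1 n).push.obj G) := by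
  refine ⟨fun U hU t => ⟨n, fun b hb => ?_⟩, fun U W hU a d t ht => ?_, fun U W hU a d t => ?_⟩
  · rw [← (main 𝔛 h𝔛.1 h𝔛 hU).2.2 n, RingHom.mem_ker] at hb
    change projR 𝔛 h𝔛.1 U n b • (show Γ(G, 𝔛.lvU h𝔛.1 n U) from t) = 0
    rw [hb, zero_smul]
  · have hL : QC.IsLoc G (𝔛.lvU h𝔛.1 n U) := QC.isQCoh_iff_isLoc.1 hG ⟨_, FSchAff.isAffineOpen_lvU 𝔛 h𝔛.1 hU n⟩
    obtain ⟨k, hk⟩ := hL.exists_pow_smul_eq_zero (projR 𝔛 h𝔛.1 U n a) t (by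
      have ht' : QC.res G ((Opens.map (𝔛.gInv h𝔛.1 n)).monotone d.le) (show Γ(G, 𝔛.lvU h𝔛.1 n U) from t) = 0 := ht
      refine (QC.res_res G (d.level n).ge ((Opens.map (𝔛.gInv h𝔛.1 n)).monotone d.le) _).symm.trans ?_
      exact (congrArg _ ht').trans (map_zero _))
    refine ⟨k, ?_⟩
    change projR 𝔛 h𝔛.1 U n ((show sc (𝔛.Osh h𝔛.1) U from a) ^ k) • (show Γ(G, 𝔛.lvU h𝔛.1 n U) from t) = 0
    erw [map_pow]
    exact hk
  · have hL : QC.IsLoc G (𝔛.lvU h𝔛.1 n U) := QC.isQCoh_iff_isLoc.1 hG ⟨_, FSchAff.isAffineOpen_lvU 𝔛 h𝔛.1 hU n⟩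
    obtain ⟨k, s, hs⟩ := hL.exists_extend (projR 𝔛 h𝔛.1 U n a) (QC.res G (d.level n).ge t)
    refine ⟨k, s, ?_⟩
    have h1 := congrArg (QC.res G (d.level n).le) hs
    rw [QC.res_res, QC.res_smul, map_pow, QC.resO_resO, QC.res_res, QC.res_self] at h1
    refine h1.trans ?_
    refine (congrArg (fun r : Γ(𝔛.X n, 𝔛.lvU h𝔛.1 n W) => r • (show Γ(G, 𝔛.lvU h𝔛.1 n W) from t)) ?_)
    refine Eq.trans ?_ (map_pow (projR 𝔛 h𝔛.1 W n) (rsR d.le a) k).symm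
    rw [projR_rsR]

theorem epi_level_map {G H : (𝔛.X n).Modules} (g : G ⟶ H) [Epi g] :
    Epi ((FSch.levelMor 𝔛 h𝔛.1 n).push.map g) := by
  refine RSFin.epi_of_locally _ fun V t x hx => ?_
  have hz : (𝔛.toX n).base x ∈ 𝔛.lvU h𝔛.1 n V := by
    show (𝔛.gInv h𝔛.1 n) ((𝔛.toX n).base x) ∈ V
    have := congr(($(FSch.Sys.toX_base_gInv 𝔛 h𝔛.1 n)) x)
    exact this.symm ▸ hx
  obtain ⟨W, hW, s, hzW, hs⟩ := RSFin.epi_locally (O := (𝔛.X n).sheaf) g (show Γ(H, 𝔛.lvU h𝔛.1 n V) from t) hz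
  let V' : (𝔛.X 0).Opens := (Opens.map (𝔛.toX n).base).obj W
  have hV' : 𝔛.lvU h𝔛.1 n V' = W := lvU_back 𝔛 h𝔛.1 n W
  have hle : V' ≤ V := fun y hy => by
    have hy' : 𝔛.gInv h𝔛.1 n ((𝔛.toX n).base y) ∈ V := hW hy
    have e : 𝔛.gInv h𝔛.1 n ((𝔛.toX n).base y) = y := congr(($(FSch.Sys.toX_base_gInv 𝔛 h𝔛.1 n)) y)
    exact e ▸ hy'
  refine ⟨V', hle, QC.res G hV'.le s, hzW, ?_⟩
  change g.app (𝔛.lvU h𝔛.1 n V') (QC.res G hV'.le s) = _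
  rw [← QC.app_res]
  refine (congrArg (QC.res H hV'.le) hs).trans ?_
  exact QC.res_res _ _ _ _

theorem preservesEpimorphisms_level : (FSch.levelMor 𝔛 h𝔛.1 n).push.PreservesEpimorphisms :=
  ⟨fun g _ => epi_level_map h𝔛 n g⟩

theorem shortExact_level {S : ShortComplex (𝔛.X n).Modules} (hS : S.ShortExact) :
    ∃ w, (ShortComplex.mk ((FSch.levelMor 𝔛 h𝔛.1 n).push.map S.f) ((FSch.levelMor 𝔛 h𝔛.1 n).push.map S.g) w :
      ShortComplex (FSch.ModF 𝔛 h𝔛.1)).ShortExact := by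
  haveI := preservesEpimorphisms_level h𝔛 n
  let P := (FSch.levelMor 𝔛 h𝔛.1 n).push
  haveI : P.IsRightAdjoint := (FSch.levelMor 𝔛 h𝔛.1 n).adj.isRightAdjoint
  haveI : P.Additive := Functor.additive_of_preserves_binary_products _
  haveI := hS.epi_g
  haveI := hS.mono_f
  haveI : Epi (P.map S.g) := inferInstance
  have w : P.map S.f ≫ P.map S.g = 0 := by rw [← Functor.map_comp, S.zero, Functor.map_zero]
  exact ⟨w,
    { exact := ((P.preservesFiniteLimits_tfae.out 3 0 rfl rfl).1 inferInstance S hS).1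
      mono_f := ((P.preservesFiniteLimits_tfae.out 3 0 rfl rfl).1 inferInstance S hS).2
      epi_g := ‹Epi (P.map S.g)› }⟩

theorem isQcFlasque_level {J : (𝔛.X n).Modules} (hJ : RPushQC.IsFlasque J) :
    TopQC.IsQcFlasque (X := (𝔛.X 0).carrier) (ModSite.toAb ((FSch.levelMor 𝔛 h𝔛.1 n).push.obj J)) :=
  fun U V _ _ e => hJ ((Opens.map (𝔛.gInv h𝔛.1 n)).monotone e)

theorem exists_level [CompactSpace (𝔛.X 0)] (M : FSch.ModF 𝔛 h𝔛.1) (hM : FSch.IsCohF 𝔛 h𝔛.1 M)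
    (hT : FTors.IsTorsF 𝔛 h𝔛.1 M) :
    ∃ (n : ℕ) (G : (𝔛.X n).Modules), Coh.IsCoh G ∧ Nonempty (M ≅ (FSch.levelMor 𝔛 h𝔛.1 n).push.obj G) := by
  classical
  haveI : IsLocallyNoetherian (𝔛.X 0) := h𝔛.2.2 0
  haveI := isIso_toReal h𝔛 hM
  let 𝔐 := pullSys 𝔛 h𝔛.1 M
  let e : M ≅ 𝔐.realMod h𝔛.1 := asIso (toReal 𝔛 h𝔛.1 M)
  have hT' := torsAff_of_isTors h𝔛 hT
  have hc := isCoh_pullSys 𝔛 h𝔛.1 M h𝔛 hM
  choose U ι κ hι hκ s r hxU hUV hU hs hr using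
    fun x : 𝔛.X 0 => exists_affine_pres h𝔛 hM (V := (⊤ : (𝔛.X 0).Opens)) (x := x) trivial
  obtain ⟨P, hP⟩ := isCompact_univ.elim_finite_subcover (fun x : 𝔛.X 0 => (U x : Set (𝔛.X 0)))
    (fun x => (U x).2) (fun x _ => Set.mem_iUnion.2 ⟨x, hxU x⟩)
  choose N hN using fun x : 𝔛.X 0 =>
    haveI := hι x
    exists_uniform h𝔛 (s x) fun i => hT' (hU x) (s x i)
  refine ⟨P.sup N, 𝔐.F _, hc _, ⟨e ≪≫ ?_⟩⟩
  let π := FSch.realProj 𝔛 h𝔛.1 𝔐.F 𝔐.toPush (P.sup N)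
  haveI : Epi π := epi_realProj 𝔛 h𝔛.1 𝔐 h𝔛 hc _
  haveI : Mono π := by
    refine RSFin.mono_of_injective _ fun V => (injective_iff_map_eq_zero _).2 fun t ht => ?_
    refine RSFin.eq_zero_of_locally _ t fun y hy => ?_
    obtain ⟨x, hx, hyx⟩ : ∃ x ∈ P, y ∈ U x := by simpa using hP (Set.mem_univ y)
    obtain ⟨a, W, hyW, hWV, d⟩ := exists_dist 𝔛 h𝔛.1 (hU x) (inf_le_right : V ⊓ U x ≤ U x) ⟨hy, hyx⟩
    have hWV' : W ≤ V := hWV.trans inf_le_left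
    have hker : RSFin.rs _ hWV' t ∈ LinearMap.ker (projM 𝔛 h𝔛.1 𝔐 W (P.sup N)) := by
      rw [LinearMap.mem_ker]
      exact (projM_rs (h𝔛 := h𝔛) (𝔐 := 𝔐) hWV' _ t).trans ((congrArg _ ht).trans (map_zero _))
    rw [(main_mod 𝔛 h𝔛.1 𝔐 h𝔛 hc d.affine).2.2] at hker
    refine ⟨W, hWV', hyW, Submodule.smul_induction_on hker (fun b hb z _ => ?_) fun z w hz hw => by
      rw [hz, hw, add_zero]⟩
    obtain ⟨m, rfl⟩ : ∃ m, RSFin.ap e.hom W m = z :=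
      ⟨RSFin.ap e.inv W z, (congrArg (fun q => RSFin.ap q W z) e.inv_hom_id)⟩
    refine ((e.hom.val.app (op W)).hom.map_smul b m).symm.trans ((congrArg (RSFin.ap e.hom W) ?_).trans (map_zero _))
    refine RSFin.eq_zero_of_locally M _ fun w hw => ?_
    obtain ⟨W', hW', hwW', hm'⟩ := hs x (d.le : W ≤ U x) m w hw
    obtain ⟨a', W'', hwW'', hle, d'⟩ := exists_dist 𝔛 h𝔛.1 d.affine hW' hwW'
    refine ⟨W'', d'.le, hwW'', ?_⟩
    haveI := hι x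
    obtain ⟨c, hcm⟩ := (RSFin.mem_spanOn_iff _ _ _ _).1 hm'
    rw [RSFin.rs_smul, ← RSFin.rs_rs M hle hW', ← hcm, map_sum, Finset.smul_sum]
    refine Finset.sum_eq_zero fun i _ => ?_
    rw [RSFin.rs_smul, RSFin.rs_rs, smul_comm, ← RSFin.rs_rs M d'.le d.le]
    have h1 := Kills.rs h𝔛 (hU x) d ((hN x i).mono (h𝔛 := h𝔛) (Finset.le_sup (f := N) hx))
    exact (congrArg _ (Kills.rs h𝔛 d.affine d' h1 _
      (rsR_mem_pow h𝔛 d.affine d'.affine d'.le hb))).trans (smul_zero _)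
  haveI : IsIso π := isIso_of_mono_of_epi π
  exact asIso π

end Groth.Agent.FSchCoh
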