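import Groth.Agent.RSFin.FP
import Groth.Agent.EtQC.GenSite

/-!
# Quasi-coherent modules on ringed spaces: generators and relations on sections
-/

set_option autoImplicit false
set_option linter.style.haveILetI false
set_option backward.isDefEq.respectTransparency false
set_option backward.isDefEq.respectTransparency.types false

universe u

open CategoryTheory Limits TopologicalSpace Opposite
open Groth.Agent.RSFin

noncomputable section

namespace Groth.Agent.FSchCoh.QCPres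

variable {X : TopCat.{u}} {O : TopCat.Sheaf CommRingCat.{u} X} {U : Opens X} {I : Type u}

theorem freeBasis_eq (i : I) {V : Opens X} (h : V ≤ U) :
    (EtQC.GenSite.basisSec (R := (ModSite.ringSh O).over U) i (QCAlg.ov h)) =
      QCAlg.freeBasis (R := ModSite.ringSh O) I i h :=
  (QCAlg.ιFree_app (R := ModSite.ringSh O) i h (1 : QCAlg.scal (R := ModSite.ringSh O) h)).trans
    (one_smul (QCAlg.scal (R := ModSite.ringSh O) h) _)

/-- sections of a free module are locally finite combinations of the basis -/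
theorem exists_local_comb {V : Opens X} (h : V ≤ U)
    (t : QCAlg.sec (SheafOfModules.free (R := (ModSite.ringSh O).over U) I) h) {x : X} (hx : x ∈ V) :
    ∃ (W : Opens X) (hW : W ≤ V) (S : Finset I) (c : I → sc O W), x ∈ W ∧
      ∑ i ∈ S, (c i : QCAlg.scal (R := ModSite.ringSh O) (hW.trans h)) • QCAlg.freeBasis I i (hW.trans h) =
        QCAlg.rs _ hW h t := by
  obtain ⟨T, hT, hT'⟩ := EtQC.GenSite.free_locally (R := (ModSite.ringSh O).over U) (V := QCAlg.ov h) t
  rw [GrothendieckTopology.mem_over_iff] at hT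
  obtain ⟨W, l, hl, hxW⟩ := hT x hx
  rw [Sieve.overEquiv_iff] at hl
  have hm : QCAlg.rs _ (leOfHom l) h t ∈ Submodule.span (QCAlg.scal (R := ModSite.ringSh O) ((leOfHom l).trans h))
      (Set.range fun i : I => EtQC.GenSite.basisSec (R := (ModSite.ringSh O).over U) i (QCAlg.ov ((leOfHom l).trans h))) :=
    hT' _ hl
  simp only [freeBasis_eq] at hm
  obtain ⟨c, hc⟩ := Finsupp.mem_span_range_iff_exists_finsupp.1 hm
  exact ⟨W, leOfHom l, c.support, c, hxW, hc⟩

theorem co_sum [DecidableEq I] (k : I) {V : Opens X} (h : V ≤ U) (S : Finset I) (c : I → sc O V) :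
    co k h (∑ i ∈ S, (c i : QCAlg.scal (R := ModSite.ringSh O) h) • QCAlg.freeBasis I i h) =
      if k ∈ S then c k else 0 := by
  show QCAlg.mapSec (dlt k) h _ = _
  rw [map_sum]
  refine (Finset.sum_congr rfl fun i _ => (map_smul (QCAlg.mapSec (dlt k) h) _ _).trans
    (congrArg (fun z : sc O V => (c i * z : sc O V)) (co_basis k i h))).trans ?_
  simp only [mul_ite, mul_one, mul_zero]
  exact Finset.sum_ite_eq' S k c

theorem mapSec_kernel_zero {A B C : SheafOfModules.{u} ((ModSite.ringSh O).over U)} (q : B ⟶ C) (p : A ⟶ kernel q)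
    {V : Opens X} (h : V ≤ U) (a : QCAlg.sec A h) :
    QCAlg.mapSec q h (QCAlg.mapSec (p ≫ kernel.ι q) h a) = 0 := by
  show QCAlg.mapSec ((p ≫ kernel.ι q) ≫ q) h a = 0
  rw [Category.assoc, kernel.condition, comp_zero]
  rfl

theorem mapSec_kernel_rs {A B C : SheafOfModules.{u} ((ModSite.ringSh O).over U)} (q : B ⟶ C) (p : A ⟶ kernel q)
    {V W₁ W : Opens X} (h : V ≤ U) (hW₁ : W₁ ≤ V) (hW : W ≤ W₁) (z : QCAlg.sec A (hW₁.trans h))
    (k : QCAlg.sec (kernel q) h) (hz : QCAlg.mapSec p (hW₁.trans h) z = QCAlg.rs _ hW₁ h k) (t : QCAlg.sec B h)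
    (hk : QCAlg.mapSec (kernel.ι q) h k = t) :
    QCAlg.mapSec (p ≫ kernel.ι q) ((hW.trans hW₁).trans h) (QCAlg.rs A hW (hW₁.trans h) z) =
      QCAlg.rs B (hW.trans hW₁) h t := by
  show QCAlg.mapSec (kernel.ι q) _ (QCAlg.mapSec p _ _) = _
  rw [QCAlg.mapSec_rs, hz, QCAlg.mapSec_rs, QCAlg.mapSec_rs, hk]
  exact (PresheafOfModules.map_comp_apply _ _ _ _).symm

variable (F : ModSite.Mod O)

theorem homOfSec_sum (s : I → ModSite.sect F U) {V : Opens X} (h : V ≤ U) (S : Finset I) (c : I → sc O V) :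
    QCAlg.mapSec (homOfSec F s) h
        (∑ i ∈ S, (c i : QCAlg.scal (R := ModSite.ringSh O) h) • QCAlg.freeBasis I i h) =
      ∑ i ∈ S, c i • rs F h (s i) := by
  rw [map_sum]
  refine Finset.sum_congr rfl fun i _ => ?_
  rw [map_smul, homOfSec_basis]

section Rel

variable {J : Type u} [DecidableEq I] [DecidableEq J]
  (g : SheafOfModules.free (R := (ModSite.ringSh O).over U) J ⟶ SheafOfModules.free (R := (ModSite.ringSh O).over U) I)

/-- the matrix of a map of free modules -/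
def mat (j : J) (i : I) : sc O U :=
  co i (le_refl U) (QCAlg.mapSec g (le_refl U) (QCAlg.freeBasis (R := ModSite.ringSh O) J j (le_refl U)))

theorem co_map_basis {W : Opens X} (hW : W ≤ U) (j : J) (i : I) :
    co i hW (QCAlg.mapSec g hW (QCAlg.freeBasis (R := ModSite.ringSh O) J j hW)) = rsR hW (mat g j i) := by
  rw [mat, ← rs_freeBasis j hW (le_refl U), QCAlg.mapSec_rs]
  exact co_rs i hW (le_refl U) _

theorem mat_local (s : I → ModSite.sect F U)
    (hg : ∀ {V : Opens X} (h : V ≤ U) (a : QCAlg.sec (SheafOfModules.free (R := (ModSite.ringSh O).over U) J) h),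
      QCAlg.mapSec (homOfSec F s) h (QCAlg.mapSec g h a) = 0)
    (j : J) {y : X} (hy : y ∈ U) :
    ∃ (W : Opens X) (hW : W ≤ U) (S : Finset I), y ∈ W ∧
      (∀ i ∉ S, rsR hW (mat g j i) = 0) ∧ ∑ i ∈ S, rsR hW (mat g j i) • rs F hW (s i) = 0 := by
  obtain ⟨W, hW, S, c, hyW, hc⟩ := exists_local_comb (le_refl U)
    (QCAlg.mapSec g (le_refl U) (QCAlg.freeBasis (R := ModSite.ringSh O) J j (le_refl U))) hy
  rw [← QCAlg.mapSec_rs g hW (le_refl U), rs_freeBasis j hW (le_refl U)] at hc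
  have hr : ∀ i, rsR hW (mat g j i) = if i ∈ S then c i else 0 := fun i => by
    rw [← co_map_basis g hW j i, ← hc, co_sum]
  refine ⟨W, hW, S, hyW, fun i hi => by rw [hr, if_neg hi], ?_⟩
  have h0 := hg hW (QCAlg.freeBasis (R := ModSite.ringSh O) J j hW)
  rw [← hc, homOfSec_sum] at h0
  exact Eq.trans (Finset.sum_congr rfl fun i hi => by rw [hr, if_pos hi]) h0

theorem mat_exact {W W₁ V : Opens X} (h : V ≤ U) (hW₁ : W₁ ≤ V) (hW : W ≤ W₁) (T : Finset J) (d : J → sc O W)
    (S : Finset I) (c : I → sc O V)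
    (e : QCAlg.mapSec g ((hW.trans hW₁).trans h)
        (∑ j ∈ T, (d j : QCAlg.scal (R := ModSite.ringSh O) ((hW.trans hW₁).trans h)) •
          QCAlg.freeBasis (R := ModSite.ringSh O) J j ((hW.trans hW₁).trans h)) =
      QCAlg.rs _ (hW.trans hW₁) h (∑ i ∈ S, (c i : QCAlg.scal (R := ModSite.ringSh O) h) •
          QCAlg.freeBasis (R := ModSite.ringSh O) I i h)) (i : I) :
    ∑ j ∈ T, d j * rsR ((hW.trans hW₁).trans h) (mat g j i) = if i ∈ S then rsR (hW.trans hW₁) (c i) else 0 := by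
  have e' := congrArg (co i ((hW.trans hW₁).trans h)) e
  rw [co_rs, co_sum] at e'
  have hcS : (if i ∈ S then rsR (hW.trans hW₁) (c i) else 0) = rsR (hW.trans hW₁) (if i ∈ S then c i else 0) := by
    split_ifs <;> simp
  rw [hcS]
  refine Eq.trans ?_ e'
  show _ = QCAlg.mapSec (dlt i) _ (QCAlg.mapSec g _ _)
  simp only [map_sum, map_smul]
  refine Finset.sum_congr rfl fun j _ => ?_
  rw [← co_map_basis g ((hW.trans hW₁).trans h) j i]
  rfl

theorem gen_of_epi_free (s : I → ModSite.sect F U) [Epi (homOfSec F s)] : Gen F s := by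
  intro V h t y hy
  obtain ⟨W₁, hW₁, z, hyW₁, hz⟩ := ovr_epi_locally (homOfSec F s) h t hy
  obtain ⟨W, hW, S, c, hyW, hc⟩ := exists_local_comb (hW₁.trans h) z hyW₁
  refine ⟨W, hW.trans hW₁, hyW, ?_⟩
  have e : rs F (hW.trans hW₁) t = ∑ i ∈ S, c i • rs F ((hW.trans hW₁).trans h) (s i) := by
    rw [← homOfSec_sum F s ((hW.trans hW₁).trans h) S c, hc, QCAlg.mapSec_rs, hz, rs_ovr, rs_ovr, rs_rs]
  rw [e]
  exact Submodule.sum_mem _ fun i _ => Submodule.smul_mem _ _ (Submodule.subset_span ⟨i, rfl⟩)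

theorem exists_pres_of_epi (s : I → ModSite.sect F U)
    (π : SheafOfModules.free (R := (ModSite.ringSh O).over U) I ⟶ ovr F U) (hs : homOfSec F s = π) [Epi π]
    (p : SheafOfModules.free (R := (ModSite.ringSh O).over U) J ⟶ kernel π) [Epi p] :
    Gen F s ∧
      (∀ j, ∀ y ∈ U, ∃ (W : Opens X) (hW : W ≤ U) (S : Finset I), y ∈ W ∧
        (∀ i ∉ S, rsR hW (mat (p ≫ kernel.ι π) j i) = 0) ∧
          ∑ i ∈ S, rsR hW (mat (p ≫ kernel.ι π) j i) • rs F hW (s i) = 0) ∧
      ∀ ⦃V : Opens X⦄ (h : V ≤ U) (S : Finset I) (c : I → sc O V), ∑ i ∈ S, c i • rs F h (s i) = 0 →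
        ∀ y ∈ V, ∃ (W : Opens X) (hW : W ≤ V) (T : Finset J) (d : J → sc O W), y ∈ W ∧
          ∀ i, ∑ j ∈ T, d j * rsR (hW.trans h) (mat (p ≫ kernel.ι π) j i) =
            if i ∈ S then rsR hW (c i) else 0 := by
  subst hs
  refine ⟨gen_of_epi_free F s, fun j y hy => mat_local F _ s (fun h a => mapSec_kernel_zero _ p h a) j hy,
    fun V h S c hc y hy => ?_⟩
  obtain ⟨k, hk⟩ := (ovr_kernel_sections (homOfSec F s) h).2
    (∑ i ∈ S, (c i : QCAlg.scal (R := ModSite.ringSh O) h) • QCAlg.freeBasis (R := ModSite.ringSh O) I i h)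
    ((homOfSec_sum F s h S c).trans hc)
  obtain ⟨W₁, hW₁, z, hyW₁, hz⟩ := ovr_epi_locally p h k hy
  obtain ⟨W, hW, T, d, hyW, hd⟩ := exists_local_comb (hW₁.trans h) z hyW₁
  refine ⟨W, hW.trans hW₁, T, d, hyW, fun i => mat_exact _ h hW₁ hW T d S c ?_ i⟩
  rw [hd]
  exact mapSec_kernel_rs (homOfSec F s) p h hW₁ hW z k hz _ hk

end Rel

open scoped Classical in
/-- generators and relations of a module from a presentation -/
theorem exists_pres_of_presentation {U : Opens X} (P : (ovr F U).Presentation) :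
    ∃ (I J : Type u) (s : I → ModSite.sect F U) (r : J → I → sc O U), Gen F s ∧
      (∀ j, ∀ y ∈ U, ∃ (W : Opens X) (hW : W ≤ U) (S : Finset I), y ∈ W ∧
        (∀ i ∉ S, rsR hW (r j i) = 0) ∧ ∑ i ∈ S, rsR hW (r j i) • rs F hW (s i) = 0) ∧
      ∀ ⦃V : Opens X⦄ (h : V ≤ U) (S : Finset I) (c : I → sc O V), ∑ i ∈ S, c i • rs F h (s i) = 0 →
        ∀ y ∈ V, ∃ (W : Opens X) (hW : W ≤ V) (T : Finset J) (d : J → sc O W), y ∈ W ∧
          ∀ i, ∑ j ∈ T, d j * rsR (hW.trans h) (r j i) = if i ∈ S then rsR hW (c i) else 0 := by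
  obtain ⟨s, hs⟩ := exists_homOfSec F P.generators.π
  haveI := P.generators.epi
  haveI := P.relations.epi
  exact ⟨P.generators.I, P.relations.I, s, _, exists_pres_of_epi F s P.generators.π hs P.relations.π⟩

open scoped Classical in
/-- generators and relations of a quasi-coherent module near a point -/
theorem exists_pres [hF : SheafOfModules.IsQuasicoherent.{u} (R := ModSite.ringSh O) F] (x : X) :
    ∃ (U : Opens X) (I J : Type u) (s : I → ModSite.sect F U) (r : J → I → sc O U), x ∈ U ∧ Gen F s ∧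
      (∀ j, ∀ y ∈ U, ∃ (W : Opens X) (hW : W ≤ U) (S : Finset I), y ∈ W ∧
        (∀ i ∉ S, rsR hW (r j i) = 0) ∧ ∑ i ∈ S, rsR hW (r j i) • rs F hW (s i) = 0) ∧
      ∀ ⦃V : Opens X⦄ (h : V ≤ U) (S : Finset I) (c : I → sc O V), ∑ i ∈ S, c i • rs F h (s i) = 0 →
        ∀ y ∈ V, ∃ (W : Opens X) (hW : W ≤ V) (T : Finset J) (d : J → sc O W), y ∈ W ∧
          ∀ i, ∑ j ∈ T, d j * rsR (hW.trans h) (r j i) = if i ∈ S then rsR hW (c i) else 0 := by
  obtain ⟨⟨q⟩⟩ := hF
  obtain ⟨a, ha⟩ := exists_mem_of_coversTop q.coversTop x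
  obtain ⟨I, J, s, r, h⟩ := exists_pres_of_presentation F (q.presentation a)
  exact ⟨q.X a, I, J, s, r, ha, h⟩

end Groth.Agent.FSchCoh.QCPres
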