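import Groth.Agent.RSFin.Colim
import Groth.Agent.FSchCoh.QCPres
import Mathlib.CategoryTheory.Limits.Preserves.Filtered
import Mathlib.Topology.Sheaves.SheafCondition.UniqueGluing

/-!
# Local sections of colimits of modules on ringed spaces
-/

set_option autoImplicit false
set_option linter.style.haveILetI false
set_option backward.isDefEq.respectTransparency false
set_option backward.isDefEq.respectTransparency.types false

universe u

open CategoryTheory Limits TopologicalSpace Opposite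
open Groth.Agent.RSFin

noncomputable section

namespace Groth.Agent.FSchCoh.LimGen

variable {X : TopCat.{u}} {O : TopCat.Sheaf CommRingCat.{u} X}

/-- a family of maps is jointly locally surjective -/
def JointSurj {A : Type u} {G : A → ModSite.Mod O} {F : ModSite.Mod O} (f : ∀ a, G a ⟶ F) : Prop :=
  ∀ ⦃V : Opens X⦄ (t : ModSite.sect F V), ∀ x ∈ V, ∃ (W : Opens X) (hW : W ≤ V) (L : Type) (_ : Fintype L)
    (a : L → A) (g : ∀ l, ModSite.sect (G (a l)) W), x ∈ W ∧ ∑ l, ap (f (a l)) W (g l) = rs F hW t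

/-- the stalk as a functor -/
abbrev stF (O : TopCat.Sheaf CommRingCat.{u} X) (x : X) : ModSite.Mod O ⥤ AddCommGrpCat.{u} :=
  SheafOfModules.toSheaf.{u} (ModSite.ringSh O) ⋙ (pt x).sheafFiber (A := AddCommGrpCat.{u})

theorem exists_stage_zero {J : Type u} [SmallCategory J] [IsFiltered J] (D : J ⥤ ModSite.Mod O)
    (c : Cocone D) (hc : IsColimit c) {i : J} {V : Opens X} (a : ModSite.sect (D.obj i) V)
    (ha : ap (leg c i) V a = 0) {x : X} (hx : x ∈ V) :
    ∃ (j : J) (f : i ⟶ j) (W : Opens X) (hW : W ≤ V), x ∈ W ∧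
      ap (D.map f) W (rs (D.obj i) hW a) = 0 := by
  haveI : PreservesColimitsOfShape J (stF O x) := inferInstance
  have h0 : gm c.pt hx (ap (leg c i) V a) = gm c.pt hx (ap (leg c i) V 0) := by simp [ha]
  obtain ⟨j, f, g, hfg⟩ := (Types.FilteredColimit.isColimit_eq_iff _
    (isColimitOfPreserves (stF O x ⋙ forget AddCommGrpCat.{u}) hc)
    (xi := (gm (D.obj i) hx a : stM (D.obj i) x)) (xj := (gm (D.obj i) hx 0 : stM (D.obj i) x))).1
    ((gm_map (leg c i) hx a).trans (h0.trans (gm_map (leg c i) hx 0).symm))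
  have h1 : gm (D.obj j) hx (ap (D.map f) V a) = gm (D.obj j) hx (ap (D.map g) V 0) :=
    (gm_map (D.map f) hx a).symm.trans (hfg.trans (gm_map (D.map g) hx 0))
  obtain ⟨W, hW, hxW, e⟩ := eq_of_gm_eq (D.obj j) hx h1
  exact ⟨j, f, W, hW, hxW, by rw [ap_rs, e, map_zero, map_zero]⟩

theorem jointSurj_of_isColimit {J : Type u} [SmallCategory J] (D : J ⥤ ModSite.Mod O)
    (c : Cocone D) (hc : IsColimit c) : JointSurj (fun j => leg c j) := by
  intro V t x hx
  haveI : PreservesColimitsOfShape J (stF O x) := inferInstance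
  let hc' := isColimitOfPreserves (stF O x) hc
  let P : AddSubgroup ((stF O x).obj c.pt) :=
    ⨆ j : J, AddMonoidHom.range ((stF O x).map (leg c j)).hom
  have hP : P = ⊤ := by
    have h : (AddCommGrpCat.ofHom (QuotientAddGroup.mk' P) :
        (stF O x).obj c.pt ⟶ AddCommGrpCat.of ((stF O x).obj c.pt ⧸ P)) = 0 := hc'.hom_ext fun j => by
      rw [comp_zero]
      ext e
      exact (QuotientAddGroup.eq_zero_iff _).2 (AddSubgroup.mem_iSup_of_mem j ⟨e, rfl⟩)
    refine eq_top_iff.2 fun e _ => (QuotientAddGroup.eq_zero_iff e).1 ?_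
    exact ConcreteCategory.congr_hom h e
  have key : ∀ e ∈ P, ∀ {V' : Opens X} (hx' : x ∈ V') (t' : ModSite.sect c.pt V'),
      gm c.pt hx' t' = e → ∃ (W : Opens X) (hW : W ≤ V') (L : Type) (_ : Fintype L) (a : L → J)
        (g : ∀ l, ModSite.sect (D.obj (a l)) W), x ∈ W ∧ ∑ l, ap (leg c (a l)) W (g l) = rs c.pt hW t' := by
    intro e he
    refine AddSubgroup.iSup_induction (C := fun e => ∀ {V' : Opens X} (hx' : x ∈ V')
      (t' : ModSite.sect c.pt V'), gm c.pt hx' t' = e →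
      ∃ (W : Opens X) (hW : W ≤ V') (L : Type) (_ : Fintype L) (a : L → J)
        (g : ∀ l, ModSite.sect (D.obj (a l)) W), x ∈ W ∧ ∑ l, ap (leg c (a l)) W (g l) = rs c.pt hW t')
      _ he ?_ ?_ ?_
    · intro j e he V' hx' t' ht'
      obtain ⟨e', rfl⟩ := he
      obtain ⟨V₁, hx₁, g, rfl⟩ := exists_gm (D.obj j) x e'
      have h := eq_of_gm_eq c.pt (V := V' ⊓ V₁) (x := x) ⟨hx', hx₁⟩
        (a := rs c.pt inf_le_right (ap (leg c j) V₁ g)) (b := rs c.pt inf_le_left t')
        (by rw [gm_rs, gm_rs, ht', ← gm_map]; rfl)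
      obtain ⟨W, hW, hxW, heq⟩ := h
      refine ⟨W, hW.trans inf_le_left, PUnit, inferInstance, fun _ => j,
        fun _ => rs _ (hW.trans inf_le_right) g, hxW, ?_⟩
      rw [rs_rs, rs_rs] at heq
      simp [ap_rs, heq]
    · intro V' hx' t' ht'
      obtain ⟨W, hW, hxW, heq⟩ := eq_of_gm_eq c.pt hx' (b := 0) (ht'.trans (map_zero _).symm)
      exact ⟨W, hW, PEmpty, inferInstance, PEmpty.elim, fun l => l.elim, hxW, by simp [heq]⟩
    · intro e₁ e₂ h₁ h₂ V' hx' t' ht'
      obtain ⟨V₁, hx₁, t₁, ht₁⟩ := exists_gm c.pt x e₁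
      obtain ⟨V₂, hx₂, t₂, ht₂⟩ := exists_gm c.pt x e₂
      obtain ⟨W₁, hW₁, L₁, _, a₁, g₁, hxW₁, hg₁⟩ := h₁ hx₁ t₁ ht₁
      obtain ⟨W₂, hW₂, L₂, _, a₂, g₂, hxW₂, hg₂⟩ := h₂ hx₂ t₂ ht₂
      have h := eq_of_gm_eq c.pt (V := W₁ ⊓ W₂ ⊓ V') (x := x) ⟨⟨hxW₁, hxW₂⟩, hx'⟩
        (a := rs c.pt ((inf_le_left.trans inf_le_left).trans hW₁) t₁ +
          rs c.pt ((inf_le_left.trans inf_le_right).trans hW₂) t₂) (b := rs c.pt inf_le_right t')
        (by rw [map_add, gm_rs, gm_rs, gm_rs, ht', ht₁, ht₂])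
      obtain ⟨W, hW, hxW, heq⟩ := h
      refine ⟨W, hW.trans inf_le_right, L₁ ⊕ L₂, inferInstance, Sum.elim a₁ a₂,
        fun l => match l with
          | .inl l => rs _ (hW.trans (inf_le_left.trans inf_le_left)) (g₁ l)
          | .inr l => rs _ (hW.trans (inf_le_left.trans inf_le_right)) (g₂ l), hxW, ?_⟩
      rw [Fintype.sum_sum_type]
      simp only [Sum.elim_inl, Sum.elim_inr, ap_rs, ← map_sum, hg₁, hg₂]
      simpa only [map_add, rs_rs] using heq
  exact key _ (hP ▸ AddSubgroup.mem_top (gm c.pt hx t)) hx t rfl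

theorem cokernel_locally {R P : ModSite.Mod O} (φ : R ⟶ P) {V : Opens X} (t : ModSite.sect P V)
    (ht : ap (cokernel.π φ) V t = 0) {x : X} (hx : x ∈ V) :
    ∃ (W : Opens X) (hW : W ≤ V) (r : ModSite.sect R W), x ∈ W ∧ ap φ W r = rs P hW t :=
  exact_locally (ShortComplex.mk φ (cokernel.π φ) (cokernel.condition φ))
    (ShortComplex.exact_cokernel φ) t ht hx

/-- a cocone of monomorphisms that is jointly locally surjective is a colimit cocone -/
theorem nonempty_isColimit_of_mono {J : Type u} [SmallCategory J] [IsFiltered J] (D : J ⥤ ModSite.Mod O)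
    (c : Cocone D) [∀ j, Mono (leg c j)] (hs : JointSurj fun j => leg c j) : Nonempty (IsColimit c) := by
  haveI := ModSiteGro.isGrothendieckAbelian (ModSite.ringSh O)
  have hfac : ∀ j, colimit.ι D j ≫ colimit.desc D c = leg c j := fun j => colimit.ι_desc c j
  haveI : Mono (colimit.desc D c) := mono_of_injective _ fun V => (injective_iff_map_eq_zero _).2 fun t ht =>
    eq_zero_of_locally _ t fun x hx => by
      obtain ⟨i, W, hW, a, hxW, ha₀⟩ := exists_stage_germ D (colimit.cocone D) (colimit.isColimit D) hx t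
      have ha : ap (colimit.ι D i) W a = rs (colimit D) hW t := ha₀
      refine ⟨W, hW, hxW, ?_⟩
      have : ap (leg c i) W a = 0 := by
        rw [← hfac, ap_comp, ha, ap_rs, ht, map_zero]
      rw [← ha, injective_of_mono (leg c i) W (this.trans (map_zero _).symm), map_zero]
  haveI : Epi (colimit.desc D c) := epi_of_locally _ fun V t x hx => by
    obtain ⟨W, hW, L, _, a, g, hxW, hg⟩ := hs t x hx
    refine ⟨W, hW, ∑ l, ap (colimit.ι D (a l)) W (g l), hxW, ?_⟩
    rw [map_sum, ← hg]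
    exact Finset.sum_congr rfl fun l _ => by rw [← ap_comp, hfac]
  haveI : IsIso (colimit.desc D c) := isIso_of_mono_of_epi _
  exact ⟨IsColimit.ofPointIso (colimit.isColimit D) (i := ‹IsIso (colimit.desc D c)›)⟩

/-- sections over a quasi-compact open of a filtered union come from a stage -/
theorem exists_stage_sect {J : Type u} [SmallCategory J] [IsFiltered J] (D : J ⥤ ModSite.Mod O)
    (c : Cocone D) (hc : IsColimit c) [∀ j, Mono (leg c j)] {U : Opens X} (hU : IsCompact (U : Set X))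
    (t : ModSite.sect c.pt U) : ∃ (j : J) (a : ModSite.sect (D.obj j) U), ap (leg c j) U a = t := by
  classical
  choose i W hW a hxW ha using fun y : U => exists_stage_germ D c hc y.2 t
  obtain ⟨T, hT⟩ := hU.elim_finite_subcover (fun y : U => (W y : Set X)) (fun y => (W y).isOpen)
    fun y hy => Set.mem_iUnion.2 ⟨⟨y, hy⟩, hxW _⟩
  obtain ⟨j, hj⟩ := IsFiltered.sup_objs_exists (T.image i)
  let b : ∀ y : T, ModSite.sect (D.obj j) (W y.1) := fun y =>
    ap (D.map (hj (Finset.mem_image_of_mem i y.2)).some) (W y.1) (a y.1)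
  have hb : ∀ y : T, ap (leg c j) (W y.1) (b y) = rs c.pt (hW y.1) t := fun y => by
    rw [← ap_comp, leg_w, ha]
  have hcompat : TopCat.Presheaf.IsCompatible ((SheafOfModules.toSheaf _).obj (D.obj j)).obj
      (fun y : T => W y.1) b := fun y z => by
    refine injective_of_mono (leg c j) _ ?_
    show ap (leg c j) _ (rs (D.obj j) inf_le_left (b y)) = ap (leg c j) _ (rs (D.obj j) inf_le_right (b z))
    rw [ap_rs, ap_rs, hb, hb, rs_rs, rs_rs]
  obtain ⟨s, hs, -⟩ := TopCat.Sheaf.existsUnique_gluing' ((SheafOfModules.toSheaf _).obj (D.obj j))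
    (fun y : T => W y.1) U (fun y => homOfLE (hW y.1)) (fun y hy => by
      obtain ⟨z, hz, hyz⟩ := Set.mem_iUnion₂.1 (hT hy)
      exact Opens.mem_iSup.2 ⟨⟨z, hz⟩, hyz⟩) b hcompat
  refine ⟨j, s, eq_of_locally _ _ _ fun y hy => ?_⟩
  obtain ⟨z, hz, hyz⟩ := Set.mem_iUnion₂.1 (hT hy)
  refine ⟨W z, hW z, hyz, ?_⟩
  rw [← ap_rs, ← hb ⟨z, hz⟩]
  exact congrArg _ (hs ⟨z, hz⟩)

theorem kernel_sections_over {U : Opens X} {B C : SheafOfModules.{u} ((ModSite.ringSh O).over U)} (q : B ⟶ C)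
    {V W : Opens X} (hV : V ≤ U) (hW : W ≤ V) (t : QCAlg.sec (kernel q) hV) {κ : Type} [Fintype κ]
    (b : κ → QCAlg.sec B (le_refl U)) (k : κ → QCAlg.sec (kernel q) (le_refl U))
    (hk : ∀ l, QCAlg.mapSec (kernel.ι q) (le_refl U) (k l) = b l)
    (hinj : Function.Injective (QCAlg.mapSec (kernel.ι q) (hW.trans hV)))
    (d : κ → sc O W)
    (hd : ∑ l, (d l : QCAlg.scal (R := ModSite.ringSh O) (hW.trans hV)) • QCAlg.rs B (hW.trans hV) (le_refl U) (b l) =
      QCAlg.rs B hW hV (QCAlg.mapSec (kernel.ι q) hV t)) :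
    ∑ l, (d l : QCAlg.scal (R := ModSite.ringSh O) (hW.trans hV)) •
        QCAlg.rs (kernel q) (hW.trans hV) (le_refl U) (k l) = QCAlg.rs (kernel q) hW hV t := by
  apply hinj
  rw [map_sum, QCAlg.mapSec_rs, ← hd]
  refine Finset.sum_congr rfl fun l _ => ?_
  rw [map_smul, QCAlg.mapSec_rs, hk]

theorem mapSec_all_sections {U : Opens X} (N : SheafOfModules.{u} ((ModSite.ringSh O).over U))
    {W : Opens X} (h : W ≤ U) {κ : Type} [Fintype κ] (k : κ → QCAlg.sec N (le_refl U)) (d : κ → sc O W) :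
    QCAlg.mapSec (N.freeHomEquiv.symm fun z : QCAlg.sec N (le_refl U) => QCAlg.sectionsOf N z) h
        (∑ l, (d l : QCAlg.scal (R := ModSite.ringSh O) h) • QCAlg.freeBasis (R := ModSite.ringSh O) _ (k l) h) =
      ∑ l, (d l : QCAlg.scal (R := ModSite.ringSh O) h) • QCAlg.rs N h (le_refl U) (k l) := by
  rw [map_sum]
  refine Finset.sum_congr rfl fun l _ => ?_
  rw [map_smul, QCAlg.mapSec_freeBasis]

theorem mapSec_kernel_ι_zero {U : Opens X} {B C : SheafOfModules.{u} ((ModSite.ringSh O).over U)} (q : B ⟶ C)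
    {V : Opens X} (hV : V ≤ U) (t : QCAlg.sec (kernel q) hV) :
    QCAlg.mapSec q hV (QCAlg.mapSec (kernel.ι q) hV t) = 0 := by
  show QCAlg.mapSec (kernel.ι q ≫ q) hV t = 0
  rw [kernel.condition]
  rfl

/-- the generating family of all sections is epi as soon as sections locally are combinations -/
theorem epi_all_sections {U : Opens X} (N : SheafOfModules.{u} ((ModSite.ringSh O).over U))
    (h : ∀ {V : Opens X} (hV : V ≤ U) (t : QCAlg.sec N hV), ∀ y ∈ V, ∃ (W : Opens X) (hW : W ≤ V) (κ : Type)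
      (_ : Fintype κ) (k : κ → QCAlg.sec N (le_refl U)) (d : κ → sc O W), y ∈ W ∧
        ∑ l, (d l : QCAlg.scal (R := ModSite.ringSh O) (hW.trans hV)) •
          QCAlg.rs N (hW.trans hV) (le_refl U) (k l) = QCAlg.rs N hW hV t) :
    Epi (N.freeHomEquiv.symm fun z : QCAlg.sec N (le_refl U) => QCAlg.sectionsOf N z) :=
  QCAlg.epi_of_locally _ fun V hV t y hy => by
    obtain ⟨W, hW, κ, _, k, d, hyW, hkd⟩ := h hV t y hy
    exact ⟨W, hW, _, hyW, (mapSec_all_sections N (hW.trans hV) k d).trans hkd⟩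

theorem epi_kernel_sections {U : Opens X} {B C : SheafOfModules.{u} ((ModSite.ringSh O).over U)} (π : B ⟶ C)
    (h : ∀ {V : Opens X} (hV : V ≤ U) (z : QCAlg.sec B hV), QCAlg.mapSec π hV z = 0 →
      ∀ y ∈ V, ∃ (W : Opens X) (hW : W ≤ V) (κ : Type) (_ : Fintype κ)
        (b : κ → QCAlg.sec B (le_refl U)) (d : κ → sc O W),
        y ∈ W ∧ (∀ l, QCAlg.mapSec π (le_refl U) (b l) = 0) ∧
          ∑ l, (d l : QCAlg.scal (R := ModSite.ringSh O) (hW.trans hV)) • QCAlg.rs _ (hW.trans hV) (le_refl U) (b l) =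
            QCAlg.rs _ hW hV z) :
    Epi ((kernel π).freeHomEquiv.symm
      fun z : QCAlg.sec (kernel π) (le_refl U) => QCAlg.sectionsOf (kernel π) z) := by
  refine epi_all_sections _ fun {V} hV t y hy => ?_
  obtain ⟨W, hW, κ, _, b, d, hyW, hb0, hbd⟩ :=
    h hV (QCAlg.mapSec (kernel.ι π) hV t) (mapSec_kernel_ι_zero π hV t) y hy
  choose k hk using fun l => (ovr_kernel_sections π (le_refl U)).2 (b l) (hb0 l)
  exact ⟨W, hW, κ, inferInstance, k, d, hyW, kernel_sections_over π hV hW t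
    b k hk (ovr_kernel_sections π (hW.trans hV)).1 d hbd⟩

theorem over_rs_smul {U : Opens X} (N : SheafOfModules.{u} ((ModSite.ringSh O).over U)) {V W : Opens X} (hW : W ≤ V)
    (hV : V ≤ U) (a : sc O V) (z : QCAlg.sec N hV) :
    QCAlg.rs N hW hV ((a : QCAlg.scal (R := ModSite.ringSh O) hV) • z) =
      (rsR hW a : QCAlg.scal (R := ModSite.ringSh O) (hW.trans hV)) • QCAlg.rs N hW hV z :=
  PresheafOfModules.map_smul N.val (Over.homMk (homOfLE hW) (Subsingleton.elim _ _) :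
    QCAlg.ov (hW.trans hV) ⟶ QCAlg.ov hV).op a z

theorem over_rs_comb {U : Opens X} (N : SheafOfModules.{u} ((ModSite.ringSh O).over U)) {V W : Opens X} (hW : W ≤ V)
    (hV : V ≤ U) {ι : Type*} (S : Finset ι) (c : ι → sc O V) (z : ι → QCAlg.sec N hV) :
    QCAlg.rs N hW hV (∑ i ∈ S, (c i : QCAlg.scal (R := ModSite.ringSh O) hV) • z i) =
      ∑ i ∈ S, (rsR hW (c i) : QCAlg.scal (R := ModSite.ringSh O) (hW.trans hV)) • QCAlg.rs N hW hV (z i) := by
  rw [map_sum]
  exact Finset.sum_congr rfl fun i _ => over_rs_smul N hW hV (c i) (z i)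

theorem comb_rows_gen {U : Opens X} (N : SheafOfModules.{u} ((ModSite.ringSh O).over U)) {I : Type u}
    {V W : Opens X} (hV : V ≤ U) (hW : W ≤ V) (S : Finset I) (c : I → sc O V) {κ : Type} [Fintype κ]
    (r : κ → I → sc O U) (d : κ → sc O W)
    (hrd : ∀ i ∈ S, ∑ k, d k * rsR (hW.trans hV) (r k i) = rsR hW (c i))
    (e₀ : I → QCAlg.sec N (le_refl U)) (e₁ : I → QCAlg.sec N hV) (e₂ : I → QCAlg.sec N (hW.trans hV))
    (h₀ : ∀ i, QCAlg.rs N (hW.trans hV) (le_refl U) (e₀ i) = e₂ i) (h₁ : ∀ i, QCAlg.rs N hW hV (e₁ i) = e₂ i) :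
    ∑ l, (d l : QCAlg.scal (R := ModSite.ringSh O) (hW.trans hV)) • QCAlg.rs N (hW.trans hV) (le_refl U)
        (∑ i ∈ S, (r l i : QCAlg.scal (R := ModSite.ringSh O) (le_refl U)) • e₀ i) =
      QCAlg.rs N hW hV (∑ i ∈ S, (c i : QCAlg.scal (R := ModSite.ringSh O) hV) • e₁ i) := by
  simp only [over_rs_comb, h₀, h₁, Finset.smul_sum, smul_smul]
  rw [Finset.sum_comm]
  exact Finset.sum_congr rfl fun i hi => by rw [← Finset.sum_smul]; exact congrArg (· • e₂ i) (hrd i hi)

open scoped Classical in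
theorem comb_rows {U : Opens X} {I : Type u} {V W : Opens X} (hV : V ≤ U) (hW : W ≤ V) (S : Finset I)
    (c : I → sc O V) {κ : Type} [Fintype κ] (r : κ → I → sc O U) (d : κ → sc O W)
    (hrd : ∀ i ∈ S, ∑ k, d k * rsR (hW.trans hV) (r k i) = rsR hW (c i)) :
    ∑ l, (d l : QCAlg.scal (R := ModSite.ringSh O) (hW.trans hV)) • QCAlg.rs _ (hW.trans hV) (le_refl U)
        (∑ i ∈ S, (r l i : QCAlg.scal (R := ModSite.ringSh O) (le_refl U)) •
          QCAlg.freeBasis (R := ModSite.ringSh O) I i (le_refl U)) =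
      QCAlg.rs _ hW hV (∑ i ∈ S, (c i : QCAlg.scal (R := ModSite.ringSh O) hV) •
        QCAlg.freeBasis (R := ModSite.ringSh O) I i hV) := by
  exact comb_rows_gen _ hV hW S c r d hrd _ _ _ (fun i => rs_freeBasis i _ _) (fun i => rs_freeBasis i _ _)

/-- the relations of a family of sections give a kernel generated by its sections -/
theorem exists_rows (F : ModSite.Mod O) {U : Opens X} {I : Type u} (s : I → ModSite.sect F U)
    (π : SheafOfModules.free (R := (ModSite.ringSh O).over U) I ⟶ ovr F U) (hs : homOfSec F s = π)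
    (hr : ∀ ⦃V : Opens X⦄ (hV : V ≤ U) (S : Finset I) (c : I → sc O V), ∑ i ∈ S, c i • rs F hV (s i) = 0 →
        ∀ y ∈ V, ∃ (W : Opens X) (hW : W ≤ V) (κ : Type) (_ : Fintype κ) (r : κ → I → sc O U) (d : κ → sc O W),
          y ∈ W ∧ (∀ k, ∑ i ∈ S, r k i • s i = 0) ∧
            ∀ i ∈ S, ∑ k, d k * rsR (hW.trans hV) (r k i) = rsR hW (c i))
    {V : Opens X} (hV : V ≤ U) (z : QCAlg.sec (SheafOfModules.free (R := (ModSite.ringSh O).over U) I) hV)
    (hz : QCAlg.mapSec π hV z = 0) {y : X} (hy : y ∈ V) :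
    ∃ (W : Opens X) (hW : W ≤ V) (κ : Type) (_ : Fintype κ)
      (b : κ → QCAlg.sec (SheafOfModules.free (R := (ModSite.ringSh O).over U) I) (le_refl U)) (d : κ → sc O W),
      y ∈ W ∧ (∀ l, QCAlg.mapSec π (le_refl U) (b l) = 0) ∧
        ∑ l, (d l : QCAlg.scal (R := ModSite.ringSh O) (hW.trans hV)) • QCAlg.rs _ (hW.trans hV) (le_refl U) (b l) =
          QCAlg.rs _ hW hV z := by
  subst hs
  obtain ⟨W₁, hW₁, S, c, hyW₁, hc⟩ := QCPres.exists_local_comb hV z hy
  have hc0 : ∑ i ∈ S, c i • rs F (hW₁.trans hV) (s i) = 0 := by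
    rw [← QCPres.homOfSec_sum F s (hW₁.trans hV) S c, hc, QCAlg.mapSec_rs, hz, map_zero]
  obtain ⟨W, hW, κ, _, r, d, hyW, hr0, hrd⟩ := hr (hW₁.trans hV) S c hc0 y hyW₁
  refine ⟨W, hW.trans hW₁, κ, inferInstance, _, d, hyW,
    fun l => (QCPres.homOfSec_sum F s (le_refl U) S (r l)).trans (by simpa only [rs_self] using hr0 l),
    (comb_rows (hW₁.trans hV) hW S c r d hrd).trans ?_⟩
  rw [hc]
  exact (PresheafOfModules.map_comp_apply _ _ _ _).symm

/-- quasi-coherence from generators and relations -/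
theorem isQuasicoherent_of_forall (F : ModSite.Mod O)
    (h : ∀ x : X, ∃ (U : Opens X) (I : Type u) (s : I → ModSite.sect F U), x ∈ U ∧ Gen F s ∧
      ∀ ⦃V : Opens X⦄ (hV : V ≤ U) (S : Finset I) (c : I → sc O V), ∑ i ∈ S, c i • rs F hV (s i) = 0 →
        ∀ y ∈ V, ∃ (W : Opens X) (hW : W ≤ V) (κ : Type) (_ : Fintype κ) (r : κ → I → sc O U) (d : κ → sc O W),
          y ∈ W ∧ (∀ k, ∑ i ∈ S, r k i • s i = 0) ∧
            ∀ i ∈ S, ∑ k, d k * rsR (hW.trans hV) (r k i) = rsR hW (c i)) :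
    SheafOfModules.IsQuasicoherent.{u} (R := ModSite.ringSh O) F := by
  classical
  choose U I s hx hs hr using h
  have hepi : ∀ x, Epi (homOfSec F (s x)) := fun x => QCAlg.epi_of_locally _ fun V hV t y hy => by
    obtain ⟨W, hW, hyW, hm⟩ := hs x hV t y hy
    obtain ⟨c, hc⟩ := Finsupp.mem_span_range_iff_exists_finsupp.1 hm
    exact ⟨W, hW, _, hyW, (QCPres.homOfSec_sum F (s x) (hW.trans hV) c.support c).trans hc⟩
  have hepi' := fun x => epi_kernel_sections (homOfSec F (s x))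
    (fun hV z hz y hy => exists_rows F (s x) _ rfl (hr x) hV z hz hy)
  let d : SheafOfModules.QuasicoherentData.{u} (R := ModSite.ringSh O) F :=
    { I := X
      X := U
      coversTop := coversTop_of_forall fun x => ⟨x, hx x⟩
      presentation := fun x =>
        { generators :=
            { I := I x
              s := fun i => QCAlg.sectionsOf (ovr F (U x)) (s x i)
              epi := hepi x }
          relations :=
            { I := QCAlg.sec (kernel (homOfSec F (s x))) (le_refl (U x))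
              s := fun k => QCAlg.sectionsOf (kernel (homOfSec F (s x))) k
              epi := hepi' x } } }
  exact d.isQuasicoherent

end Groth.Agent.FSchCoh.LimGen
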