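import Groth.Agent.FSchCoh.QCoh
import Groth.Agent.FSchCoh.LimGen
import Mathlib.CategoryTheory.ObjectProperty.Ind

/-!
# Filtered colimits of coherent modules on a locally noetherian formal scheme
-/

universe u

open CategoryTheory CategoryTheory.Limits AlgebraicGeometry TopologicalSpace Opposite
open Groth.Agent.RSFin (sc rsR Gen Rel spanOn leg)
open Groth.Agent.FSchCoh.LimGen (JointSurj)

set_option autoImplicit false
set_option backward.isDefEq.respectTransparency false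
set_option linter.style.haveILetI false

noncomputable section

namespace Groth.Agent.FSchCoh

variable {𝔛 : FSch.Sys.{u}} (h𝔛 : 𝔛.IsLocNoethFormal)

/-- finitely many sections over an affine open have finitely generated relations -/
def Good (F : FSch.ModF 𝔛 h𝔛.1) : Prop :=
  ∀ ⦃U : (𝔛.X 0).Opens⦄, IsAffineOpen U → ∀ {ι : Type} [Fintype ι] (q : ι → ModSite.sect F U),
    ∃ (κ : Type) (_ : Fintype κ) (r : κ → ι → sc (𝔛.Osh h𝔛.1) U), Rel F q r

/-- finitely many sections coming from a family of maps have finitely generated relations -/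
def RelLift {F : FSch.ModF 𝔛 h𝔛.1} {A : Type u} {G : A → FSch.ModF 𝔛 h𝔛.1} (f : ∀ a, G a ⟶ F) : Prop :=
  ∀ ⦃U : (𝔛.X 0).Opens⦄, IsAffineOpen U → ∀ {ι : Type} [Fintype ι] (a : ι → A)
    (g : ∀ k, ModSite.sect (G (a k)) U), ∃ (κ : Type) (_ : Fintype κ) (r : κ → ι → sc (𝔛.Osh h𝔛.1) U),
      Rel F (fun k => RSFin.ap (f (a k)) U (g k)) r

/-- a filtered union of coherent submodules -/
def LimPres (F : FSch.ModF 𝔛 h𝔛.1) : Prop :=
  ∃ (J : Type u) (_ : SmallCategory J) (_ : IsFiltered J) (pres : ColimitPresentation J F),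
    (∀ j : J, FSch.IsCohF 𝔛 h𝔛.1 (pres.diag.obj j)) ∧ ∀ j : J, Mono (pres.ι.app j)

include h𝔛

theorem good_of_coh {F : FSch.ModF 𝔛 h𝔛.1} (hF : FSch.IsCohF 𝔛 h𝔛.1 F) : Good h𝔛 F :=
  fun _ hU _ _ q => exists_rel h𝔛 hF hU q

/-- a coherent module is generated by finitely many sections over an affine open -/
theorem exists_gen {F : FSch.ModF 𝔛 h𝔛.1} (hF : FSch.IsCohF 𝔛 h𝔛.1 F) {U : (𝔛.X 0).Opens} (hU : IsAffineOpen U) :
    ∃ (ι : Type) (_ : Fintype ι) (s : ι → ModSite.sect F U), Gen F s := by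
  haveI := isIso_toReal h𝔛 hF
  let e := toReal 𝔛 h𝔛.1 F
  obtain ⟨ι, κ, hι, hκ, s, r, hs, -⟩ := exists_gen_rel h𝔛 (isCoh_pullSys 𝔛 h𝔛.1 F h𝔛 hF) hU
  refine ⟨ι, hι, fun i => RSFin.ap (inv e) U (s i), fun V hV t x hx => ?_⟩
  obtain ⟨W, hW, c, hxW, hc⟩ := hs.exists_fun hV (RSFin.ap e V t) hx
  refine ⟨W, hW, hxW, (RSFin.mem_spanOn_iff _ _ _ _).2 ⟨c, RSFin.injective_of_mono e W ?_⟩⟩
  rw [map_sum, RSFin.ap_rs, ← hc]
  refine Finset.sum_congr rfl fun i _ => ?_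
  rw [map_smul, RSFin.ap_rs, ← RSFin.ap_comp, IsIso.inv_hom_id, RSFin.ap_id]

/-- noetherian reduction of a family of relations -/
theorem exists_rel_of_family {F : FSch.ModF 𝔛 h𝔛.1} {U : (𝔛.X 0).Opens} (hU : IsAffineOpen U)
    {ι : Type} [Fintype ι] (q : ι → ModSite.sect F U) {Λ : Type*} (r : Λ → ι → sc (𝔛.Osh h𝔛.1) U)
    (hr0 : ∀ l, ∑ i, r l i • q i = 0)
    (hr : ∀ ⦃V : (𝔛.X 0).Opens⦄ (h : V ≤ U) (c : ι → sc (𝔛.Osh h𝔛.1) V), ∑ i, c i • RSFin.rs F h (q i) = 0 → ∀ x ∈ V,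
      ∃ (W : (𝔛.X 0).Opens) (hW : W ≤ V), x ∈ W ∧ (fun i => rsR hW (c i)) ∈
        Submodule.span (sc (𝔛.Osh h𝔛.1) W) (Set.range fun l => fun i => rsR (hW.trans h) (r l i))) :
    ∃ (κ : Type) (_ : Fintype κ) (r' : κ → ι → sc (𝔛.Osh h𝔛.1) U), Rel F q r' := by
  haveI : IsNoetherianRing (sc (𝔛.Osh h𝔛.1) U) := (main 𝔛 h𝔛.1 h𝔛 hU).1
  obtain ⟨S, hS⟩ := exists_finset_span (A := sc (𝔛.Osh h𝔛.1) U) r
  refine ⟨Fin S.card, inferInstance, fun k => r (S.equivFin.symm k), fun k => hr0 _, fun V h c hc x hx => ?_⟩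
  obtain ⟨W, hW, hxW, hm⟩ := hr h c hc x hx
  refine ⟨W, hW, hxW, Submodule.span_le.2 ?_ hm⟩
  rintro - ⟨l, rfl⟩
  have h1 : r l ∈ Submodule.span (sc (𝔛.Osh h𝔛.1) U) (Set.range fun k => r (S.equivFin.symm k : Λ)) := by
    refine Submodule.span_mono ?_ (hS l)
    rintro - ⟨a, ha, rfl⟩
    exact ⟨S.equivFin ⟨a, ha⟩, by simp⟩
  obtain ⟨d, hd⟩ := (Submodule.mem_span_range_iff_exists_fun _).1 h1
  refine (Submodule.mem_span_range_iff_exists_fun _).2 ⟨fun k => rsR (hW.trans h) (d k), funext fun i => ?_⟩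
  show _ = rsR (hW.trans h) (r l i)
  rw [← hd]
  simp only [Finset.sum_apply, Pi.smul_apply, smul_eq_mul, map_sum, map_mul]

omit h𝔛 in
theorem jointSurj_comp {h : 𝔛.IsFormal} {A : Type u} {G : A → FSch.ModF 𝔛 h} {P Q : FSch.ModF 𝔛 h}
    {f : ∀ a, G a ⟶ P} (hf : JointSurj f) (p : P ⟶ Q) [Epi p] : JointSurj fun a => f a ≫ p := fun V t x hx => by
  obtain ⟨W₁, hW₁, z, hxW₁, hz⟩ := RSFin.epi_locally p t hx
  obtain ⟨W, hW, L, hL, a, g, hxW, hg⟩ := hf z x hxW₁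
  refine ⟨W, hW.trans hW₁, L, hL, a, g, hxW, ?_⟩
  rw [← RSFin.rs_rs Q hW hW₁, ← hz, ← RSFin.ap_rs, ← hg, map_sum]
  exact Finset.sum_congr rfl fun l _ => RSFin.ap_comp _ _ _ _

omit h𝔛 in
theorem jointSurj_sigma {h : 𝔛.IsFormal} {A : Type u} (G : A → FSch.ModF 𝔛 h) [HasCoproduct G] :
    JointSurj fun a => Sigma.ι G a := fun V t x hx => by
  obtain ⟨W, hW, L, hL, a, g, hxW, hg⟩ := LimGen.jointSurj_of_isColimit _ _
    (colimit.isColimit (Discrete.functor G)) t x hx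
  exact ⟨W, hW, L, hL, fun l => (a l).as, fun l => g l, hxW, hg⟩

omit h𝔛 in
theorem gen_of_jointSurj {h : 𝔛.IsFormal} {A : Type u} {G : A → FSch.ModF 𝔛 h} {F : FSch.ModF 𝔛 h}
    {f : ∀ a, G a ⟶ F} (hf : JointSurj f) {U : (𝔛.X 0).Opens} {κ : A → Type} (hκ : ∀ a, Fintype (κ a))
    (s : ∀ a, κ a → ModSite.sect (G a) U) (hs : ∀ a, Gen (G a) (s a)) :
    Gen F (fun m : Σ a, κ a => RSFin.ap (f m.1) U (s m.1 m.2)) := by
  intro V hV t x hx
  obtain ⟨W₁, hW₁, L, _, a, g, hxW₁, hg⟩ := hf t x hx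
  obtain ⟨W, hW, hxW, hP⟩ := RSFin.exists_common hxW₁
    (fun l W hW => RSFin.rs F hW (RSFin.ap (f (a l)) W₁ (g l)) ∈
      spanOn F (hW.trans (hW₁.trans hV)) fun m : Σ a, κ a => RSFin.ap (f m.1) U (s m.1 m.2))
    (fun l W W' h h' hl => by
      have := RSFin.rs_mem_spanOn F (h.trans (hW₁.trans hV)) h'
        (fun m : Σ a, κ a => RSFin.ap (f m.1) U (s m.1 m.2)) hl
      rwa [RSFin.rs_rs] at this)
    (fun l => by
      haveI := hκ (a l)
      obtain ⟨W, hW, d, hxW, hd⟩ := (hs (a l)).exists_fun (hW₁.trans hV) (g l) hxW₁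
      refine ⟨W, hW, hxW, ?_⟩
      rw [← RSFin.ap_rs, ← hd, map_sum]
      exact Submodule.sum_mem _ fun m _ => by
        rw [map_smul, RSFin.ap_rs]
        exact Submodule.smul_mem _ _ (Submodule.subset_span ⟨⟨a l, m⟩, rfl⟩))
  refine ⟨W, hW.trans hW₁, hxW, ?_⟩
  rw [← RSFin.rs_rs F hW hW₁, ← hg, map_sum]
  exact Submodule.sum_mem _ fun l _ => hP l

omit h𝔛 in
theorem exists_gen_rel_of_mono {h : 𝔛.IsFormal} {I F : FSch.ModF 𝔛 h} (i : I ⟶ F) [Mono i]
    {U : (𝔛.X 0).Opens} {N : Type u} [Fintype N] (e : N → ModSite.sect I U) (he : Gen I e)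
    (q : N → ModSite.sect F U) (hq : ∀ m, RSFin.ap i U (e m) = q m)
    (hrel : ∃ (κ : Type) (_ : Fintype κ) (r : κ → Fin (Fintype.card N) → sc (𝔛.Osh h) U),
      Rel F (fun m => q ((Fintype.equivFin N).symm m)) r) :
    ∃ (ι κ : Type) (_ : Fintype ι) (_ : Fintype κ) (s : ι → ModSite.sect I U) (r : κ → ι → sc (𝔛.Osh h) U),
      Gen I s ∧ Rel I s r := by
  obtain ⟨lam, hlam, r, hr⟩ := hrel
  refine ⟨Fin (Fintype.card N), lam, inferInstance, hlam, fun m => e ((Fintype.equivFin N).symm m), r,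
    he.reindex (Fintype.equivFin N).symm, fun l => ?_, fun V hV c hc y hy => hr.2 hV c ?_ y hy⟩
  · refine RSFin.injective_of_mono i U ?_
    rw [map_zero, map_sum, ← hr.1 l]
    exact Finset.sum_congr rfl fun m _ => by rw [map_smul, hq]
  · have := congrArg (RSFin.ap i V) hc
    rw [map_sum, map_zero] at this
    refine Eq.trans (Finset.sum_congr rfl fun m _ => ?_) this
    rw [map_smul, RSFin.ap_rs, hq]

/-- finitely many images of a coherent family form a coherent submodule -/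
theorem isCohF_image {F : FSch.ModF 𝔛 h𝔛.1} {A : Type u} {G : A → FSch.ModF 𝔛 h𝔛.1} {f : ∀ a, G a ⟶ F}
    (hG : ∀ a, FSch.IsCohF 𝔛 h𝔛.1 (G a)) (hrel : RelLift h𝔛 f) (S : Finset A) :
    FSch.IsCohF 𝔛 h𝔛.1 (image (Sigma.desc fun a : S => f a.1)) := by
  classical
  let φ : (∐ fun a : S => G a.1) ⟶ F := Sigma.desc fun a : S => f a.1
  refine RSFin.isFinitePresentation_of_forall _ fun x => ?_
  obtain ⟨U, hU, hxU, -⟩ := exists_isAffineOpen_mem_and_subset (X := 𝔛.X 0) (x := x) (U := ⊤) trivial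
  choose κ hκ s hs using fun a : S => exists_gen h𝔛 (hG a.1) hU
  have hgen := gen_of_jointSurj (jointSurj_comp (jointSurj_sigma fun a : S => G a.1) (factorThruImage φ)) hκ s hs
  obtain ⟨ι', κ', h₁, h₂, s', r', hs', hr'⟩ := exists_gen_rel_of_mono (image.ι φ) _ hgen
    (fun m : Σ a : S, κ a => RSFin.ap (f m.1.1) U (s m.1 m.2)) (fun m => by
      rw [← RSFin.ap_comp, Category.assoc, image.fac, Sigma.ι_desc])
    (hrel hU (fun m => ((Fintype.equivFin (Σ a : S, κ a)).symm m).1.1) fun m => s _ _)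
  exact ⟨U, ι', κ', h₁, h₂, s', r', hxU, hs', hr'⟩

/-- a jointly surjective coherent family with finitely generated relations presents a union of coherent submodules -/
theorem limPres_of_cover {F : FSch.ModF 𝔛 h𝔛.1} {A : Type u} {G : A → FSch.ModF 𝔛 h𝔛.1} (f : ∀ a, G a ⟶ F)
    (hG : ∀ a, FSch.IsCohF 𝔛 h𝔛.1 (G a)) (hs : JointSurj f) (hrel : RelLift h𝔛 f) : LimPres h𝔛 F := by
  classical
  let φ : ∀ S : Finset A, (∐ fun a : S => G a.1) ⟶ F := fun S => Sigma.desc fun a : S => f a.1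
  let ψ : ∀ {S T : Finset A}, S ≤ T → (image (φ S) ⟶ image (φ T)) := fun {S T} h => image.lift
    { I := image (φ T)
      m := image.ι (φ T)
      e := Sigma.desc (fun a : S => Sigma.ι (fun b : T => G b.1) ⟨a.1, h a.2⟩) ≫ factorThruImage (φ T)
      fac := Sigma.hom_ext _ _ fun a => by simp [φ] }
  have hψ : ∀ {S T : Finset A} (h : S ≤ T), ψ h ≫ image.ι (φ T) = image.ι (φ S) := fun {S T} h => image.lift_fac _
  let D : Finset A ⥤ FSch.ModF 𝔛 h𝔛.1 :=
    { obj := fun S => image (φ S)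
      map := fun {S T} h => ψ h.le
      map_id := fun S => (cancel_mono (image.ι (φ S))).1 (by rw [hψ, Category.id_comp])
      map_comp := fun {S T R} g h => (cancel_mono (image.ι (φ R))).1 (by rw [hψ, Category.assoc, hψ, hψ]) }
  let c : Cocone D :=
    { pt := F
      ι := { app := fun S => image.ι (φ S)
             naturality := fun S T h => (hψ h.le).trans (Category.comp_id _).symm } }
  haveI : ∀ S, Mono (leg c S) := fun S => show Mono (image.ι (φ S)) from inferInstance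
  obtain ⟨hc⟩ := LimGen.nonempty_isColimit_of_mono D c (fun V t x hx => by
    obtain ⟨W, hW, L, hL, a, g, hxW, hg⟩ := hs t x hx
    refine ⟨W, hW, L, hL, fun l => ({a l} : Finset A),
      fun l => RSFin.ap (Sigma.ι (fun b : ({a l} : Finset A) => G b.1) ⟨a l, Finset.mem_singleton_self _⟩ ≫
        factorThruImage (φ {a l})) W (g l), hxW, ?_⟩
    rw [← hg]
    refine Finset.sum_congr rfl fun l _ => ?_
    show RSFin.ap (((Sigma.ι (fun b : ({a l} : Finset A) => G b.1) ⟨a l, Finset.mem_singleton_self _⟩) ≫ factorThruImage (φ {a l})) ≫ image.ι (φ {a l})) W (g l) = _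
    rw [Category.assoc, image.fac, Sigma.ι_desc])
  exact ⟨Finset A, inferInstance, inferInstance, ⟨D, c.ι, hc⟩, fun S => isCohF_image h𝔛 hG hrel S,
    fun S => show Mono (image.ι (φ S)) from inferInstance⟩

theorem limPres_of_coh {F : FSch.ModF 𝔛 h𝔛.1} (hF : FSch.IsCohF 𝔛 h𝔛.1 F) : LimPres h𝔛 F :=
  ⟨PUnit.{u + 1}, inferInstance, inferInstance, ColimitPresentation.self F, fun _ => hF,
    fun _ => show Mono (𝟙 F) from inferInstance⟩

variable {h𝔛}

theorem LimPres.good {F : FSch.ModF 𝔛 h𝔛.1} (hF : LimPres h𝔛 F) : Good h𝔛 F := by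
  classical
  obtain ⟨J, _, _, P, hP, hm⟩ := hF
  intro U hU ι _ q
  let c : Cocone P.diag := ⟨F, P.ι⟩
  haveI : ∀ j, Mono (leg c j) := hm
  choose j a ha using fun k => LimGen.exists_stage_sect P.diag c P.isColimit hU.isCompact (q k)
  obtain ⟨i, hi⟩ := IsFiltered.sup_objs_exists (Finset.univ.image j)
  let b : ι → ModSite.sect (P.diag.obj i) U := fun k =>
    RSFin.ap (P.diag.map (hi (Finset.mem_image_of_mem j (Finset.mem_univ k))).some) U (a k)
  have hb : ∀ k, RSFin.ap (leg c i) U (b k) = q k := fun k => by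
    rw [← RSFin.ap_comp, RSFin.leg_w]
    exact ha k
  obtain ⟨κ, hκ, r, hr⟩ := exists_rel h𝔛 (hP i) hU b
  refine ⟨κ, hκ, r, fun l => ?_, fun V h d hd x hx => hr.2 h d ?_ x hx⟩
  · have := congrArg (RSFin.ap (leg c i) U) (hr.1 l)
    rw [map_sum, map_zero] at this
    refine Eq.trans (Finset.sum_congr rfl fun k _ => ?_) this
    rw [map_smul, hb]
  · refine RSFin.injective_of_mono (leg c i) V ?_
    rw [map_sum, map_zero]
    refine Eq.trans (Finset.sum_congr rfl fun k _ => ?_) hd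
    rw [map_smul, RSFin.ap_rs, hb]

theorem LimPres.exists_cover {F : FSch.ModF 𝔛 h𝔛.1} (hF : LimPres h𝔛 F) :
    ∃ (A : Type u) (G : A → FSch.ModF 𝔛 h𝔛.1) (f : ∀ a, G a ⟶ F),
      (∀ a, FSch.IsCohF 𝔛 h𝔛.1 (G a)) ∧ JointSurj f ∧ RelLift h𝔛 f := by
  have hgood : Good h𝔛 F := hF.good
  obtain ⟨J, _, _, P, hP, hm⟩ := hF
  exact ⟨J, P.diag.obj, fun j => P.ι.app j, hP,
    LimGen.jointSurj_of_isColimit P.diag ⟨F, P.ι⟩ P.isColimit,
    fun U hU ι _ a g => hgood hU _⟩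

/-- a module that is a union of coherent submodules is generated by its sections over an affine open -/
theorem LimPres.gen_sections {F : FSch.ModF 𝔛 h𝔛.1} (hF : LimPres h𝔛 F) {U : (𝔛.X 0).Opens} (hU : IsAffineOpen U) :
    Gen F (fun z : ModSite.sect F U => z) := by
  obtain ⟨A, G, f, hG, hs, -⟩ := hF.exists_cover
  choose κ hκ s hs' using fun a => exists_gen h𝔛 (hG a) hU
  intro V hV t x hx
  obtain ⟨W, hW, hxW, hm⟩ := gen_of_jointSurj hs hκ s hs' hV t x hx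
  refine ⟨W, hW, hxW, Submodule.span_mono ?_ hm⟩
  rintro z ⟨m, rfl⟩
  exact ⟨_, rfl⟩

variable (h𝔛)

/-- a filtered colimit of coherent modules is a union of coherent submodules -/
theorem limPres_of_ind {F : FSch.ModF 𝔛 h𝔛.1}
    (hF : (ObjectProperty.ind.{u} fun G : FSch.ModF 𝔛 h𝔛.1 => FSch.IsCohF 𝔛 h𝔛.1 G) F) : LimPres h𝔛 F := by
  classical
  obtain ⟨J, _, _, P, hP⟩ := hF
  let c : Cocone P.diag := ⟨F, P.ι⟩
  refine limPres_of_cover h𝔛 (G := P.diag.obj) (fun j => leg c j) hP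
    (LimGen.jointSurj_of_isColimit P.diag c P.isColimit) fun U hU ι _ a g => ?_
  obtain ⟨j, hj⟩ := IsFiltered.sup_objs_exists (Finset.univ.image a)
  let b : ι → ModSite.sect (P.diag.obj j) U := fun k =>
    RSFin.ap (P.diag.map (hj (Finset.mem_image_of_mem a (Finset.mem_univ k))).some) U (g k)
  have hb : ∀ k, RSFin.ap (leg c j) U (b k) = RSFin.ap (leg c (a k)) U (g k) := fun k => by
    rw [← RSFin.ap_comp, RSFin.leg_w]
  choose κ hκ r hr using fun m : Σ i : J, j ⟶ i => exists_rel h𝔛 (hP m.1) hU fun k => RSFin.ap (P.diag.map m.2) U (b k)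
  refine exists_rel_of_family h𝔛 hU _ (fun l : Σ m, κ m => r l.1 l.2) (fun l => ?_) fun V h d hd x hx => ?_
  · have := congrArg (RSFin.ap (leg c l.1.1) U) ((hr l.1).1 l.2)
    rw [map_sum, map_zero] at this
    refine Eq.trans (Finset.sum_congr rfl fun k _ => ?_) this
    rw [map_smul, ← RSFin.ap_comp, RSFin.leg_w, hb]
  · have h0 : RSFin.ap (leg c j) V (∑ k, d k • RSFin.rs (P.diag.obj j) h (b k)) = 0 := by
      rw [map_sum]
      refine Eq.trans (Finset.sum_congr rfl fun k _ => ?_) hd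
      rw [map_smul, RSFin.ap_rs, hb]
    obtain ⟨i, u, W, hW, hxW, h1⟩ := LimGen.exists_stage_zero P.diag c P.isColimit _ h0 hx
    obtain ⟨W', hW', hxW', hm⟩ := (hr ⟨i, u⟩).2 (hW.trans h) (fun k => rsR hW (d k)) (by
      refine Eq.trans ?_ h1
      rw [map_sum, map_sum]
      exact Finset.sum_congr rfl fun k _ => by rw [RSFin.rs_smul, map_smul, RSFin.rs_rs, RSFin.ap_rs]) x hxW
    refine ⟨W', hW'.trans hW, hxW', Submodule.span_mono ?_ (by simpa only [RSFin.rsR_rsR] using hm)⟩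
    rintro - ⟨l, rfl⟩
    exact ⟨⟨⟨i, u⟩, l⟩, rfl⟩

omit h𝔛 in
theorem ind_of_limPres {h𝔛 : 𝔛.IsLocNoethFormal} {F : FSch.ModF 𝔛 h𝔛.1} (hF : LimPres h𝔛 F) :
    (ObjectProperty.ind.{u} fun G : FSch.ModF 𝔛 h𝔛.1 => FSch.IsCohF 𝔛 h𝔛.1 G) F := by
  obtain ⟨J, i₁, i₂, P, hP, -⟩ := hF
  exact ⟨J, i₁, i₂, P, hP⟩

/-- a union of coherent submodules is quasi-coherent -/
theorem isQuasicoherent_of_limPres {F : FSch.ModF 𝔛 h𝔛.1} (hF : LimPres h𝔛 F) :
    SheafOfModules.IsQuasicoherent.{u} (R := ModSite.ringSh (𝔛.Osh h𝔛.1)) F := by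
  classical
  refine LimGen.isQuasicoherent_of_forall F fun x => ?_
  obtain ⟨U, hU, hxU, -⟩ := exists_isAffineOpen_mem_and_subset (X := 𝔛.X 0) (x := x) (U := ⊤) trivial
  refine ⟨U, ModSite.sect F U, fun z => z, hxU, hF.gen_sections hU, fun V hV S c hc y hy => ?_⟩
  let E : Fin S.card ≃ S := S.equivFin.symm
  obtain ⟨κ, hκ, r, hr⟩ := hF.good hU fun k => (E k).1
  have hsum : ∀ {M : Type u} [AddCommMonoid M] (φ : ModSite.sect F U → M), ∑ k, φ (E k).1 = ∑ i ∈ S, φ i :=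
    fun φ => (E.sum_comp fun i : S => φ i).trans (Finset.sum_coe_sort S φ)
  obtain ⟨W, hW, hyW, hm⟩ := hr.2 hV (fun k => c (E k).1) ((hsum fun i => c i • RSFin.rs F hV i).trans hc) y hy
  obtain ⟨d, hd⟩ := (Submodule.mem_span_range_iff_exists_fun _).1 hm
  let r' : κ → ModSite.sect F U → sc (𝔛.Osh h𝔛.1) U := fun l i => if hi : i ∈ S then r l (E.symm ⟨i, hi⟩) else 0
  have hr' : ∀ l k, r' l (E k).1 = r l k := fun l k => by simp [r']
  refine ⟨W, hW, κ, hκ, r', d, hyW, fun l => ?_, fun i hi => ?_⟩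
  · rw [← hsum fun i => r' l i • i, ← hr.1 l]
    exact Finset.sum_congr rfl fun k _ => by rw [hr']
  · have := congrFun hd (E.symm ⟨i, hi⟩)
    simp only [Finset.sum_apply, Pi.smul_apply, smul_eq_mul, Equiv.apply_symm_apply] at this
    refine Eq.trans (Finset.sum_congr rfl fun l _ => ?_) this
    simp [r', hi]

end Groth.Agent.FSchCoh
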