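import Groth.Agent.FSchCoh.LimClose
import Groth.Agent.ModSiteGro.Basic
import Mathlib.CategoryTheory.Abelian.GrothendieckCategory.Basic
import Mathlib.CategoryTheory.Adjunction.Comma

/-!
# The coreflection onto filtered colimits of coherent modules
-/

universe u

open CategoryTheory CategoryTheory.Limits AlgebraicGeometry TopologicalSpace Opposite
open Groth.Agent.RSFin (sc rsR Gen Rel spanOn leg)

set_option autoImplicit false
set_option backward.isDefEq.respectTransparency false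
set_option linter.style.haveILetI false

noncomputable section

namespace Groth.Agent.FSchCoh

section General

variable {X : TopCat.{u}} {O : TopCat.Sheaf CommRingCat.{u} X}

/-- the module corepresenting sections over `U` -/
def jU (U : Opens X) : ModSite.Mod O :=
  (PresheafOfModules.sheafification (R := ModSite.ringSh O) (𝟙 (ModSite.ringSh O).obj)).obj
    ((PresheafOfModules.free (ModSite.ringSh O).obj).obj (yoneda.obj U))

/-- the corepresentation -/
def jUEquiv (U : Opens X) (G : ModSite.Mod O) : (jU (O := O) U ⟶ G) ≃ ModSite.sect G U :=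
  ((PresheafOfModules.sheafificationAdjunction (R := ModSite.ringSh O) (𝟙 (ModSite.ringSh O).obj)).homEquiv _ G).trans
    PresheafOfModules.freeYonedaEquiv

theorem jUEquiv_comp {U : Opens X} {G N : ModSite.Mod O} (f : jU (O := O) U ⟶ G) (a : G ⟶ N) :
    jUEquiv U N (f ≫ a) = RSFin.ap a U (jUEquiv U G f) := by
  simp only [jUEquiv, Equiv.trans_apply]
  rfl

end General

variable {𝔛 : FSch.Sys.{u}} (h𝔛 : 𝔛.IsLocNoethFormal)

/-- a module of which every coherent module is a quotient -/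
def bigGen : FSch.ModF 𝔛 h𝔛.1 :=
  ∐ fun m : (𝔛.X 0).affineOpens × ℕ => jU (O := 𝔛.Osh h𝔛.1) m.1.1

theorem exists_gen_nat {G : FSch.ModF 𝔛 h𝔛.1} (hG : FSch.IsCohF 𝔛 h𝔛.1 G) {U : (𝔛.X 0).Opens} (hU : IsAffineOpen U) :
    ∃ s : ℕ → ModSite.sect G U, Gen G s := by
  obtain ⟨ι, hι, s, hs⟩ := exists_gen h𝔛 hG hU
  refine ⟨fun n => if h : n < Fintype.card ι then s ((Fintype.equivFin ι).symm ⟨n, h⟩) else 0, fun V hV t x hx => ?_⟩
  obtain ⟨W, hW, hxW, hm⟩ := hs hV t x hx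
  refine ⟨W, hW, hxW, Submodule.span_mono ?_ hm⟩
  rintro - ⟨k, rfl⟩
  refine ⟨(Fintype.equivFin ι k : ℕ), ?_⟩
  simp

theorem exists_epi_bigGen {G : FSch.ModF 𝔛 h𝔛.1} (hG : FSch.IsCohF 𝔛 h𝔛.1 G) :
    ∃ π : bigGen h𝔛 ⟶ G, Epi π := by
  choose s hs using fun U : (𝔛.X 0).affineOpens => exists_gen_nat h𝔛 hG U.2
  let f : ∀ m : (𝔛.X 0).affineOpens × ℕ, jU (O := 𝔛.Osh h𝔛.1) m.1.1 ⟶ G := fun m =>
    (jUEquiv _ G).symm (s m.1 m.2)
  refine ⟨Sigma.desc f, ⟨fun {N} a b hab => hom_ext_basis (𝔛.X 0).isBasis_affineOpens fun U hU t => ?_⟩⟩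
  have key : ∀ k, RSFin.ap a U (s ⟨U, hU⟩ k) = RSFin.ap b U (s ⟨U, hU⟩ k) := fun k => by
    have h1 := congrArg (fun φ => Sigma.ι (fun m : (𝔛.X 0).affineOpens × ℕ => jU (O := 𝔛.Osh h𝔛.1) m.1.1)
      (⟨U, hU⟩, k) ≫ φ) hab
    simp only [Sigma.ι_desc_assoc] at h1
    have h2 := congrArg (jUEquiv U N) h1
    rw [jUEquiv_comp, jUEquiv_comp, Equiv.apply_symm_apply] at h2
    exact h2
  show RSFin.ap a U t = RSFin.ap b U t
  refine RSFin.eq_of_locally N _ _ fun x hx => ?_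
  obtain ⟨W, hW, hxW, hm⟩ := hs ⟨U, hU⟩ le_rfl t x hx
  obtain ⟨c, hc⟩ := Finsupp.mem_span_range_iff_exists_finsupp.1 hm
  refine ⟨W, hW, hxW, ?_⟩
  rw [← RSFin.ap_rs, ← RSFin.ap_rs, ← hc, Finsupp.sum, map_sum, map_sum]
  exact Finset.sum_congr rfl fun k _ => by rw [map_smul, map_smul, RSFin.ap_rs, RSFin.ap_rs, key]

/-- a small set of coherent modules containing all of them up to isomorphism -/
theorem exists_small_coh : ∃ (A : Type u) (G : A → FSch.ModF 𝔛 h𝔛.1), (∀ a, FSch.IsCohF 𝔛 h𝔛.1 (G a)) ∧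
    ∀ F : FSch.ModF 𝔛 h𝔛.1, FSch.IsCohF 𝔛 h𝔛.1 F → ∃ a, Nonempty (F ≅ G a) := by
  haveI := ModSiteGro.isGrothendieckAbelian (ModSite.ringSh (𝔛.Osh h𝔛.1))
  haveI : Small.{u} (Subobject (bigGen h𝔛)) := inferInstance
  let A := {K : Shrink.{u} (Subobject (bigGen h𝔛)) //
    FSch.IsCohF 𝔛 h𝔛.1 (cokernel ((equivShrink _).symm K).arrow)}
  refine ⟨A, fun a => cokernel ((equivShrink _).symm a.1).arrow, fun a => a.2, fun F hF => ?_⟩
  obtain ⟨π, hπ⟩ := exists_epi_bigGen h𝔛 hF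
  let K := kernelSubobject π
  let e : cokernel K.arrow ≅ F :=
    cokernelIsoOfEq (kernelSubobject_arrow π).symm ≪≫ cokernelEpiComp _ _ ≪≫
      IsColimit.coconePointUniqueUpToIso (cokernelIsCokernel (kernel.ι π))
        (Abelian.epiIsCokernelOfKernel _ (limit.isLimit (parallelPair π 0)))
  have hK : FSch.IsCohF 𝔛 h𝔛.1 (cokernel K.arrow) :=
    ObjectProperty.prop_of_iso (SheafOfModules.isFinitePresentation (ModSite.ringSh (𝔛.Osh h𝔛.1))) e.symm hF
  refine ⟨⟨equivShrink _ K, by rwa [Equiv.symm_apply_apply]⟩, ⟨?_⟩⟩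
  show F ≅ cokernel ((equivShrink _).symm (equivShrink _ K)).arrow
  rw [Equiv.symm_apply_apply]
  exact e.symm

variable {h𝔛} in
/-- every module has a weakly terminal map from a union of coherent submodules -/
theorem exists_weakly_terminal (F : FSch.ModF 𝔛 h𝔛.1) :
    ∃ (C : FSch.ModF 𝔛 h𝔛.1) (ε : C ⟶ F), LimPres h𝔛 C ∧
      ∀ (P : FSch.ModF 𝔛 h𝔛.1) (_ : LimPres h𝔛 P) (p : P ⟶ F), ∃ l : P ⟶ C, l ≫ ε = p := by
  obtain ⟨A, G, hG, hiso⟩ := exists_small_coh h𝔛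
  let Φ : InducedCategory (FSch.ModF 𝔛 h𝔛.1) G ⥤ FSch.ModF 𝔛 h𝔛.1 := inducedFunctor G
  let D : CostructuredArrow Φ F ⥤ FSch.ModF 𝔛 h𝔛.1 := CostructuredArrow.proj Φ F ⋙ Φ
  let c : Cocone D := { pt := F, ι := { app := fun a => a.hom, naturality := fun a b u => by simp [D] } }
  refine ⟨colimit D, colimit.desc D c, limPres_of_colimit
    ⟨D, (colimit.cocone D).ι, colimit.isColimit D⟩ (fun a => limPres_of_coh h𝔛 (hG a.left)), fun P hP p => ?_⟩
  obtain ⟨J, _, _, Q, hQ, -⟩ := hP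
  choose a e using fun j => hiso (Q.diag.obj j) (hQ j)
  let ob : J → CostructuredArrow Φ F := fun j =>
    CostructuredArrow.mk (S := Φ) (Y := show InducedCategory (FSch.ModF 𝔛 h𝔛.1) G from a j) ((e j).some.inv ≫ Q.ι.app j ≫ p)
  let c' : Cocone Q.diag :=
    { pt := colimit D
      ι :=
        { app := fun j => (e j).some.hom ≫ colimit.ι D (ob j)
          naturality := fun i j u => by
            let m : ob i ⟶ ob j := CostructuredArrow.homMk
              (InducedCategory.homMk ((e i).some.inv ≫ Q.diag.map u ≫ (e j).some.hom)) (by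
                show ((e i).some.inv ≫ Q.diag.map u ≫ (e j).some.hom) ≫ (e j).some.inv ≫ Q.ι.app j ≫ p = _
                simp only [Category.assoc, Iso.hom_inv_id_assoc]
                exact congrArg ((e i).some.inv ≫ ·) ((Category.assoc _ _ _).symm.trans (congrArg (· ≫ p) (Q.w u))))
            have := colimit.w D m
            simp only [Functor.const_obj_obj, Functor.const_obj_map, Category.comp_id]
            rw [← this]
            simp [D, m, Φ] } }
  refine ⟨Q.isColimit.desc c', Q.isColimit.hom_ext fun j => ?_⟩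
  show Q.ι.app j ≫ _ = Q.ι.app j ≫ p
  rw [← Category.assoc, Q.isColimit.fac c' j]
  simp [c', c, ob]

theorem exists_terminal (F : FSch.ModF 𝔛 h𝔛.1) :
    ∃ (T : FSch.ModF 𝔛 h𝔛.1) (ε : T ⟶ F), LimPres h𝔛 T ∧
      ∀ (P : FSch.ModF 𝔛 h𝔛.1) (_ : LimPres h𝔛 P) (p : P ⟶ F), ∃! l : P ⟶ T, l ≫ ε = p := by
  obtain ⟨C, ε, hC, hw⟩ := exists_weakly_terminal (h𝔛 := h𝔛) F
  let φ : (∐ fun _ : {t : C ⟶ C // t ≫ ε = ε} => C) ⟶ C := Sigma.desc fun t => t.1 - 𝟙 C
  have hφ : φ ≫ ε = 0 := Sigma.hom_ext _ _ fun t => by simp [φ, t.2]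
  refine ⟨cokernel φ, cokernel.desc φ ε hφ,
    limPres_cokernel φ (limPres_sigma _ fun _ => hC) hC, fun P hP p => ?_⟩
  obtain ⟨l, hl⟩ := hw P hP p
  refine ⟨l ≫ cokernel.π φ, by simp [hl], fun l' hl' => ?_⟩
  let d : P ⟶ cokernel φ := l' - l ≫ cokernel.π φ
  have hd : d ≫ cokernel.desc φ ε hφ = 0 := by simp [d, hl', hl]
  obtain ⟨k, hk⟩ := hw (cokernel d) (limPres_cokernel d hP (limPres_cokernel φ (limPres_sigma _ fun _ => hC) hC))
    (cokernel.desc d _ hd)
  have hend : (cokernel.π φ ≫ cokernel.π d ≫ k) ≫ ε = ε := by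
    rw [Category.assoc, Category.assoc, hk, cokernel.π_desc, cokernel.π_desc]
  have h1 := congrArg (fun t => Sigma.ι (fun _ : {t : C ⟶ C // t ≫ ε = ε} => C) ⟨_, hend⟩ ≫ t) (cokernel.condition φ)
  simp only [φ, Sigma.ι_desc_assoc, comp_zero, Preadditive.sub_comp, Category.id_comp, sub_eq_zero] at h1
  have h2 : cokernel.π d ≫ k ≫ cokernel.π φ = 𝟙 _ := (cancel_epi (cokernel.π φ)).1 (by simpa using h1)
  have h3 : d = 0 := by
    rw [← Category.comp_id d, ← h2, cokernel.condition_assoc, zero_comp]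
  exact sub_eq_zero.1 h3

theorem isLeftAdjoint_ind :
    (ObjectProperty.ind.{u} fun G : FSch.ModF 𝔛 h𝔛.1 => FSch.IsCohF 𝔛 h𝔛.1 G).ι.IsLeftAdjoint := by
  let P := ObjectProperty.ind.{u} fun G : FSch.ModF 𝔛 h𝔛.1 => FSch.IsCohF 𝔛 h𝔛.1 G
  haveI : ∀ F, HasTerminal (CostructuredArrow P.ι F) := fun F => by
    obtain ⟨T, ε, hT, hu⟩ := exists_terminal h𝔛 F
    let T' : CostructuredArrow P.ι F := CostructuredArrow.mk (S := P.ι) (Y := (⟨T, ind_of_limPres hT⟩ : P.FullSubcategory)) (show P.ι.obj ⟨T, ind_of_limPres hT⟩ ⟶ F from ε)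
    refine (IsTerminal.ofUniqueHom (Y := T') (fun a => CostructuredArrow.homMk
      (ObjectProperty.homMk (hu a.left.obj (limPres_of_ind h𝔛 a.left.property) a.hom).choose)
      (show _ ≫ ε = a.hom from (hu a.left.obj (limPres_of_ind h𝔛 a.left.property) a.hom).choose_spec.1)) fun a m => ?_).hasTerminal
    apply CostructuredArrow.hom_ext
    apply ObjectProperty.hom_ext
    exact (hu a.left.obj (limPres_of_ind h𝔛 a.left.property) a.hom).choose_spec.2 _ (CostructuredArrow.w m)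
  exact isLeftAdjoint_of_costructuredArrowTerminals _

end Groth.Agent.FSchCoh
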