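import Groth.Agent.FSchCoh.Coherent
import Groth.Agent.FSchCoh.Epi
import Groth.Agent.FSchCoh.ComplExact

/-!
# Injective and surjective morphisms of coherent modules form open sets
-/

universe u

open CategoryTheory CategoryTheory.Limits AlgebraicGeometry TopologicalSpace Opposite
open Groth.Agent.RSFin (sc rsR)

set_option autoImplicit false
set_option backward.isDefEq.respectTransparency false
set_option linter.style.haveILetI false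

noncomputable section

namespace Groth.Agent.FSchCoh

theorem injective_add {A M N : Type*} [CommRing A] [AddCommGroup M] [Module A M] [AddCommGroup N] [Module A N]
    (J : Ideal A) (hsep : (⨅ j : ℕ, J ^ j • (⊤ : Submodule A M)) = ⊥) (a b : M →ₗ[A] N) {k n : ℕ} (hkn : k ≤ n)
    (ha : ∀ j x, a x ∈ J ^ (j + k) • (⊤ : Submodule A N) → x ∈ J ^ j • (⊤ : Submodule A M))
    (hb : ∀ x, b x ∈ J ^ (n + 1) • (⊤ : Submodule A N)) : Function.Injective (a + b) := by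
  rw [injective_iff_map_eq_zero]
  intro x hx
  have key : ∀ j, x ∈ J ^ j • (⊤ : Submodule A M) := by
    intro j
    induction j with
    | zero => rw [pow_zero, Ideal.one_eq_top, Submodule.top_smul]; trivial
    | succ j ih =>
      refine ha (j + 1) x ?_
      have h1 : b x ∈ J ^ (j + (n + 1)) • (⊤ : Submodule A N) := by
        refine Submodule.smul_induction_on ih (fun r hr y _ => ?_) fun y z hy hz => ?_
        · rw [map_smul, pow_add, ← smul_eq_mul, Submodule.smul_assoc]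
          exact Submodule.smul_mem_smul hr (hb y)
        · rw [map_add]; exact Submodule.add_mem _ hy hz
      have h2 : a x = -b x := eq_neg_of_add_eq_zero_left hx
      rw [h2]
      exact Submodule.neg_mem _ (Submodule.smul_mono (Ideal.pow_le_pow_right (by omega)) le_rfl h1)
  have : x ∈ (⨅ j : ℕ, J ^ j • (⊤ : Submodule A M)) := (Submodule.mem_iInf _).2 key
  rwa [hsep, Submodule.mem_bot] at this

variable {𝔛 : FSch.Sys.{u}} (h𝔛 : 𝔛.IsLocNoethFormal)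
include h𝔛

theorem pull_map_add_eq {F G : FSch.ModF 𝔛 h𝔛.1} (θ ψ : F ⟶ G) (k : ℕ)
    (hψ : ψ ≫ (FSch.levelMor 𝔛 h𝔛.1 k).adj.unit.app G = 0) :
    (FSch.levelMor 𝔛 h𝔛.1 k).pull.map (θ + ψ) = (FSch.levelMor 𝔛 h𝔛.1 k).pull.map θ := by
  apply ((FSch.levelMor 𝔛 h𝔛.1 k).adj.homEquiv _ _).injective
  have e : ∀ g : F ⟶ G, (FSch.levelMor 𝔛 h𝔛.1 k).adj.homEquiv _ _ ((FSch.levelMor 𝔛 h𝔛.1 k).pull.map g) =
      g ≫ (FSch.levelMor 𝔛 h𝔛.1 k).adj.unit.app G := fun g => by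
    rw [Adjunction.homEquiv_unit]
    exact ((FSch.levelMor 𝔛 h𝔛.1 k).adj.unit.naturality g).symm
  rw [e, e, Preadditive.add_comp, hψ, add_zero]

theorem comp_unit_zero_of_le {F G : FSch.ModF 𝔛 h𝔛.1} (ψ : F ⟶ G) {m n : ℕ} (hmn : m ≤ n)
    (hψ : ψ ≫ (FSch.levelMor 𝔛 h𝔛.1 n).adj.unit.app G = 0) :
    ψ ≫ (FSch.levelMor 𝔛 h𝔛.1 m).adj.unit.app G = 0 := by
  induction hmn with
  | refl => exact hψ
  | @step n hmn ih =>
    refine ih ?_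
    rw [← unit_toPush 𝔛 h𝔛.1 G n, ← Category.assoc, hψ, zero_comp]

theorem mono_of_sections_cover {F G : FSch.ModF 𝔛 h𝔛.1} (hF : FSch.IsCohF 𝔛 h𝔛.1 F) (hG : FSch.IsCohF 𝔛 h𝔛.1 G)
    (φ : F ⟶ G) {ι : Type*} (U : ι → (𝔛.X 0).Opens) (hU : ∀ i, IsAffineOpen (U i)) (hcov : ∀ x, ∃ i, x ∈ U i)
    (hinj : ∀ i, Function.Injective (RSFin.ap φ (U i))) : Mono φ := by
  let K : FSch.ModF 𝔛 h𝔛.1 := kernel φ
  have hK : FSch.IsCohF 𝔛 h𝔛.1 K := isCohF_kernel h𝔛 hF hG φ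
  refine Preadditive.mono_of_kernel_zero (hom_ext_basis (𝔛.X 0).isBasis_affineOpens fun V _ t => ?_)
  show RSFin.ap (kernel.ι φ) V t = 0
  have h0 : t = 0 := RSFin.eq_zero_of_locally K t fun x hx => by
    obtain ⟨i, hi⟩ := hcov x
    obtain ⟨a, W, hxW, hWV, d⟩ := exists_dist 𝔛 h𝔛.1 (hU i) (inf_le_right : V ⊓ U i ≤ U i) ⟨hx, hi⟩
    refine ⟨W, hWV.trans inf_le_left, hxW, ?_⟩
    haveI := isIso_toReal h𝔛 hK
    have hsub : ∀ y : ML 𝔛 h𝔛.1 (pullSys 𝔛 h𝔛.1 K) (U i), y = 0 := fun y => by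
      have hy : RSFin.ap (toReal 𝔛 h𝔛.1 K) (U i) (RSFin.ap (inv (toReal 𝔛 h𝔛.1 K)) (U i) y) = y := by
        rw [← RSFin.ap_comp, IsIso.inv_hom_id]; rfl
      have hz : RSFin.ap (inv (toReal 𝔛 h𝔛.1 K)) (U i) y = 0 :=
        (RSFin.kernel_sections φ (U i)).1 ((hinj i ((congrArg (fun q => RSFin.ap q (U i) _) (kernel.condition φ)).trans
          (map_zero _).symm)).trans (map_zero _).symm)
      rw [← hy, hz, map_zero]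
    have hspan := span_rs_eq_top h𝔛 (isCoh_pullSys 𝔛 h𝔛.1 K h𝔛 hK) (hU i) d (fun e : Fin 0 => e.elim0)
      (eq_top_iff.2 fun y _ => by rw [hsub y]; exact Submodule.zero_mem _)
    refine RSFin.injective_of_mono (toReal 𝔛 h𝔛.1 K) W ?_
    rw [map_zero]
    have hm : (RSFin.ap (toReal 𝔛 h𝔛.1 K) W (RSFin.rs K (hWV.trans inf_le_left) t) : ML 𝔛 h𝔛.1 _ W) ∈
        Submodule.span (OA 𝔛 h𝔛.1 W) (Set.range fun e : Fin 0 =>
          RSFin.rs ((pullSys 𝔛 h𝔛.1 K).realMod h𝔛.1) d.le (e.elim0 : ModSite.sect ((pullSys 𝔛 h𝔛.1 K).realMod h𝔛.1) (U i))) :=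
      hspan.ge Submodule.mem_top
    rwa [Set.range_eq_empty, Submodule.span_empty, Submodule.mem_bot] at hm
  rw [h0, map_zero]

theorem exists_level_mono_epi [CompactSpace (𝔛.X 0)] {F G : FSch.ModF 𝔛 h𝔛.1} (hF : FSch.IsCohF 𝔛 h𝔛.1 F)
    (hG : FSch.IsCohF 𝔛 h𝔛.1 G) (θ : F ⟶ G) :
    ∃ n : ℕ, ∀ ψ : F ⟶ G, ψ ≫ (FSch.levelMor 𝔛 h𝔛.1 n).adj.unit.app G = 0 →
      (Mono θ → Mono (θ + ψ)) ∧ (Epi θ → Epi (θ + ψ)) := by
  haveI := isIso_toReal h𝔛 hF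
  haveI := isIso_toReal h𝔛 hG
  let ηF := toReal 𝔛 h𝔛.1 F
  let ηG := toReal 𝔛 h𝔛.1 G
  let lin : ∀ (φ : F ⟶ G) (U : (𝔛.X 0).Opens),
      ML 𝔛 h𝔛.1 (pullSys 𝔛 h𝔛.1 F) U →ₗ[OA 𝔛 h𝔛.1 U] ML 𝔛 h𝔛.1 (pullSys 𝔛 h𝔛.1 G) U :=
    fun φ U => RSFin.ap (inv ηF ≫ φ ≫ ηG) U
  obtain ⟨S, hS⟩ := isCompact_univ.elim_finite_subcover (fun U : (𝔛.X 0).affineOpens => (U.1 : Set (𝔛.X 0)))
    (fun U => U.1.isOpen) (fun x _ => by
      obtain ⟨U, hU, hxU, -⟩ := exists_isAffineOpen_mem_and_subset (X := 𝔛.X 0) (x := x) (U := ⊤) trivial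
      exact Set.mem_iUnion.2 ⟨⟨U, hU⟩, hxU⟩)
  have hk : ∀ U : (𝔛.X 0).affineOpens, ∃ k, Mono θ → ∀ j x, lin θ U.1 x ∈ JA 𝔛 h𝔛.1 U.1 ^ (j + k) • (⊤ : Submodule (OA 𝔛 h𝔛.1 U.1) _) →
      x ∈ JA 𝔛 h𝔛.1 U.1 ^ j • (⊤ : Submodule (OA 𝔛 h𝔛.1 U.1) _) := fun U => by
    by_cases hm : Mono θ
    · haveI := (main 𝔛 h𝔛.1 h𝔛 U.2).1
      haveI := (main_mod 𝔛 h𝔛.1 (pullSys 𝔛 h𝔛.1 G) h𝔛 (isCoh_pullSys 𝔛 h𝔛.1 G h𝔛 hG) U.2).1
      obtain ⟨k, hk⟩ := exists_ar (JA 𝔛 h𝔛.1 U.1) (lin θ U.1) (RSFin.injective_of_mono (inv ηF ≫ θ ≫ ηG) U.1)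
      exact ⟨k, fun _ => hk⟩
    · exact ⟨0, fun h => absurd h hm⟩
  choose k hk using hk
  refine ⟨S.sup k, fun ψ hψ => ⟨fun hm => ?_, fun he => ?_⟩⟩
  · refine mono_of_sections_cover h𝔛 hF hG (θ + ψ) (fun U : S => U.1.1) (fun U => U.1.2) (fun x => ?_) fun U => ?_
    · obtain ⟨U, hU, hx⟩ := Set.mem_iUnion₂.1 (hS (Set.mem_univ x))
      exact ⟨⟨U, hU⟩, hx⟩
    · haveI := (main 𝔛 h𝔛.1 h𝔛 U.1.2).1
      obtain ⟨hfin, -, -⟩ := main_mod 𝔛 h𝔛.1 (pullSys 𝔛 h𝔛.1 F) h𝔛 (isCoh_pullSys 𝔛 h𝔛.1 F h𝔛 hF) U.1.2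
      haveI := hfin
      have hb : ∀ x, lin ψ U.1.1 x ∈ JA 𝔛 h𝔛.1 U.1.1 ^ (S.sup k + 1) • (⊤ : Submodule (OA 𝔛 h𝔛.1 U.1.1) _) := fun x => by
        rw [← (main_mod 𝔛 h𝔛.1 (pullSys 𝔛 h𝔛.1 G) h𝔛 (isCoh_pullSys 𝔛 h𝔛.1 G h𝔛 hG) U.1.2).2.2, LinearMap.mem_ker]
        refine (projM_toReal (F := G) (S.sup k) U.1.1 (RSFin.ap ψ U.1.1 (RSFin.ap (inv ηF) U.1.1 x))).trans ?_
        exact congrArg (fun q => RSFin.ap q U.1.1 (RSFin.ap (inv ηF) U.1.1 x)) hψ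
      have hinj := injective_add (JA 𝔛 h𝔛.1 U.1.1)
        (Ideal.iInf_pow_smul_eq_bot_of_le_jacobson _ (JA_le_jacobson h𝔛 U.1.2)) (lin θ U.1.1) (lin ψ U.1.1)
        (Finset.le_sup U.2) (hk U.1 hm) hb
      intro x y hxy
      refine RSFin.injective_of_mono ηF U.1.1 (hinj ?_)
      have e : ∀ z, (lin θ U.1.1 + lin ψ U.1.1) (RSFin.ap ηF U.1.1 z) = RSFin.ap ηG U.1.1 (RSFin.ap (θ + ψ) U.1.1 z) := fun z => by
        have h1 : ∀ φ : F ⟶ G, lin φ U.1.1 (RSFin.ap ηF U.1.1 z) = RSFin.ap ηG U.1.1 (RSFin.ap φ U.1.1 z) := fun φ => by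
          show RSFin.ap (ηF ≫ inv ηF ≫ φ ≫ ηG) U.1.1 z = _
          rw [IsIso.hom_inv_id_assoc]
          rfl
        rw [LinearMap.add_apply, h1, h1, ← map_add]
        rfl
      rw [e, e, hxy]
  · haveI : Epi ((FSch.levelMor 𝔛 h𝔛.1 0).pull.map (θ + ψ)) := by
      rw [pull_map_add_eq h𝔛 θ ψ 0 (comp_unit_zero_of_le h𝔛 ψ (Nat.zero_le _) hψ)]
      haveI := (FSch.levelMor 𝔛 h𝔛.1 0).adj.leftAdjoint_preservesColimits
      infer_instance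
    exact epi_of_epi_pull_zero h𝔛 hF hG (θ + ψ)

end Groth.Agent.FSchCoh
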