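import Groth.Prelude.Def_FSch6
import Groth.Agent.FSchCoh.Compare

/-!
# Inverse image of the module of a coherent system
-/

universe u

open CategoryTheory CategoryTheory.Limits AlgebraicGeometry TopologicalSpace Opposite

set_option autoImplicit false
set_option backward.isDefEq.respectTransparency false
set_option linter.style.haveILetI false

noncomputable section

namespace Groth.Agent.FSchCoh

theorem app_inv_map_pullSect {X Y Y' : Scheme.{u}} (f : X ⟶ Y) (j : Y ⟶ Y') (M : Y'.Modules) (N : Y.Modules)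
    (ε : (Scheme.Modules.pullback j).obj M ⟶ N) (B : Y'.Opens) (y : Γ(M, B)) :
    ((Scheme.Modules.pullbackComp f j).inv.app M ≫ (Scheme.Modules.pullback f).map ε).app (f ⁻¹ᵁ (j ⁻¹ᵁ B))
        (OmegaSh.pullSect (f ≫ j) M B y) =
      OmegaSh.pullSect f N (j ⁻¹ᵁ B) (ε.app _ (OmegaSh.pullSect j M B y)) := by
  rw [← QC.pullbackComp_hom_pullSect f j M B y]
  refine Eq.trans ?_ (QC.app_pullSect f ε _ _)
  exact congrArg (((Scheme.Modules.pullback f).map ε).app _)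
    (congr(($((Scheme.Modules.pullbackComp f j).hom_inv_id_app M)).app (f ⁻¹ᵁ (j ⁻¹ᵁ B)) _))

theorem pullSect_square {X X' Y Y' : Scheme.{u}} (i : X ⟶ X') (f' : X' ⟶ Y') (f : X ⟶ Y) (j : Y ⟶ Y')
    (e : i ≫ f' = f ≫ j) (M : Y'.Modules) (N : Y.Modules) (ε : (Scheme.Modules.pullback j).obj M ⟶ N)
    (B : Y'.Opens) (A : X'.Opens) (hA : A ≤ f' ⁻¹ᵁ B) (D : Y.Opens) (hD : D ≤ j ⁻¹ᵁ B) (C : X.Opens)
    (hC : C ≤ i ⁻¹ᵁ A) (hC' : C ≤ f ⁻¹ᵁ D) (y : Γ(M, B)) :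
    ((Scheme.Modules.pullback f).obj N).presheaf.map (homOfLE hC).op
      (((Scheme.Modules.pullback f).map ε).app (i ⁻¹ᵁ A)
        (((Scheme.Modules.pullbackComp f j).inv.app M).app (i ⁻¹ᵁ A)
          (((Scheme.Modules.pullbackCongr e).hom.app M).app (i ⁻¹ᵁ A)
            (((Scheme.Modules.pullbackComp i f').hom.app M).app (i ⁻¹ᵁ A)
              (OmegaSh.pullSect i _ A (((Scheme.Modules.pullback f').obj M).presheaf.map (homOfLE hA).op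
                (OmegaSh.pullSect f' M B y))))))) =
      ((Scheme.Modules.pullback f).obj N).presheaf.map (homOfLE hC').op
        (OmegaSh.pullSect f N D (N.presheaf.map (homOfLE hD).op (ε.app _ (OmegaSh.pullSect j M B y)))) := by
  let Ψ' := (Scheme.Modules.pullbackComp f j).inv.app M ≫ (Scheme.Modules.pullback f).map ε
  let Ψ : (Scheme.Modules.pullback i).obj ((Scheme.Modules.pullback f').obj M) ⟶ (Scheme.Modules.pullback f).obj N :=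
    (Scheme.Modules.pullbackComp i f').hom.app M ≫ (Scheme.Modules.pullbackCongr e).hom.app M ≫ Ψ'
  have hle : i ⁻¹ᵁ (f' ⁻¹ᵁ B) ≤ f ⁻¹ᵁ (j ⁻¹ᵁ B) := by
    show (i ≫ f') ⁻¹ᵁ B ≤ (f ≫ j) ⁻¹ᵁ B
    rw [e]
  have key : Ψ.app (i ⁻¹ᵁ (f' ⁻¹ᵁ B)) (OmegaSh.pullSect i _ _ (OmegaSh.pullSect f' M B y)) =
      QC.res _ hle (OmegaSh.pullSect f N (j ⁻¹ᵁ B) (ε.app _ (OmegaSh.pullSect j M B y))) := by
    refine (congrArg (fun z => Ψ'.app (i ⁻¹ᵁ (f' ⁻¹ᵁ B)) (((Scheme.Modules.pullbackCongr e).hom.app M).app _ z))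
      (QC.pullbackComp_hom_pullSect i f' M B y)).trans ?_
    refine (congrArg (Ψ'.app _) (QC.pullbackCongr_hom_pullSect e M B y)).trans ?_
    refine (QC.app_res Ψ' hle (OmegaSh.pullSect (f ≫ j) M B y)).symm.trans ?_
    exact congrArg _ (app_inv_map_pullSect f j M N ε B y)
  rw [OmegaSh.pullSect_map, OmegaSh.pullSect_map]
  change QC.res _ hC (Ψ.app (i ⁻¹ᵁ A) (QC.res _ (i.preimage_mono hA) _)) = QC.res _ hC' (QC.res _ _ _)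
  rw [QC.res_res, ← QC.app_res Ψ, key, QC.res_res, QC.res_res]

variable {𝔛 𝔜 : FSch.Sys.{u}} (φ : 𝔛 ⟶ 𝔜) (hX : 𝔛.IsFormal) (hY : 𝔜.IsFormal) (𝔐 : FSch.ModSys 𝔜)

theorem lvPushSq_inv_apply (k : ℕ) (G : (𝔛.X k).Modules) (V : (𝔜.X 0).Opens)
    (y : Γ(G, (φ : FSch.Hom 𝔛 𝔜).app k ⁻¹ᵁ 𝔜.lvU hY k V)) :
    app ((FSch.lvPushSq φ hX hY k).inv.app G) V y =
      G.presheaf.map (homOfLE (FSch.Hom.lvU_preimage φ hX hY k V).ge).op y := rfl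

/-- the component of the comparison, transposed -/
def pfD (k : ℕ) : 𝔐.realMod hY ⟶
    (FSch.pushF φ hX hY).obj ((FSch.levelMor 𝔛 hX k).push.obj ((FSch.ModSys.pullback φ 𝔐).F k)) :=
  FSch.realProj 𝔜 hY 𝔐.F 𝔐.toPush k ≫
    (FSch.levelMor 𝔜 hY k).push.map
      ((ModSite.RMor.ofScheme ((φ : FSch.Hom 𝔛 𝔜).app k)).adj.unit.app (𝔐.F k)) ≫
    (FSch.lvPushSq φ hX hY k).inv.app ((FSch.ModSys.pullback φ 𝔐).F k)

theorem pfD_apply (k : ℕ) (V : (𝔜.X 0).Opens) (x : ML 𝔜 hY 𝔐 V) :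
    app (pfD φ hX hY 𝔐 k) V x = ((FSch.ModSys.pullback φ 𝔐).F k).presheaf.map
      (homOfLE (FSch.Hom.lvU_preimage φ hX hY k V).ge).op
      (OmegaSh.pullSect ((φ : FSch.Hom 𝔛 𝔜).app k) (𝔐.F k) (𝔜.lvU hY k V) (projM 𝔜 hY 𝔐 V k x)) := rfl

theorem pfD_trans (k : ℕ) :
    pfD φ hX hY 𝔐 (k + 1) ≫ (FSch.pushF φ hX hY).map ((FSch.levelMor 𝔛 hX (k + 1)).push.map
      ((FSch.ModSys.pullback φ 𝔐).toPush k) ≫ (FSch.pushCompare 𝔛 hX k).app _) = pfD φ hX hY 𝔐 k := by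
  refine hom_ext_basis (Opens.isBasis_iff_nbhd.2 fun {U x} hx => ⟨U, trivial, hx, le_rfl⟩ :
    Opens.IsBasis (Set.univ : Set (𝔜.X 0).Opens)) fun V _ x => ?_
  show transM 𝔛 hX (FSch.ModSys.pullback φ 𝔐) ((φ : FSch.Hom 𝔛 𝔜).app 0 ⁻¹ᵁ V) k (app (pfD φ hX hY 𝔐 (k + 1)) V x) = _
  rw [pfD_apply, pfD_apply, transM_apply, ← transM_projM 𝔜 hY 𝔐 V k x, transM_apply, FSch.ModSys.pullback_e]
  exact pullSect_square (𝔛.ι k) ((φ : FSch.Hom 𝔛 𝔜).app (k + 1)) ((φ : FSch.Hom 𝔛 𝔜).app k) (𝔜.ι k)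
    ((φ : FSch.Hom 𝔛 𝔜).comm k).symm (𝔐.F (k + 1)) (𝔐.F k) (𝔐.e k).hom (𝔜.lvU hY (k + 1) V)
    (𝔛.lvU hX (k + 1) ((φ : FSch.Hom 𝔛 𝔜).app 0 ⁻¹ᵁ V)) (FSch.Hom.lvU_preimage φ hX hY (k + 1) V).ge
    (𝔜.lvU hY k V) (𝔜.lvU_le hY k V) (𝔛.lvU hX k ((φ : FSch.Hom 𝔛 𝔜).app 0 ⁻¹ᵁ V))
    (𝔛.lvU_le hX k _) (FSch.Hom.lvU_preimage φ hX hY k V).ge (projM 𝔜 hY 𝔐 V (k + 1) x)

/-- the comparison map -/
def pullCmp : (FSch.pullF φ hX hY).obj (𝔐.realMod hY) ⟶ (FSch.ModSys.pullback φ 𝔐).realMod hX :=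
  limit.lift (FSch.levelSysOf 𝔛 hX (FSch.ModSys.pullback φ 𝔐).F (FSch.ModSys.pullback φ 𝔐).toPush)
    { pt := (FSch.pullF φ hX hY).obj (𝔐.realMod hY)
      π := NatTrans.ofOpSequence (fun k => ((FSch.homMor φ hX hY).adj.homEquiv _ _).symm (pfD φ hX hY 𝔐 k))
        fun k => by
          rw [FSch.levelSysOf_map_succ, Functor.const_obj_map]
          refine (Category.id_comp _).trans ?_
          rw [← Adjunction.homEquiv_naturality_right_symm]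
          exact congrArg _ (pfD_trans φ hX hY 𝔐 k).symm }

theorem pullCmp_proj (k : ℕ) :
    pullCmp φ hX hY 𝔐 ≫ FSch.realProj 𝔛 hX _ _ k =
      ((FSch.homMor φ hX hY).adj.homEquiv _ _).symm (pfD φ hX hY 𝔐 k) :=
  limit.lift_π _ (op k)

theorem pullCmp_spec (k : ℕ) :
    (FSch.homMor φ hX hY).adj.homEquiv _ _ (pullCmp φ hX hY 𝔐) ≫
        (FSch.pushF φ hX hY).map (FSch.realProj 𝔛 hX _ _ k) ≫
        (FSch.lvPushSq φ hX hY k).hom.app ((FSch.ModSys.pullback φ 𝔐).F k) =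
      FSch.realProj 𝔜 hY _ _ k ≫ (FSch.levelMor 𝔜 hY k).push.map
        ((ModSite.RMor.ofScheme ((φ : FSch.Hom 𝔛 𝔜).app k)).adj.unit.app (𝔐.F k)) := by
  rw [← Category.assoc]
  have h1 : (FSch.homMor φ hX hY).adj.homEquiv _ _ (pullCmp φ hX hY 𝔐) ≫
      (FSch.pushF φ hX hY).map (FSch.realProj 𝔛 hX _ _ k) = pfD φ hX hY 𝔐 k := by
    refine ((FSch.homMor φ hX hY).adj.homEquiv_naturality_right _ _).symm.trans ?_
    exact (congrArg _ (pullCmp_proj φ hX hY 𝔐 k)).trans (Equiv.apply_symm_apply _ _)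
  rw [h1, pfD, Category.assoc, Category.assoc, Iso.inv_hom_id_app]
  exact congrArg _ (Category.comp_id _)

variable (h𝔛 : 𝔛.IsLocNoethFormal) (h𝔜 : 𝔜.IsLocNoethFormal) (hM : 𝔐.IsCoh)
include h𝔛 h𝔜 hM

theorem isIso_pullCmp : IsIso (pullCmp φ h𝔛.1 h𝔜.1 𝔐) := by
  have hP : FSch.IsCohF 𝔛 h𝔛.1 ((FSch.pullF φ h𝔛.1 h𝔜.1).obj (𝔐.realMod h𝔜.1)) :=
    @PullFlat.isFinitePresentation_pull _ _ _ _ _ _ _ _ (FSch.homMor φ h𝔛.1 h𝔜.1) (𝔐.realMod h𝔜.1)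
      (isCohF_realMod h𝔜 hM)
  have hN : (FSch.ModSys.pullback φ 𝔐).IsCoh := fun k => by
    haveI : IsLocallyNoetherian (𝔜.X k) := h𝔜.2.2 k
    haveI : SheafOfModules.IsFinitePresentation (R := ModSite.ringSh (𝔜.X k).sheaf) (𝔐.F k) := by
      haveI := (hM k).1
      exact QC.isFP_of_isQCoh_of_isFT (hM k).2
    haveI : SheafOfModules.IsFinitePresentation (R := ModSite.ringSh (𝔛.X k).sheaf)
        ((Scheme.Modules.pullback ((φ : FSch.Hom 𝔛 𝔜).app k)).obj (𝔐.F k)) :=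
      @PullFlat.isFinitePresentation_pull _ _ _ _ _ _ _ _ (ModSite.RMor.ofScheme ((φ : FSch.Hom 𝔛 𝔜).app k)) (𝔐.F k) ‹_›
    exact ⟨(inferInstance : SheafOfModules.IsQuasicoherent (R := ModSite.ringSh (𝔛.X k).sheaf)
        ((Scheme.Modules.pullback ((φ : FSch.Hom 𝔛 𝔜).app k)).obj (𝔐.F k))),
      (inferInstance : SheafOfModules.IsFiniteType (R := ModSite.ringSh (𝔛.X k).sheaf)
        ((Scheme.Modules.pullback ((φ : FSch.Hom 𝔛 𝔜).app k)).obj (𝔐.F k)))⟩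
  refine isIso_of_levels h𝔛 _ hP (isCohF_realMod h𝔛 hN) fun k => ?_
  haveI := isIso_pullProj 𝔜 h𝔜.1 𝔐 h𝔜 hM k
  let p := ((FSch.levelMor 𝔜 h𝔜.1 k).adj.homEquiv _ _).symm (FSch.realProj 𝔜 h𝔜.1 𝔐.F 𝔐.toPush k)
  let ê : (FSch.levelMor 𝔛 h𝔛.1 k).pull.obj ((FSch.pullF φ h𝔛.1 h𝔜.1).obj (𝔐.realMod h𝔜.1)) ⟶
      (FSch.ModSys.pullback φ 𝔐).F k :=
    (FSch.lvPullSq φ h𝔛.1 h𝔜.1 k).inv.app (𝔐.realMod h𝔜.1) ≫
      (ModSite.RMor.ofScheme ((φ : FSch.Hom 𝔛 𝔜).app k)).pull.map p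
  have e1 : ((FSch.levelMor 𝔛 h𝔛.1 k).adj.homEquiv _ _).symm
      (((FSch.homMor φ h𝔛.1 h𝔜.1).adj.homEquiv _ _).symm (pfD φ h𝔛.1 h𝔜.1 𝔐 k)) = ê := by
    rw [Equiv.symm_apply_eq, Equiv.symm_apply_eq]
    let A := (FSch.homMor φ h𝔛.1 h𝔜.1).adj.comp (FSch.levelMor 𝔛 h𝔛.1 k).adj
    let B := (FSch.levelMor 𝔜 h𝔜.1 k).adj.comp (ModSite.RMor.ofScheme ((φ : FSch.Hom 𝔛 𝔜).app k)).adj
    have hsq := unit_conjugateEquiv_symm A B (FSch.lvPushSq φ h𝔛.1 h𝔜.1 k).hom (𝔐.realMod h𝔜.1)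
    have hA : ∀ (g : _ ⟶ (FSch.ModSys.pullback φ 𝔐).F k),
        (FSch.homMor φ h𝔛.1 h𝔜.1).adj.homEquiv _ _ ((FSch.levelMor 𝔛 h𝔛.1 k).adj.homEquiv _ _ g) =
          A.homEquiv (𝔐.realMod h𝔜.1) _ g := fun g => by
      simp only [A, Adjunction.comp_homEquiv]
      rfl
    rw [hA, ← cancel_mono ((FSch.lvPushSq φ h𝔛.1 h𝔜.1 k).hom.app _), pfD, Category.assoc, Category.assoc,
      Iso.inv_hom_id_app]
    rw [Adjunction.homEquiv_unit, Category.assoc]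
    refine Eq.trans ?_ (congrArg (fun t => A.unit.app (𝔐.realMod h𝔜.1) ≫ t)
      ((FSch.lvPushSq φ h𝔛.1 h𝔜.1 k).hom.naturality ê)).symm
    rw [← Category.assoc (A.unit.app _)]
    refine Eq.trans ?_ (congrArg (fun t => t ≫ _) hsq).symm
    rw [Category.assoc]
    simp only [Functor.comp_map, ← Functor.map_comp]
    rw [show (((conjugateEquiv A B).symm (FSch.lvPushSq φ h𝔛.1 h𝔜.1 k).hom).app (𝔐.realMod h𝔜.1)) ≫ ê =
      (ModSite.RMor.ofScheme ((φ : FSch.Hom 𝔛 𝔜).app k)).pull.map p from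
        ((FSch.lvPullSq φ h𝔛.1 h𝔜.1 k).hom_inv_id_app_assoc _ _)]
    refine Eq.trans ?_ (B.homEquiv_unit _ _ ((ModSite.RMor.ofScheme ((φ : FSch.Hom 𝔛 𝔜).app k)).pull.map p))
    have hc : (ModSite.RMor.ofScheme ((φ : FSch.Hom 𝔛 𝔜).app k)).adj.homEquiv _ _
        ((ModSite.RMor.ofScheme ((φ : FSch.Hom 𝔛 𝔜).app k)).pull.map p) =
        p ≫ (ModSite.RMor.ofScheme ((φ : FSch.Hom 𝔛 𝔜).app k)).adj.unit.app (𝔐.F k) := by
      rw [Adjunction.homEquiv_unit]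
      exact ((ModSite.RMor.ofScheme ((φ : FSch.Hom 𝔛 𝔜).app k)).adj.unit.naturality p).symm
    refine Eq.trans ?_ (congrArg ((FSch.levelMor 𝔜 h𝔜.1 k).adj.homEquiv _ _) hc).symm |>.trans ?_
    · rw [Adjunction.homEquiv_naturality_right, Equiv.apply_symm_apply]
      exact congrArg _ (Category.comp_id _)
    · simp only [B, Adjunction.comp_homEquiv]
      rfl
  have e2 : (FSch.levelMor 𝔛 h𝔛.1 k).pull.map (pullCmp φ h𝔛.1 h𝔜.1 𝔐) ≫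
      ((FSch.levelMor 𝔛 h𝔛.1 k).adj.homEquiv _ _).symm
        (FSch.realProj 𝔛 h𝔛.1 (FSch.ModSys.pullback φ 𝔐).F (FSch.ModSys.pullback φ 𝔐).toPush k) = ê := by
    rw [← Adjunction.homEquiv_naturality_left_symm, pullCmp_proj, e1]
  haveI : IsIso ê := by infer_instance
  exact @IsIso.of_isIso_comp_right _ _ _ _ _ _ (((FSch.levelMor 𝔛 h𝔛.1 k).adj.homEquiv _ _).symm
    (FSch.realProj 𝔛 h𝔛.1 (FSch.ModSys.pullback φ 𝔐).F (FSch.ModSys.pullback φ 𝔐).toPush k))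
    (isIso_pullProj 𝔛 h𝔛.1 (FSch.ModSys.pullback φ 𝔐) h𝔛 hN k) (e2 ▸ ‹IsIso ê›)

end Groth.Agent.FSchCoh
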