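import Groth.Agent.FSchCoh.PullF
import Groth.Agent.FSchCoh.Coh
import Groth.Agent.FSchCoh.Free
import Groth.Agent.W7AffBC.Basic
import Groth.Agent.ThickSys.Desc
import Groth.Agent.QC.Localisation

/-!
# Direct images of coherent modules along affine and finite adic morphisms of formal schemes
-/

universe u

open CategoryTheory CategoryTheory.Limits AlgebraicGeometry TopologicalSpace Opposite

set_option autoImplicit false
set_option backward.isDefEq.respectTransparency false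
set_option linter.style.haveILetI false

noncomputable section

namespace Groth.Agent.FSchCoh

variable {𝔛 𝔜 : FSch.Sys.{u}} (φ : 𝔛 ⟶ 𝔜)

/-- every level of a finite morphism of locally noetherian formal schemes is finite -/
theorem isFinite_app (h𝔜 : 𝔜.IsLocNoethFormal) (hφ : FSch.IsFiniteHom φ) :
    ∀ k, IsFinite ((φ : FSch.Hom 𝔛 𝔜).app k)
  | 0 => hφ.2
  | k + 1 => by
    haveI := isFinite_app h𝔜 hφ k
    haveI := (h𝔜.1 k).1
    haveI : Surjective (𝔜.ι k) := ⟨(h𝔜.1 k).2⟩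
    haveI := h𝔜.2.2 (k + 1)
    exact ThickSys.isFinite_of_thickening (hφ.1 k)

section affine

variable (ha : FSch.IsAdicHom φ) (haff : ∀ k, IsAffineHom ((φ : FSch.Hom 𝔛 𝔜).app k))
  (𝔐 : FSch.ModSys 𝔛) (hQ : ∀ k, Coh.IsQCoh (𝔐.F k))

/-- the system of direct images -/
def pushSys : FSch.ModSys 𝔜 where
  F k := (Scheme.Modules.pushforward ((φ : FSch.Hom 𝔛 𝔜).app k)).obj (𝔐.F k)
  e k :=
    haveI := haff (k + 1)
    haveI := W7AffBC.isIso_baseChange (ha k) (𝔐.F (k + 1)) (hQ (k + 1))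
    asIso (((Scheme.Modules.pullbackPushforwardAdjunction (𝔜.ι k)).homEquiv _ _).symm
      (W7AffBC.theta (ha k) (𝔐.F (k + 1)))) ≪≫
      (Scheme.Modules.pushforward ((φ : FSch.Hom 𝔛 𝔜).app k)).mapIso (𝔐.e k)

theorem pushSys_toPush (k : ℕ) :
    (pushSys φ ha haff 𝔐 hQ).toPush k = W7AffBC.theta (ha k) (𝔐.F (k + 1)) ≫
      (Scheme.Modules.pushforward (𝔜.ι k)).map
        ((Scheme.Modules.pushforward ((φ : FSch.Hom 𝔛 𝔜).app k)).map (𝔐.e k).hom) := by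
  refine ((Scheme.Modules.pullbackPushforwardAdjunction (𝔜.ι k)).homEquiv_naturality_right _ _).trans ?_
  exact congrArg (fun t => t ≫ _) (Equiv.apply_symm_apply _ _)

variable (hX : 𝔛.IsFormal) (hY : 𝔜.IsFormal)

theorem lvPushSq_hom_apply (k : ℕ) (G : (𝔛.X k).Modules) (V : (𝔜.X 0).Opens)
    (y : Γ(G, 𝔛.lvU hX k ((φ : FSch.Hom 𝔛 𝔜).app 0 ⁻¹ᵁ V))) :
    app ((FSch.lvPushSq φ hX hY k).hom.app G) V y =
      G.presheaf.map (homOfLE (FSch.Hom.lvU_preimage φ hX hY k V).le).op y := rfl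

theorem pushLvl_square (k : ℕ) :
    (FSch.pushF φ hX hY).map ((FSch.levelMor 𝔛 hX (k + 1)).push.map (𝔐.toPush k) ≫
        (FSch.pushCompare 𝔛 hX k).app (𝔐.F k)) ≫ (FSch.lvPushSq φ hX hY k).hom.app (𝔐.F k) =
      (FSch.lvPushSq φ hX hY (k + 1)).hom.app (𝔐.F (k + 1)) ≫
        (FSch.levelMor 𝔜 hY (k + 1)).push.map ((pushSys φ ha haff 𝔐 hQ).toPush k) ≫
          (FSch.pushCompare 𝔜 hY k).app _ := by
  refine hom_ext_basis (Opens.isBasis_iff_nbhd.2 fun {U x} hx => ⟨U, trivial, hx, le_rfl⟩ :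
    Opens.IsBasis (Set.univ : Set (𝔜.X 0).Opens)) fun V _ y => ?_
  have eA : 𝔛.lvU hX k ((φ : FSch.Hom 𝔛 𝔜).app 0 ⁻¹ᵁ V) ≤
      𝔛.ι k ⁻¹ᵁ 𝔛.lvU hX (k + 1) ((φ : FSch.Hom 𝔛 𝔜).app 0 ⁻¹ᵁ V) := 𝔛.lvU_le hX k _
  have e1 := (FSch.Hom.lvU_preimage φ hX hY k V).le
  have e2 := (FSch.Hom.lvU_preimage φ hX hY (k + 1) V).le
  have eB : (φ : FSch.Hom 𝔛 𝔜).app k ⁻¹ᵁ (𝔜.ι k ⁻¹ᵁ 𝔜.lvU hY (k + 1) V) ≤
      𝔛.ι k ⁻¹ᵁ ((φ : FSch.Hom 𝔛 𝔜).app (k + 1) ⁻¹ᵁ 𝔜.lvU hY (k + 1) V) := by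
    rw [← Scheme.Hom.comp_preimage, ← Scheme.Hom.comp_preimage]
    exact le_of_eq (congrArg (fun t => t ⁻¹ᵁ 𝔜.lvU hY (k + 1) V) ((φ : FSch.Hom 𝔛 𝔜).comm k))
  show (𝔐.F k).presheaf.map (homOfLE e1).op
      (transM 𝔛 hX 𝔐 ((φ : FSch.Hom 𝔛 𝔜).app 0 ⁻¹ᵁ V) k y) =
    (𝔐.F k).presheaf.map ((Opens.map ((φ : FSch.Hom 𝔛 𝔜).app k).base).map (homOfLE (𝔜.lvU_le hY k V))).op
      (((pushSys φ ha haff 𝔐 hQ).toPush k).app (𝔜.lvU hY (k + 1) V)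
        ((𝔐.F (k + 1)).presheaf.map (homOfLE e2).op y))
  rw [transM_apply, pushSys_toPush]
  show QC.res _ e1 (QC.res _ eA ((𝔐.e k).hom.app _ (OmegaSh.pullSect (𝔛.ι k) _ _ y))) =
    QC.res _ (((φ : FSch.Hom 𝔛 𝔜).app k).preimage_mono (𝔜.lvU_le hY k V))
      ((𝔐.e k).hom.app _ ((W7AffBC.theta (ha k) (𝔐.F (k + 1))).app _ (QC.res _ e2 y)))
  rw [W7AffBC.theta_app (ha k) _ _ _ eB]
  show _ = QC.res _ _ ((𝔐.e k).hom.app _ (QC.res _ eB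
    (OmegaSh.pullSect (𝔛.ι k) _ _ ((𝔐.F (k + 1)).presheaf.map (homOfLE e2).op y))))
  rw [OmegaSh.pullSect_map]
  show _ = QC.res _ _ ((𝔐.e k).hom.app _ (QC.res _ eB
    (QC.res _ ((𝔛.ι k).preimage_mono e2) (OmegaSh.pullSect (𝔛.ι k) _ _ y))))
  rw [QC.res_res, QC.res_res, QC.app_res, QC.app_res, QC.res_res]

/-- the direct image of the module of a system is the module of the system of direct images -/
def pushCmp : (FSch.pushF φ hX hY).obj (𝔐.realMod hX) ≅ (pushSys φ ha haff 𝔐 hQ).realMod hY :=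
  haveI : (FSch.pushF φ hX hY).IsRightAdjoint := (FSch.homMor φ hX hY).adj.isRightAdjoint
  preservesLimitIso (FSch.pushF φ hX hY) (FSch.levelSysOf 𝔛 hX 𝔐.F 𝔐.toPush) ≪≫
    HasLimit.isoOfNatIso (NatIso.ofComponents
      (fun j => (FSch.lvPushSq φ hX hY j.unop).app (𝔐.F j.unop))
      (fun {i j} g => (NatTrans.ofOpSequence
        (F := FSch.levelSysOf 𝔛 hX 𝔐.F 𝔐.toPush ⋙ FSch.pushF φ hX hY)
        (G := FSch.levelSysOf 𝔜 hY (pushSys φ ha haff 𝔐 hQ).F (pushSys φ ha haff 𝔐 hQ).toPush)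
        (fun k => (FSch.lvPushSq φ hX hY k).hom.app (𝔐.F k)) fun k => by
          rw [Functor.comp_map, FSch.levelSysOf_map_succ, FSch.levelSysOf_map_succ]
          exact pushLvl_square φ ha haff 𝔐 hQ hX hY k).naturality g))

end affine

section finite

variable (h𝔛 : 𝔛.IsLocNoethFormal) (h𝔜 : 𝔜.IsLocNoethFormal) (hφ : FSch.IsFiniteHom φ)

include hφ in
/-- the direct image of a coherent module along a finite morphism is coherent -/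
theorem isCohF_pushF (F : FSch.ModF 𝔛 h𝔛.1) (hF : FSch.IsCohF 𝔛 h𝔛.1 F) :
    FSch.IsCohF 𝔜 h𝔜.1 ((FSch.pushF φ h𝔛.1 h𝔜.1).obj F) := by
  have hfin := isFinite_app φ h𝔜 hφ
  have hM := isCoh_pullSys 𝔛 h𝔛.1 F h𝔛 hF
  have haff : ∀ k, IsAffineHom ((φ : FSch.Hom 𝔛 𝔜).app k) := fun k => by haveI := hfin k; infer_instance
  let 𝔑 := pushSys φ hφ.1 haff (pullSys 𝔛 h𝔛.1 F) fun k => (hM k).1
  have hN : 𝔑.IsCoh := fun k => by
    haveI := hfin k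
    haveI : ((pullSys 𝔛 h𝔛.1 F).F k).IsQuasicoherent := (hM k).1
    exact QC.isCoh_pushforward_of_isFinite ((φ : FSch.Hom 𝔛 𝔜).app k) (hM k).2
  haveI := isIso_toReal h𝔛 hF
  let e : (FSch.pushF φ h𝔛.1 h𝔜.1).obj F ≅ 𝔑.realMod h𝔜.1 :=
    (FSch.pushF φ h𝔛.1 h𝔜.1).mapIso (asIso (toReal 𝔛 h𝔛.1 F)) ≪≫ pushCmp φ hφ.1 haff _ _ h𝔛.1 h𝔜.1
  exact ObjectProperty.prop_of_iso
    (SheafOfModules.isFinitePresentation (ModSite.ringSh (𝔜.Osh h𝔜.1))) e.symm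
    (isCohF_realMod h𝔜 hN)

end finite

end Groth.Agent.FSchCoh
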