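import Groth.Agent.FSchCoh.QCU
import Groth.Prelude.Def_FTors2

/-!
# Quasi-coherent torsion modules on a formal scheme
-/

universe u

open CategoryTheory CategoryTheory.Limits AlgebraicGeometry TopologicalSpace Opposite
open Groth.Agent.RSFin (sc rsR Gen Rel spanOn)

set_option autoImplicit false
set_option backward.isDefEq.respectTransparency false
set_option linter.style.haveILetI false

noncomputable section

namespace Groth.Agent.FSchCoh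

variable {𝔛 : FSch.Sys.{u}} (h𝔛 : 𝔛.IsLocNoethFormal)

/-- `b • t = 0` for all `b` in the `(n+1)`-st power of the ideal of definition -/
def Kills (F : FSch.ModF 𝔛 h𝔛.1) (U : (𝔛.X 0).Opens) (n : ℕ) (t : ModSite.sect F U) : Prop :=
  ∀ b ∈ JA 𝔛 h𝔛.1 U ^ (n + 1), (show sc (𝔛.Osh h𝔛.1) U from b) • t = 0

/-- every section over an affine open is killed by a power of the ideal of definition -/
def TorsAff (F : FSch.ModF 𝔛 h𝔛.1) : Prop :=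
  ∀ ⦃U : (𝔛.X 0).Opens⦄, IsAffineOpen U → ∀ t : ModSite.sect F U, ∃ n, Kills h𝔛 F U n t

variable {F : FSch.ModF 𝔛 h𝔛.1}

theorem Kills.mono {U : (𝔛.X 0).Opens} {n m : ℕ} (e : n ≤ m) {t : ModSite.sect F U} (h : Kills h𝔛 F U n t) :
    Kills h𝔛 F U m t := fun b hb => h b (Ideal.pow_le_pow_right (Nat.succ_le_succ e) hb)

theorem exists_uniform {U : (𝔛.X 0).Opens} {ι : Type*} [Fintype ι] (t : ι → ModSite.sect F U)
    (h : ∀ i, ∃ n, Kills h𝔛 F U n (t i)) : ∃ N, ∀ i, Kills h𝔛 F U N (t i) := by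
  choose n hn using h
  exact ⟨Finset.univ.sup n, fun i => (hn i).mono (h𝔛 := h𝔛) (Finset.le_sup (Finset.mem_univ i))⟩

theorem exists_pow_mem {U W : (𝔛.X 0).Opens} (hU : IsAffineOpen U) {a : OA 𝔛 h𝔛.1 U}
    (d : IsDist 𝔛 h𝔛.1 U a W) {n : ℕ} (x : OA 𝔛 h𝔛.1 U)
    (hx : (rsR d.le x : OA 𝔛 h𝔛.1 W) ∈ JA 𝔛 h𝔛.1 W ^ (n + 1)) : ∃ m, a ^ m * x ∈ JA 𝔛 h𝔛.1 U ^ (n + 1) := by
  obtain ⟨m, hm⟩ := exists_pow_relMod h𝔛 hU d (fun k : Empty => (k.elim : Unit → OA 𝔛 h𝔛.1 U)) (n := n)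
    (fun _ => x) (Submodule.mem_sup_right (AdicLim.mem_smul_top_of_apply fun _ => hx))
  refine ⟨m, ?_⟩
  obtain ⟨y, hy, z, hz, hyz⟩ := Submodule.mem_sup.1 hm
  rw [Set.range_eq_empty, Submodule.span_empty, Submodule.mem_bot] at hy
  subst hy
  rw [zero_add] at hyz
  have := AdicLim.apply_mem_of_mem_smul_top hz ()
  rwa [hyz] at this

theorem JA_le_map {U W : (𝔛.X 0).Opens} (hU : IsAffineOpen U) {a : OA 𝔛 h𝔛.1 U}
    (d : IsDist 𝔛 h𝔛.1 U a W) : JA 𝔛 h𝔛.1 W ≤ (JA 𝔛 h𝔛.1 U).map (rsR d.le) := by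
  haveI := (main 𝔛 h𝔛.1 h𝔛 d.affine).1
  refine Submodule.le_of_le_smul_of_le_jacobson_bot (IsNoetherian.noetherian _) (JA_le_jacobson h𝔛 d.affine)
    fun x hx => ?_
  obtain ⟨k, x', hx'⟩ := exists_scal_extend h𝔛 hU d 1 x
  have h2 : (rsR d.le a : OA 𝔛 h𝔛.1 W) ^ k * x - rsR d.le x' ∈ JA 𝔛 h𝔛.1 W ^ 2 :=
    mem_pow_of_projR h𝔛 d.affine (by rw [map_sub, sub_eq_zero]; exact hx')
  have h1 : (rsR d.le x' : OA 𝔛 h𝔛.1 W) ∈ JA 𝔛 h𝔛.1 W ^ (0 + 1) := by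
    rw [pow_one]
    have := sub_mem (Ideal.mul_mem_left _ ((rsR d.le a : OA 𝔛 h𝔛.1 W) ^ k) hx) (Ideal.pow_le_self two_ne_zero h2)
    rwa [sub_sub_cancel] at this
  obtain ⟨m, hm⟩ := exists_pow_mem h𝔛 hU d x' h1
  rw [pow_one] at hm
  obtain ⟨u, hu⟩ := (d.isUnit h𝔛).pow (k + m)
  have e : x = ↑u⁻¹ * rsR d.le (a ^ m * x') +
      ↑u⁻¹ * ((rsR d.le a : OA 𝔛 h𝔛.1 W) ^ m * ((rsR d.le a : OA 𝔛 h𝔛.1 W) ^ k * x - rsR d.le x')) := by
    rw [← mul_add, map_mul, map_pow, ← mul_add, add_sub_cancel, ← mul_assoc (_ ^ m), ← pow_add, add_comm m k, ← hu,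
      Units.inv_mul_cancel_left]
  rw [e]
  refine Submodule.add_mem_sup (Ideal.mul_mem_left _ _ (Ideal.mem_map_of_mem _ hm)) ?_
  rw [smul_eq_mul, ← pow_two]
  exact Ideal.mul_mem_left _ _ (Ideal.mul_mem_left _ _ h2)

theorem JA_pow_le_map {U W : (𝔛.X 0).Opens} (hU : IsAffineOpen U) {a : OA 𝔛 h𝔛.1 U}
    (d : IsDist 𝔛 h𝔛.1 U a W) (n : ℕ) : JA 𝔛 h𝔛.1 W ^ (n + 1) ≤ (JA 𝔛 h𝔛.1 U ^ (n + 1)).map (rsR d.le) := by
  rw [Ideal.map_pow]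
  exact Ideal.pow_right_mono (JA_le_map h𝔛 hU d) _

theorem Kills.rs {U W : (𝔛.X 0).Opens} (hU : IsAffineOpen U) {a : OA 𝔛 h𝔛.1 U} (d : IsDist 𝔛 h𝔛.1 U a W) {n : ℕ}
    {t : ModSite.sect F U} (h : Kills h𝔛 F U n t) : Kills h𝔛 F W n (RSFin.rs F d.le t) := fun b hb => by
  have hb' := JA_pow_le_map h𝔛 hU d n hb
  rw [Ideal.map] at hb'
  clear hb
  induction hb' using Submodule.span_induction with
  | mem x hx =>
    obtain ⟨c, hc, rfl⟩ := hx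
    exact (RSFin.rs_smul F d.le c t).symm.trans ((congrArg (RSFin.rs F d.le) (h c hc)).trans (map_zero _))
  | zero => exact zero_smul (sc (𝔛.Osh h𝔛.1) W) _
  | add x y _ _ hx hy => exact (add_smul (show sc (𝔛.Osh h𝔛.1) W from x) y _).trans (by rw [hx, hy, add_zero])
  | smul c x _ hx => exact (mul_smul (show sc (𝔛.Osh h𝔛.1) W from c) x _).trans (by rw [hx, smul_zero])

theorem killedBy_iff {U : (𝔛.X 0).Opens} (hU : IsAffineOpen U) {n : ℕ} (t : ModSite.sect F U) :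
    FTors.KilledBy (FTors.openIdealFam 𝔛 h𝔛.1) F n t ↔ Kills h𝔛 F U n t := by
  refine ⟨fun h b hb => ?_, fun h V g b hb => ?_⟩
  · have h1 := h (𝟙 U) b (by
      rw [FTors.mem_openIdealFam_iff]
      rw [← (main 𝔛 h𝔛.1 h𝔛 hU).2.2 n, RingHom.mem_ker] at hb
      exact hb)
    rwa [FTors.res_id] at h1
  · refine RSFin.eq_zero_of_locally F _ fun y hy => ?_
    obtain ⟨a, W, hyW, hle, d⟩ := exists_dist 𝔛 h𝔛.1 hU g.le hy
    refine ⟨W, hle, hyW, ?_⟩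
    rw [RSFin.rs_smul]
    have hb' : (rsR hle b : OA 𝔛 h𝔛.1 W) ∈ JA 𝔛 h𝔛.1 W ^ (n + 1) :=
      mem_pow_of_projR h𝔛 d.affine ((FTors.mem_openIdealFam_iff _ _ _ _ _).1
        ((FTors.openIdealFam 𝔛 h𝔛.1).map_mem n (homOfLE hle) hb))
    have e : RSFin.rs F hle (FTors.res F g t) = RSFin.rs F d.le t := RSFin.rs_rs F hle g.le t
    rw [e]
    exact Kills.rs h𝔛 hU d h _ hb'

theorem isTorsSect_iff {V : (𝔛.X 0).Opens} (t : ModSite.sect F V) :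
    FTors.IsTorsSect (FTors.openIdealFam 𝔛 h𝔛.1) F t ↔ ∀ y ∈ V, ∃ (W : (𝔛.X 0).Opens) (hW : W ≤ V) (n : ℕ),
      y ∈ W ∧ FTors.KilledBy (FTors.openIdealFam 𝔛 h𝔛.1) F n (RSFin.rs F hW t) := by
  refine ⟨fun h y hy => ?_, fun h y hy => ?_⟩
  · obtain ⟨W, g, ⟨n, hn⟩, hyW⟩ := h y hy
    exact ⟨W, g.le, n, hyW, hn⟩
  · obtain ⟨W, hW, n, hyW, hn⟩ := h y hy
    exact ⟨W, homOfLE hW, ⟨n, hn⟩, hyW⟩

theorem torsAff_of_isTors (hF : FTors.IsTorsF 𝔛 h𝔛.1 F) : TorsAff h𝔛 F := fun U hU t => by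
  classical
  choose W hW n hyW hn using fun y : U => (isTorsSect_iff h𝔛 t).1 (hF U t) y.1 y.2
  obtain ⟨P, hP⟩ := hU.isCompact.elim_finite_subcover (fun y : U => (W y : Set (𝔛.X 0))) (fun y => (W y).isOpen)
    fun y hy => (Set.mem_iUnion (s := fun a : U => (W a : Set (𝔛.X 0)))).2 ⟨⟨y, hy⟩, hyW _⟩
  refine ⟨P.sup n, fun b hb => RSFin.eq_zero_of_locally F _ fun y hy => ?_⟩
  obtain ⟨z, hz, hyz⟩ := Set.mem_iUnion₂.1 (hP hy)
  refine ⟨W z, hW z, hyz, ?_⟩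
  rw [RSFin.rs_smul]
  have hb' : (FTors.openIdealFam 𝔛 h𝔛.1).ideal (P.sup n) (W z) ≤ (FTors.openIdealFam 𝔛 h𝔛.1).ideal (n z) (W z) :=
    FTors.IdealFam.ideal_le_of_le _ _ (Finset.le_sup hz)
  have h1 := hn z (𝟙 _) (rsR (hW z) b) (hb' ((FTors.openIdealFam 𝔛 h𝔛.1).map_mem _ (homOfLE (hW z))
    ((FTors.mem_openIdealFam_iff _ _ _ _ _).2 (by
      rw [← (main 𝔛 h𝔛.1 h𝔛 hU).2.2, RingHom.mem_ker] at hb
      exact hb))))
  rwa [FTors.res_id] at h1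

theorem isTors_of_torsAff (hF : TorsAff h𝔛 F) : FTors.IsTorsF 𝔛 h𝔛.1 F := fun V t =>
  (isTorsSect_iff h𝔛 t).2 fun y hy => by
    obtain ⟨U, hU, hyU, hle⟩ := exists_isAffineOpen_mem_and_subset (X := 𝔛.X 0) (x := y) (U := V) hy
    obtain ⟨n, hn⟩ := hF hU (RSFin.rs F hle t)
    exact ⟨U, hle, n, hyU, (killedBy_iff h𝔛 hU _).2 hn⟩

theorem IsDist.inter {U V W : (𝔛.X 0).Opens} {a b : OA 𝔛 h𝔛.1 U} (d : IsDist 𝔛 h𝔛.1 U a W)
    (d' : IsDist 𝔛 h𝔛.1 U b V) (hU : IsAffineOpen U) : IsDist 𝔛 h𝔛.1 V (rsR d'.le a) (W ⊓ V) := by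
  refine ⟨inf_le_right, (IsDist.mul h𝔛 d d' hU).affine, fun n => ?_⟩
  rw [projR_rsR]
  refine ((show 𝔛.lvU h𝔛.1 n (W ⊓ V) = 𝔛.lvU h𝔛.1 n W ⊓ 𝔛.lvU h𝔛.1 n V from rfl).trans (inf_comm _ _)).trans ?_
  rw [d.level n]
  exact (Scheme.basicOpen_res _ _ _).symm

theorem exists_glue_sect {U : (𝔛.X 0).Opens} {P : Type u} (V : P → (𝔛.X 0).Opens) (hV : ∀ p, V p ≤ U)
    (hcov : ∀ y ∈ U, ∃ p, y ∈ V p) (z : ∀ p, ModSite.sect F (V p))
    (hz : ∀ p q, RSFin.rs F (inf_le_left : V p ⊓ V q ≤ V p) (z p) = RSFin.rs F inf_le_right (z q)) :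
    ∃ s : ModSite.sect F U, ∀ p, RSFin.rs F (hV p) s = z p := by
  let S : TopCat.Sheaf AddCommGrpCat.{u} (𝔛.X 0) := (SheafOfModules.toSheaf (ModSite.ringSh (𝔛.Osh h𝔛.1))).obj F
  obtain ⟨s, hs, -⟩ := S.existsUnique_gluing' V U (fun p => homOfLE (hV p))
    (fun y hy => Opens.mem_iSup.2 (hcov y hy)) (fun p => z p) (fun p q => hz p q)
  exact ⟨s, hs⟩

variable (F) in
/-- sections over a distinguished open are the localisation of the sections over the affine open -/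
structure QT : Prop where
  tors : TorsAff h𝔛 F
  zero : ∀ ⦃U W : (𝔛.X 0).Opens⦄, IsAffineOpen U → ∀ ⦃a : OA 𝔛 h𝔛.1 U⦄ (d : IsDist 𝔛 h𝔛.1 U a W)
    (t : ModSite.sect F U), RSFin.rs F d.le t = 0 → ∃ k : ℕ, (show sc (𝔛.Osh h𝔛.1) U from a) ^ k • t = 0
  ext : ∀ ⦃U W : (𝔛.X 0).Opens⦄, IsAffineOpen U → ∀ ⦃a : OA 𝔛 h𝔛.1 U⦄ (d : IsDist 𝔛 h𝔛.1 U a W)
    (t : ModSite.sect F W), ∃ (k : ℕ) (z : ModSite.sect F U),
      RSFin.rs F d.le z = (rsR d.le a : sc (𝔛.Osh h𝔛.1) W) ^ k • t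

/-- an ideal containing a power of the ideal of definition that locally contains powers of distinguished functions -/
theorem exists_pow_mem_of_cover {U W : (𝔛.X 0).Opens} (hU : IsAffineOpen U) {a : OA 𝔛 h𝔛.1 U}
    (d : IsDist 𝔛 h𝔛.1 U a W) (I : Ideal (OA 𝔛 h𝔛.1 U)) {n : ℕ} (hI : JA 𝔛 h𝔛.1 U ^ (n + 1) ≤ I)
    (h : ∀ y ∈ W, ∃ (g : OA 𝔛 h𝔛.1 U) (W' : (𝔛.X 0).Opens) (_ : IsDist 𝔛 h𝔛.1 U g W'), y ∈ W' ∧ ∃ m, g ^ m ∈ I) :
    ∃ k, a ^ k ∈ I := by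
  have hr : a ∈ I.radical.radical := mem_radical_of_cover h𝔛 hU d I.radical
    (fun b hb => by rw [Ideal.radical_idem]; exact ⟨n + 1, hI (Ideal.pow_mem_pow hb _)⟩)
    fun y hy => by
      obtain ⟨g, W', d', hyW', hm⟩ := h y hy
      exact ⟨g, hm, W', d', hyW'⟩
  rw [Ideal.radical_idem] at hr
  exact hr

theorem zero_small (hF : TorsAff h𝔛 F) {U₀ U W : (𝔛.X 0).Opens} (hq : QCU h𝔛 F U₀) (hU : IsAffineOpen U)
    (hle : U ≤ U₀) {a : OA 𝔛 h𝔛.1 U} (d : IsDist 𝔛 h𝔛.1 U a W) (t : ModSite.sect F U)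
    (ht : RSFin.rs F d.le t = 0) : ∃ k : ℕ, (show sc (𝔛.Osh h𝔛.1) U from a) ^ k • t = 0 := by
  obtain ⟨κ, hκ, r, hr⟩ := (hq hU hle).2 fun _ : Unit => t
  obtain ⟨n, hn⟩ := hF hU t
  let I : Ideal (OA 𝔛 h𝔛.1 U) := LinearMap.ker (LinearMap.toSpanSingleton (sc (𝔛.Osh h𝔛.1) U) _ t)
  obtain ⟨k, hk⟩ := exists_pow_mem_of_cover h𝔛 hU d I (fun b hb => hn b hb) fun y hy => by
    obtain ⟨W₁, hW₁, hyW₁, hm⟩ := hr.2 d.le (fun _ => 1) (by simp [ht]) y hy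
    obtain ⟨g, W', hyW', hW', d'⟩ := exists_dist 𝔛 h𝔛.1 hU (hW₁.trans d.le) hyW₁
    obtain ⟨x, hx⟩ := (Submodule.mem_span_range_iff_exists_fun _).1 hm
    obtain ⟨m, hm'⟩ := exists_pow_relMod h𝔛 hU d' r (n := n) (fun _ => 1) (Submodule.mem_sup_left
      ((Submodule.mem_span_range_iff_exists_fun _).2 ⟨fun l => rsR hW' (x l), funext fun i => by
        have := congrArg (rsR hW') (congrFun hx i)
        simp only [Finset.sum_apply, Pi.smul_apply, smul_eq_mul, map_sum, map_mul, RSFin.rsR_rsR, map_one] at this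
        simp only [Finset.sum_apply, Pi.smul_apply, smul_eq_mul, rsV, map_one]
        exact this⟩))
    refine ⟨g, W', d', hyW', m, ?_⟩
    obtain ⟨p, hp, z, hz, hpz⟩ := Submodule.mem_sup.1 hm'
    have h1 : p () ∈ I := by
      clear hpz
      induction hp using Submodule.span_induction with
      | mem x hx =>
        obtain ⟨l, rfl⟩ := hx
        show (r l () : sc (𝔛.Osh h𝔛.1) U) • t = 0
        exact (Fintype.sum_unique fun i : Unit => r l i • t).symm.trans (hr.1 l)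
      | zero => exact I.zero_mem
      | add x y _ _ hx hy => exact I.add_mem hx hy
      | smul c x _ hx => exact I.mul_mem_left c hx
    have h2 : z () ∈ I := hn _ (AdicLim.apply_mem_of_mem_smul_top hz ())
    have h3 := congrFun hpz ()
    simp only [Pi.add_apply, Pi.smul_apply, smul_eq_mul, mul_one] at h3
    rw [← h3]
    exact I.add_mem h1 h2
  exact ⟨k, hk⟩

theorem zero_of_isQCT (hF : TorsAff h𝔛 F) (hq : ∀ y, ∃ U₀, y ∈ U₀ ∧ QCU h𝔛 F U₀) {U W : (𝔛.X 0).Opens}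
    (hU : IsAffineOpen U) {a : OA 𝔛 h𝔛.1 U} (d : IsDist 𝔛 h𝔛.1 U a W) (t : ModSite.sect F U)
    (ht : RSFin.rs F d.le t = 0) : ∃ k : ℕ, (show sc (𝔛.Osh h𝔛.1) U from a) ^ k • t = 0 := by
  classical
  choose U₀ hyU₀ hU₀ using fun y : U => hq y.1
  choose b V hyV hV dV using fun y : U => exists_dist 𝔛 h𝔛.1 hU (inf_le_left : U ⊓ U₀ y ≤ U) ⟨y.2, hyU₀ y⟩
  choose k hk using fun y : U => zero_small h𝔛 hF (hU₀ y) (dV y).affine ((hV y).trans inf_le_right)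
    (IsDist.inter h𝔛 d (dV y) hU) (RSFin.rs F (dV y).le t) (by
      rw [RSFin.rs_rs, ← RSFin.rs_rs F (inf_le_left : W ⊓ V y ≤ W) d.le, ht, map_zero])
  obtain ⟨P, hP⟩ := hU.isCompact.elim_finite_subcover (fun y : U => (V y : Set (𝔛.X 0))) (fun y => (V y).isOpen)
    fun y hy => (Set.mem_iUnion (s := fun a : U => (V a : Set (𝔛.X 0)))).2 ⟨⟨y, hy⟩, hyV _⟩
  refine ⟨P.sup k, RSFin.eq_zero_of_locally F _ fun y hy => ?_⟩
  obtain ⟨z, hz, hyz⟩ := Set.mem_iUnion₂.1 (hP hy)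
  refine ⟨V z, (dV z).le, hyz, ?_⟩
  rw [RSFin.rs_smul, map_pow, ← Nat.sub_add_cancel (Finset.le_sup (f := k) hz), pow_add, mul_smul]
  exact (congrArg _ (hk z)).trans (smul_zero _)

theorem ext_small (hF : TorsAff h𝔛 F) (hq : ∀ y, ∃ U₀, y ∈ U₀ ∧ QCU h𝔛 F U₀) {U₀ U W : (𝔛.X 0).Opens}
    (hU₀ : QCU h𝔛 F U₀) (hU : IsAffineOpen U) (hle : U ≤ U₀) {a : OA 𝔛 h𝔛.1 U} (d : IsDist 𝔛 h𝔛.1 U a W)
    (t : ModSite.sect F W) :
    ∃ (k : ℕ) (z : ModSite.sect F U), RSFin.rs F d.le z = (rsR d.le a : sc (𝔛.Osh h𝔛.1) W) ^ k • t := by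
  classical
  let I : Ideal (OA 𝔛 h𝔛.1 U) :=
    { carrier := {b | ∃ z : ModSite.sect F U, RSFin.rs F d.le z = (rsR d.le b : sc (𝔛.Osh h𝔛.1) W) • t}
      zero_mem' := ⟨0, by rw [map_zero]; exact ((congrArg (· • t) (map_zero (rsR d.le))).trans (zero_smul _ t)).symm⟩
      add_mem' := fun {b b'} ⟨z, hz⟩ ⟨z', hz'⟩ => ⟨z + z', by
        rw [map_add, hz, hz', ← add_smul]
        exact congrArg (· • t) (map_add (rsR d.le) b b').symm⟩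
      smul_mem' := fun c b ⟨z, hz⟩ => ⟨(show sc (𝔛.Osh h𝔛.1) U from c) • z, by
        rw [RSFin.rs_smul, hz, smul_smul]
        exact congrArg (· • t) (map_mul (rsR d.le) c b).symm⟩ }
  obtain ⟨n, hn⟩ := hF d.affine t
  have hI : JA 𝔛 h𝔛.1 U ^ (n + 1) ≤ I := fun b hb => ⟨0, by
    rw [map_zero]
    exact (hn _ (rsR_mem_pow h𝔛 hU d.affine d.le hb)).symm⟩
  obtain ⟨k, z, hz⟩ := exists_pow_mem_of_cover h𝔛 hU d I hI fun y hy => by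
    obtain ⟨W₁, hW₁, L, e, c, hyW₁, hc⟩ := exists_fin_comb (h𝔛 := h𝔛) (hU₀ hU hle).1 d.le t hy
    obtain ⟨g, W', hyW', hW', d'⟩ := exists_dist 𝔛 h𝔛.1 hU (hW₁.trans d.le) hyW₁
    obtain ⟨N, hN⟩ := exists_uniform h𝔛 e fun l => hF hU (e l)
    obtain ⟨j, c', hc'⟩ := exists_scal_extend_fin h𝔛 hU d' N fun l => rsR hW' (c l)
    let z : ModSite.sect F U := ∑ l, (show sc (𝔛.Osh h𝔛.1) U from c' l) • e l
    have hz : RSFin.rs F d'.le z = (rsR d'.le g : sc (𝔛.Osh h𝔛.1) W') ^ j • RSFin.rs F (hW'.trans hW₁) t := by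
      rw [← RSFin.rs_rs F hW' hW₁, ← hc, map_sum, map_sum, Finset.smul_sum]
      refine Finset.sum_congr rfl fun l _ => ?_
      rw [RSFin.rs_smul, RSFin.rs_smul, RSFin.rs_rs, smul_smul, ← sub_eq_zero, ← sub_smul]
      exact Kills.rs h𝔛 hU d' (hN l) _ (mem_pow_of_projR h𝔛 d'.affine (by rw [map_sub, sub_eq_zero]; exact (hc' l).symm))
    obtain ⟨m, hm⟩ := zero_of_isQCT h𝔛 hF hq d.affine (IsDist.inter h𝔛 d' d hU)
      ((rsR d.le g : sc (𝔛.Osh h𝔛.1) W) ^ j • t - RSFin.rs F d.le z) (by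
        have hle2 : W' ⊓ W ≤ W' := inf_le_left
        rw [map_sub, RSFin.rs_smul, map_pow, RSFin.rsR_rsR, RSFin.rs_rs, ← RSFin.rs_rs F hle2 d'.le, hz,
          RSFin.rs_smul, map_pow, RSFin.rsR_rsR, RSFin.rs_rs, sub_self])
    refine ⟨g, W', d', hyW', m + j, (show sc (𝔛.Osh h𝔛.1) U from g) ^ m • z, ?_⟩
    rw [smul_sub, sub_eq_zero, smul_smul, ← pow_add] at hm
    rw [RSFin.rs_smul, map_pow]
    exact hm.symm.trans (congrArg (· • t) (map_pow (rsR d.le) g (m + j)).symm)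
  exact ⟨k, z, hz.trans (congrArg (· • t) (map_pow (rsR d.le) a k))⟩

theorem ext_of_isQCT (hF : TorsAff h𝔛 F) (hq : ∀ y, ∃ U₀, y ∈ U₀ ∧ QCU h𝔛 F U₀) {U W : (𝔛.X 0).Opens}
    (hU : IsAffineOpen U) {a : OA 𝔛 h𝔛.1 U} (d : IsDist 𝔛 h𝔛.1 U a W) (t : ModSite.sect F W) :
    ∃ (k : ℕ) (z : ModSite.sect F U), RSFin.rs F d.le z = (rsR d.le a : sc (𝔛.Osh h𝔛.1) W) ^ k • t := by
  classical
  choose U₀ hyU₀ hU₀ using fun y : U => hq y.1
  choose b V hyV hV dV using fun y : U => exists_dist 𝔛 h𝔛.1 hU (inf_le_left : U ⊓ U₀ y ≤ U) ⟨y.2, hyU₀ y⟩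
  choose k z hz using fun y : U => ext_small h𝔛 hF hq (hU₀ y) (dV y).affine ((hV y).trans inf_le_right)
    (IsDist.inter h𝔛 d (dV y) hU) (RSFin.rs F inf_le_left t)
  obtain ⟨P, hP⟩ := hU.isCompact.elim_finite_subcover (fun y : U => (V y : Set (𝔛.X 0))) (fun y => (V y).isOpen)
    fun y hy => (Set.mem_iUnion (s := fun a : U => (V a : Set (𝔛.X 0)))).2 ⟨⟨y, hy⟩, hyV _⟩
  let K := P.sup k
  let A : sc (𝔛.Osh h𝔛.1) U := a
  let z' : ∀ p : P, ModSite.sect F (V p.1) := fun p => rsR (dV p.1).le A ^ (K - k p.1) • z p.1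
  have hz' : ∀ p : P, RSFin.rs F (inf_le_right : W ⊓ V p.1 ≤ V p.1) (z' p) =
      rsR (inf_le_left.trans d.le) A ^ K • RSFin.rs F inf_le_left t := fun p => by
    simp only [z', RSFin.rs_smul, map_pow, RSFin.rsR_rsR]
    rw [hz p.1, RSFin.rsR_rsR, smul_smul, ← pow_add, Nat.sub_add_cancel (Finset.le_sup (f := k) p.2)]
  have hov := fun pq : P × P =>
    zero_of_isQCT h𝔛 hF hq (IsDist.mul h𝔛 (dV pq.1.1) (dV pq.2.1) hU).affine
      (IsDist.inter h𝔛 d (IsDist.mul h𝔛 (dV pq.1.1) (dV pq.2.1) hU) hU)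
      (RSFin.rs F inf_le_left (z' pq.1) - RSFin.rs F inf_le_right (z' pq.2)) (by
        have e1 : W ⊓ (V pq.1.1 ⊓ V pq.2.1) ≤ W ⊓ V pq.1.1 := inf_le_inf_left _ inf_le_left
        have e2 : W ⊓ (V pq.1.1 ⊓ V pq.2.1) ≤ W ⊓ V pq.2.1 := inf_le_inf_left _ inf_le_right
        rw [map_sub, RSFin.rs_rs, RSFin.rs_rs, ← RSFin.rs_rs F e1 inf_le_right, ← RSFin.rs_rs F e2 inf_le_right,
          hz', hz']
        simp only [RSFin.rs_smul, map_pow, RSFin.rsR_rsR, RSFin.rs_rs, sub_self])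
  choose m hm using hov
  let M := Finset.univ.sup m
  obtain ⟨s, hs⟩ := exists_glue_sect h𝔛 (fun p : P => V p.1) (fun p => (dV p.1).le)
    (fun y hy => by
      obtain ⟨w, hw, hyw⟩ := Set.mem_iUnion₂.1 (hP hy)
      exact ⟨⟨w, hw⟩, hyw⟩)
    (fun p => rsR (dV p.1).le A ^ M • z' p) fun p q => by
      show RSFin.rs F inf_le_left (rsR (dV p.1).le A ^ M • z' p) = RSFin.rs F inf_le_right (rsR (dV q.1).le A ^ M • z' q)
      generalize hp' : z' p = zp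
      generalize hq' : z' q = zq
      simp only [RSFin.rs_smul, map_pow, RSFin.rsR_rsR]
      subst hp' hq'
      rw [← sub_eq_zero, ← smul_sub, show M = M - m (p, q) + m (p, q) from
        (Nat.sub_add_cancel (Finset.le_sup (f := m) (Finset.mem_univ (p, q)))).symm, pow_add, mul_smul]
      exact (congrArg _ (hm (p, q))).trans (smul_zero _)
  refine ⟨M + K, s, RSFin.eq_of_locally F _ _ fun y hy => ?_⟩
  obtain ⟨w, hw, hyw⟩ := Set.mem_iUnion₂.1 (hP (d.le hy))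
  refine ⟨W ⊓ V w, inf_le_left, ⟨hy, hyw⟩, ?_⟩
  rw [RSFin.rs_rs, ← RSFin.rs_rs F (inf_le_right : W ⊓ V w ≤ V w) (dV w).le, hs ⟨w, hw⟩, RSFin.rs_smul, hz' ⟨w, hw⟩,
    RSFin.rs_smul, map_pow, map_pow, RSFin.rsR_rsR, RSFin.rsR_rsR, pow_add, mul_smul]

theorem qt_of_isQCT (hF : FTors.IsTorsF 𝔛 h𝔛.1 F)
    (hq : SheafOfModules.IsQuasicoherent.{u} (R := ModSite.ringSh (𝔛.Osh h𝔛.1)) F) : QT h𝔛 F :=
  ⟨torsAff_of_isTors h𝔛 hF,
    fun _ _ hU _ d t ht => zero_of_isQCT h𝔛 (torsAff_of_isTors h𝔛 hF) (exists_qcu (h𝔛 := h𝔛) hq) hU d t ht,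
    fun _ _ hU _ d t => ext_of_isQCT h𝔛 (torsAff_of_isTors h𝔛 hF) (exists_qcu (h𝔛 := h𝔛) hq) hU d t⟩

variable {h𝔛}

theorem QT.gen (hF : QT h𝔛 F) {U : (𝔛.X 0).Opens} (hU : IsAffineOpen U) :
    Gen F (fun z : ModSite.sect F U => z) := fun V hV t y hy => by
  obtain ⟨a, W, hyW, hle, d⟩ := exists_dist 𝔛 h𝔛.1 hU hV hy
  obtain ⟨k, z, hz⟩ := hF.ext hU d (RSFin.rs F hle t)
  obtain ⟨u, hu⟩ := ((d.isUnit h𝔛).pow k : IsUnit ((rsR d.le a : sc (𝔛.Osh h𝔛.1) W) ^ k))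
  refine ⟨W, hle, hyW, ?_⟩
  have : RSFin.rs F hle t = (↑u⁻¹ : sc (𝔛.Osh h𝔛.1) W) • RSFin.rs F d.le z := by
    rw [hz, ← hu, smul_smul, Units.inv_mul, one_smul]
  rw [this]
  exact Submodule.smul_mem _ _ (Submodule.subset_span ⟨z, rfl⟩)

theorem QT.good (hF : QT h𝔛 F) : Good h𝔛 F := fun U hU ι _ q => by
  classical
  obtain ⟨n, hn⟩ := exists_uniform h𝔛 q fun i => hF.tors hU (q i)
  refine exists_rel_of_family h𝔛 hU q (Λ := {c : ι → sc (𝔛.Osh h𝔛.1) U // ∑ i, c i • q i = 0}) (fun l => l.1)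
    (fun l => l.2) fun V h c hc y hy => ?_
  obtain ⟨a, W, hyW, hle, d⟩ := exists_dist 𝔛 h𝔛.1 hU h hy
  obtain ⟨k, c', hc'⟩ := exists_scal_extend_fin h𝔛 hU d n fun i => rsR hle (c i)
  have hdiff : ∀ i, (rsR d.le (c' i) : OA 𝔛 h𝔛.1 W) - rsR d.le a ^ k * rsR hle (c i) ∈ JA 𝔛 h𝔛.1 W ^ (n + 1) :=
    fun i => mem_pow_of_projR h𝔛 d.affine (by rw [map_sub, sub_eq_zero]; exact (hc' i).symm)
  have hsum : RSFin.rs F d.le (∑ i, (show sc (𝔛.Osh h𝔛.1) U from c' i) • q i) = 0 := by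
    have h1 := congrArg (RSFin.rs F hle) hc
    simp only [map_sum, RSFin.rs_smul, RSFin.rs_rs, map_zero] at h1
    rw [map_sum]
    refine Eq.trans (Finset.sum_congr rfl fun i _ => ?_)
      ((Finset.smul_sum (r := (rsR d.le a : sc (𝔛.Osh h𝔛.1) W) ^ k)).symm.trans ((congrArg _ h1).trans (smul_zero _)))
    rw [RSFin.rs_smul, smul_smul, ← sub_eq_zero, ← sub_smul]
    exact Kills.rs h𝔛 hU d (hn i) _ (hdiff i)
  obtain ⟨m, hm⟩ := hF.zero hU d _ hsum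
  rw [Finset.smul_sum] at hm
  simp only [smul_smul] at hm
  refine ⟨W, hle, hyW, ?_⟩
  let S := Submodule.span (sc (𝔛.Osh h𝔛.1) W)
    (Set.range fun (l : {c : ι → sc (𝔛.Osh h𝔛.1) U // ∑ i, c i • q i = 0}) i => rsR (hle.trans h) (l.1 i))
  show (fun i => rsR hle (c i)) ∈ S
  have hJ : ∀ i, ∀ x ∈ JA 𝔛 h𝔛.1 W ^ (n + 1), (Pi.single i x : ι → sc (𝔛.Osh h𝔛.1) W) ∈ S := fun i x hx => by
    have hx' := JA_pow_le_map h𝔛 hU d n hx
    rw [Ideal.map] at hx'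
    clear hx
    induction hx' using Submodule.span_induction with
    | mem x hx =>
      obtain ⟨b, hb, rfl⟩ := hx
      refine Submodule.subset_span ⟨⟨Pi.single i b, ?_⟩, funext fun j => ?_⟩
      · rw [Finset.sum_eq_single i (fun j _ hj => by rw [Pi.single_eq_of_ne hj, zero_smul])
          (fun h => absurd (Finset.mem_univ i) h), Pi.single_eq_same]
        exact hn i b hb
      · exact Pi.apply_single (fun _ => rsR (hle.trans h)) (fun _ => map_zero _) i b j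
    | zero => rw [Pi.single_zero]; exact S.zero_mem
    | add x y _ _ hx hy => rw [Pi.single_add]; exact S.add_mem hx hy
    | smul r x _ hx => rw [Pi.single_smul]; exact S.smul_mem r hx
  obtain ⟨u, hu⟩ := ((d.isUnit h𝔛).pow (m + k) : IsUnit ((rsR d.le a : sc (𝔛.Osh h𝔛.1) W) ^ (m + k)))
  let v : ι → sc (𝔛.Osh h𝔛.1) W := fun i =>
    rsR d.le ((show sc (𝔛.Osh h𝔛.1) U from a) ^ m * (show sc (𝔛.Osh h𝔛.1) U from c' i))
  have hv : v ∈ S := Submodule.subset_span ⟨⟨_, hm⟩, rfl⟩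
  have hw : (fun i => (rsR d.le a : sc (𝔛.Osh h𝔛.1) W) ^ (m + k) * rsR hle (c i)) - v ∈ S := by
    rw [← Finset.univ_sum_single (_ - v)]
    refine Submodule.sum_mem _ fun i _ => hJ i _ ?_
    have := Ideal.mul_mem_left _ ((rsR d.le a : OA 𝔛 h𝔛.1 W) ^ m) (neg_mem (hdiff i))
    rw [neg_sub, mul_sub, ← mul_assoc, ← pow_add] at this
    simpa only [v, Pi.sub_apply, map_mul, map_pow] using this
  have := S.smul_mem (↑u⁻¹ : sc (𝔛.Osh h𝔛.1) W) (S.add_mem hw hv)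
  rw [sub_add_cancel] at this
  convert this using 1
  funext i
  rw [Pi.smul_apply, smul_eq_mul, ← hu, Units.inv_mul_cancel_left]

theorem QT.isQuasicoherent (hF : QT h𝔛 F) :
    SheafOfModules.IsQuasicoherent.{u} (R := ModSite.ringSh (𝔛.Osh h𝔛.1)) F :=
  isQuasicoherent_of_gen (h𝔛 := h𝔛) fun x => by
    obtain ⟨U, hU, hxU, -⟩ := exists_isAffineOpen_mem_and_subset (X := 𝔛.X 0) (x := x) (U := ⊤) trivial
    exact ⟨U, hU, _, _, hxU, hF.gen hU, fun n idx => hF.good hU fun k => idx k⟩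

theorem QT.isQCT (hF : QT h𝔛 F) : FTors.IsQCT 𝔛 h𝔛.1 F :=
  ⟨isTors_of_torsAff h𝔛 hF.tors, hF.isQuasicoherent⟩

end Groth.Agent.FSchCoh
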