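import Groth.Agent.FSchCoh.QCTCoreflect
import Groth.Agent.HomColim.Hom

/-!
# The coreflection onto quasi-coherent torsion modules commutes with filtered colimits
-/

universe u

open CategoryTheory CategoryTheory.Limits AlgebraicGeometry TopologicalSpace Opposite

set_option autoImplicit false
set_option backward.isDefEq.respectTransparency false
set_option linter.style.haveILetI false

noncomputable section

namespace Groth.Agent.FSchCoh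

variable {𝔛 : FSch.Sys.{u}} (h𝔛 : 𝔛.IsLocNoethFormal)

include h𝔛 in
theorem qcRefines [CompactSpace (𝔛.X 0)] : HomColim.QCRefines (Opens.grothendieckTopology (𝔛.X 0)) := by
  haveI : IsLocallyNoetherian (𝔛.X 0) := h𝔛.2.2 0
  haveI : IsNoetherian (𝔛.X 0) := {}
  haveI : NoetherianSpace (𝔛.X 0) := inferInstance
  refine HomColim.qcRefines_of_space (X := (𝔛.X 0).carrier) fun ι V hV => ?_
  obtain ⟨t, ht⟩ := (isCompact_univ (X := 𝔛.X 0)).elim_finite_subcover (fun i => (V i : Set (𝔛.X 0)))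
    (fun i => (V i).isOpen) fun x _ => by
      obtain ⟨i, hi⟩ := Opens.mem_iSup.1 (show x ∈ iSup V from hV ▸ trivial)
      exact Set.mem_iUnion.2 ⟨i, hi⟩
  refine ⟨t, inferInstance, fun i => V i.1, Opens.ext (Set.eq_univ_of_forall fun x => ?_), fun j => ⟨j.1, le_rfl⟩,
    fun _ _ => NoetherianSpace.isCompact _⟩
  obtain ⟨i, hi, hxi⟩ := Set.mem_iUnion₂.1 (ht (Set.mem_univ x))
  exact Opens.mem_iSup.2 ⟨⟨i, hi⟩, hxi⟩

theorem comp_zero_aux {C : Type*} [Category C] [Preadditive C] {G A L T N B Ker : C} {a : G ⟶ A} {ιj : A ⟶ L}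
    {m : L ⟶ T} {qm : A ⟶ T} {e : T ⟶ N} {εj : A ⟶ B} {lg : B ⟶ N} {k : Ker ⟶ L} {p : G ⟶ Ker}
    (h1 : a ≫ ιj = p ≫ k) (h2 : k ≫ m = 0) (h3 : ιj ≫ m = qm) (h4 : qm ≫ e = εj ≫ lg) :
    (a ≫ εj) ≫ lg = 0 ≫ lg := by
  rw [zero_comp, Category.assoc, ← h4, ← h3, ← Category.assoc, ← Category.assoc, h1, Category.assoc p k m, h2,
    comp_zero, zero_comp]

theorem comp_zero_next {C : Type*} [Category C] [Preadditive C] {G A A' B B' : C} {a : G ⟶ A} {εj : A ⟶ B}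
    {f : B ⟶ B'} {g : B ⟶ B'} {qf : A ⟶ A'} {εk : A' ⟶ B'} (h1 : (a ≫ εj) ≫ f = 0 ≫ g) (h : qf ≫ εk = εj ≫ f) :
    (a ≫ qf) ≫ εk = 0 ≫ εk := by
  rw [zero_comp, Category.assoc, h, ← Category.assoc, h1, zero_comp]

theorem comp_eq_aux {C : Type*} [Category C] {G A L T N B : C} {p : G ⟶ T} {e : T ⟶ N} {ιj : A ⟶ L}
    {m : L ⟶ T} {qm : A ⟶ T} {εj : A ⟶ B} {lg : B ⟶ N} {q : G ⟶ B} {q' : G ⟶ A} (h1 : q ≫ lg = p ≫ e)
    (h2 : q' ≫ εj = q) (h3 : ιj ≫ m = qm) (h4 : qm ≫ e = εj ≫ lg) : p ≫ e = ((q' ≫ ιj) ≫ m) ≫ e := by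
  rw [← h1, ← h2, Category.assoc, Category.assoc, Category.assoc, ← Category.assoc ιj, h3, h4]

variable [CompactSpace (𝔛.X 0)]

theorem preservesColimit_hom_coh {G : FSch.ModF 𝔛 h𝔛.1} (hG : FSch.IsCohF 𝔛 h𝔛.1 G) {J : Type u} [SmallCategory J]
    [IsFiltered J] (D : J ⥤ FSch.ModF 𝔛 h𝔛.1) : PreservesColimit D (coyoneda.obj (op G)) := by
  haveI : SheafOfModules.IsFinitePresentation (R := ModSite.ringSh (𝔛.Osh h𝔛.1)) G := hG
  obtain ⟨q, hq⟩ := SheafOfModules.IsFinitePresentation.exists_quasicoherentData G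
  refine HomColim.preservesColimit_hom (qcRefines h𝔛) G ?_ D
  intro _ D'
  exact HomColim.preservesColimit_sheafHom G q hq D'

theorem isQCT_of_mono_coh {G P : FSch.ModF 𝔛 h𝔛.1} (i : G ⟶ P) [Mono i] (hG : FSch.IsCohF 𝔛 h𝔛.1 G)
    (hP : FTors.IsTorsF 𝔛 h𝔛.1 P) : FTors.IsQCT 𝔛 h𝔛.1 G :=
  ⟨isTors_of_injective h𝔛 i (RSFin.injective_of_mono i) hP,
    isQuasicoherent_of_limPres h𝔛 (limPres_of_coh h𝔛 hG)⟩

section coreflect

variable {Q : FSch.ModF 𝔛 h𝔛.1 ⥤ (FTors.IsQCT 𝔛 h𝔛.1).FullSubcategory} (adj : (FTors.IsQCT 𝔛 h𝔛.1).ι ⊣ Q)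

theorem coreflect_unique {G B : FSch.ModF 𝔛 h𝔛.1} (hG : FTors.IsQCT 𝔛 h𝔛.1 G) (a b : G ⟶ (Q.obj B).obj)
    (h : a ≫ adj.counit.app B = b ≫ adj.counit.app B) : a = b := by
  have h2 : (ObjectProperty.homMk a : (⟨G, hG⟩ : (FTors.IsQCT 𝔛 h𝔛.1).FullSubcategory) ⟶ Q.obj B) =
      ObjectProperty.homMk b := (adj.homEquiv _ B).symm.injective (by
    simp only [Adjunction.homEquiv_counit]
    exact h)
  exact congrArg (fun f => f.hom) h2

theorem coreflect_exists {G B : FSch.ModF 𝔛 h𝔛.1} (hG : FTors.IsQCT 𝔛 h𝔛.1 G) (p : G ⟶ B) :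
    ∃ a : G ⟶ (Q.obj B).obj, a ≫ adj.counit.app B = p := by
  refine ⟨(adj.homEquiv (⟨G, hG⟩ : (FTors.IsQCT 𝔛 h𝔛.1).FullSubcategory) B p).hom, ?_⟩
  have := (adj.homEquiv (⟨G, hG⟩ : (FTors.IsQCT 𝔛 h𝔛.1).FullSubcategory) B).symm_apply_apply p
  rw [Adjunction.homEquiv_counit] at this
  exact this

variable {J : Type u} [SmallCategory J] [IsFiltered J] {K : J ⥤ FSch.ModF 𝔛 h𝔛.1} {c : Cocone K} (hc : IsColimit c)
  {d : Cocone ((K ⋙ Q) ⋙ (FTors.IsQCT 𝔛 h𝔛.1).ι)} (hd : IsColimit d)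
  (m : d.pt ⟶ (Q.obj c.pt).obj) (hm : ∀ j, d.ι.app j ≫ m = (Q.map (c.ι.app j)).hom)

include adj hc hd hm in
theorem mono_cmp : Mono m := by
  refine Preadditive.mono_of_kernel_zero ?_
  have hL : QT h𝔛 d.pt := qt_of_colimit h𝔛 ⟨_, d.ι, hd⟩
    fun j => qt_of_isQCT h𝔛 (Q.obj (K.obj j)).property.1 (Q.obj (K.obj j)).property.2
  have hker := qt_kernel h𝔛 m hL (qt_of_isQCT h𝔛 (Q.obj c.pt).property.1 (Q.obj c.pt).property.2)
  obtain ⟨I, _, _, P, hP, hmono⟩ := limPres_of_qt hker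
  refine P.isColimit.hom_ext fun i => ?_
  haveI := hmono i
  show P.ι.app i ≫ kernel.ι m = P.ι.app i ≫ 0
  rw [comp_zero]
  have hGq := isQCT_of_mono_coh h𝔛 (P.ι.app i) (hP i) (isTors_of_torsAff h𝔛 hker.tors)
  haveI := preservesColimit_hom_coh h𝔛 (hP i) ((K ⋙ Q) ⋙ (FTors.IsQCT 𝔛 h𝔛.1).ι)
  obtain ⟨j, a₀, ha⟩ := Types.jointly_surjective_of_isColimit
    (isColimitOfPreserves (coyoneda.obj (op (P.diag.obj i))) hd) (P.ι.app i ≫ kernel.ι m)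
  let a : P.diag.obj i ⟶ (Q.obj (K.obj j)).obj := a₀
  have ha' : a ≫ d.ι.app j = P.ι.app i ≫ kernel.ι m := ha
  have h0 := comp_zero_aux ha' (kernel.condition m) (hm j) (adj.counit_naturality (c.ι.app j))
  haveI := preservesColimit_hom_coh h𝔛 (hP i) K
  obtain ⟨k, f, g, hfg⟩ := (Types.FilteredColimit.isColimit_eq_iff _
    (isColimitOfPreserves (coyoneda.obj (op (P.diag.obj i))) hc)).1 h0
  have h2 : a ≫ (Q.map (K.map f)).hom = 0 :=
    coreflect_unique h𝔛 adj hGq _ _ (comp_zero_next hfg (adj.counit_naturality (K.map f)))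
  refine ha'.symm.trans (((congrArg (a ≫ ·) (d.w f)).symm.trans ?_))
  exact (Category.assoc _ _ _).symm.trans ((congrArg (· ≫ d.ι.app k) h2).trans zero_comp)

include adj hc hm in
theorem epi_cmp : Epi m := by
  obtain ⟨I, _, _, P, hP, hmono⟩ := limPres_of_qt (qt_of_isQCT h𝔛 (Q.obj c.pt).property.1 (Q.obj c.pt).property.2)
  refine ⟨fun {Z} x y hxy => P.isColimit.hom_ext fun i => ?_⟩
  haveI := hmono i
  have hGq := isQCT_of_mono_coh h𝔛 (P.ι.app i) (hP i) (Q.obj c.pt).property.1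
  haveI := preservesColimit_hom_coh h𝔛 (hP i) K
  obtain ⟨j, q₀, hq⟩ := Types.jointly_surjective_of_isColimit
    (isColimitOfPreserves (coyoneda.obj (op (P.diag.obj i))) hc) (P.ι.app i ≫ adj.counit.app c.pt)
  let q : P.diag.obj i ⟶ K.obj j := q₀
  obtain ⟨q', hq'⟩ := coreflect_exists h𝔛 adj hGq q
  have e : P.ι.app i = (q' ≫ d.ι.app j) ≫ m :=
    coreflect_unique h𝔛 adj hGq _ _ (comp_eq_aux hq hq' (hm j) (adj.counit_naturality (c.ι.app j)))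
  show P.ι.app i ≫ x = P.ι.app i ≫ y
  exact (congrArg (· ≫ x) e).trans ((Category.assoc _ _ _).trans ((congrArg ((q' ≫ d.ι.app j) ≫ ·) hxy).trans
    ((Category.assoc _ _ _).symm.trans (congrArg (· ≫ y) e).symm)))

end coreflect

theorem preservesColimit_coreflect (Q : FSch.ModF 𝔛 h𝔛.1 ⥤ (FTors.IsQCT 𝔛 h𝔛.1).FullSubcategory)
    (adj : (FTors.IsQCT 𝔛 h𝔛.1).ι ⊣ Q) {J : Type u} [SmallCategory J] [IsFiltered J] (K : J ⥤ FSch.ModF 𝔛 h𝔛.1) :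
    PreservesColimit K Q := by
  refine ⟨fun {c} hc => ⟨isColimitOfReflects (FTors.IsQCT 𝔛 h𝔛.1).ι ?_⟩⟩
  let D := (K ⋙ Q) ⋙ (FTors.IsQCT 𝔛 h𝔛.1).ι
  let cQ : Cocone D := (FTors.IsQCT 𝔛 h𝔛.1).ι.mapCocone (Q.mapCocone c)
  let m : colimit D ⟶ cQ.pt := colimit.desc D cQ
  haveI : Mono m := mono_cmp h𝔛 adj hc (colimit.isColimit D) m (fun j => colimit.ι_desc cQ j)
  haveI : Epi m := epi_cmp h𝔛 adj hc (d := colimit.cocone D) m (fun j => colimit.ι_desc cQ j)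
  haveI : IsIso m := isIso_of_mono_of_epi m
  exact IsColimit.ofPointIso (colimit.isColimit D) (i := ‹IsIso m›)

end Groth.Agent.FSchCoh
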