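import Groth.Agent.FSchCoh.QCTInd
import Groth.Agent.FSchCoh.LimCoreflect

/-!
# The coreflection onto quasi-coherent torsion modules
-/

universe u

open CategoryTheory CategoryTheory.Limits AlgebraicGeometry TopologicalSpace Opposite
open Groth.Agent.RSFin (sc rsR Gen Rel spanOn)

set_option autoImplicit false
set_option backward.isDefEq.respectTransparency false
set_option linter.style.haveILetI false

noncomputable section

namespace Groth.Agent.FSchCoh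

variable {𝔛 : FSch.Sys.{u}} (h𝔛 : 𝔛.IsLocNoethFormal)

/-- a map out of a torsion module lands in the torsion submodule -/
def gammaLift {P N : FSch.ModF 𝔛 h𝔛.1} (hP : FTors.IsTorsF 𝔛 h𝔛.1 P) (l : P ⟶ N) :
    P ⟶ (FTors.gammaT 𝔛 h𝔛.1).obj N :=
  ⟨PresheafOfModules.homMk
    { app := fun V => AddCommGrpCat.ofHom
        { toFun := fun s => ⟨l.val.app V s, FTors.IsTorsSect.hom l (hP (unop V) s)⟩
          map_zero' := Subtype.ext (map_zero (l.val.app V).hom)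
          map_add' := fun s t => Subtype.ext (map_add (l.val.app V).hom s t) }
      naturality := fun V W g => by
        ext s
        apply Subtype.ext
        exact PresheafOfModules.naturality_apply l.val g s }
    (fun V r s => Subtype.ext ((l.val.app V).hom.map_smul r s))⟩

theorem ap_gammaι_lift {P N : FSch.ModF 𝔛 h𝔛.1} (hP : FTors.IsTorsF 𝔛 h𝔛.1 P) (l : P ⟶ N)
    (V : (𝔛.X 0).Opens) (s : ModSite.sect P V) :
    RSFin.ap ((FTors.gammaTι 𝔛 h𝔛.1).app N) V (RSFin.ap (gammaLift h𝔛 hP l) V s) = RSFin.ap l V s := rfl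

theorem gammaLift_ι {P N : FSch.ModF 𝔛 h𝔛.1} (hP : FTors.IsTorsF 𝔛 h𝔛.1 P) (l : P ⟶ N) :
    gammaLift h𝔛 hP l ≫ (FTors.gammaTι 𝔛 h𝔛.1).app N = l := by
  apply SheafOfModules.hom_ext
  ext V s
  rfl

theorem mono_gammaι (N : FSch.ModF 𝔛 h𝔛.1) : Mono ((FTors.gammaTι 𝔛 h𝔛.1).app N) :=
  RSFin.mono_of_injective _ fun _ _ _ e => Subtype.ext e

theorem exists_qct_terminal (N : FSch.ModF 𝔛 h𝔛.1) :
    ∃ (T : FSch.ModF 𝔛 h𝔛.1) (ε : T ⟶ N), FTors.IsQCT 𝔛 h𝔛.1 T ∧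
      ∀ (P : FSch.ModF 𝔛 h𝔛.1) (_ : FTors.IsQCT 𝔛 h𝔛.1 P) (p : P ⟶ N), ∃! l : P ⟶ T, l ≫ ε = p := by
  obtain ⟨T, ε, hT, hu⟩ := exists_terminal h𝔛 N
  haveI := mono_gammaι h𝔛 T
  refine ⟨(FTors.gammaT 𝔛 h𝔛.1).obj T, (FTors.gammaTι 𝔛 h𝔛.1).app T ≫ ε,
    (qt_gamma h𝔛 (isQuasicoherent_of_limPres h𝔛 hT)).isQCT, fun P hP p => ?_⟩
  obtain ⟨l, hl, huniq⟩ := hu P (limPres_of_qt (qt_of_isQCT h𝔛 hP.1 hP.2)) p
  refine ⟨gammaLift h𝔛 hP.1 l, ?_, fun l' hl' => ?_⟩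
  · show gammaLift h𝔛 hP.1 l ≫ _ ≫ ε = p
    rw [← Category.assoc, gammaLift_ι]
    exact hl
  · refine (cancel_mono ((FTors.gammaTι 𝔛 h𝔛.1).app T)).1 ?_
    rw [gammaLift_ι]
    exact huniq _ ((Category.assoc _ _ _).trans hl')

theorem isLeftAdjoint_qct : (FTors.IsQCT 𝔛 h𝔛.1).ι.IsLeftAdjoint := by
  let P := FTors.IsQCT 𝔛 h𝔛.1
  haveI : ∀ N, HasTerminal (CostructuredArrow P.ι N) := fun N => by
    obtain ⟨T, ε, hT, hu⟩ := exists_qct_terminal h𝔛 N
    let T' : CostructuredArrow P.ι N := CostructuredArrow.mk (S := P.ι) (Y := (⟨T, hT⟩ : P.FullSubcategory))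
      (show P.ι.obj ⟨T, hT⟩ ⟶ N from ε)
    refine (IsTerminal.ofUniqueHom (Y := T') (fun a => CostructuredArrow.homMk
      (ObjectProperty.homMk (hu a.left.obj a.left.property a.hom).choose)
      (show _ ≫ ε = a.hom from (hu a.left.obj a.left.property a.hom).choose_spec.1)) fun a m => ?_).hasTerminal
    apply CostructuredArrow.hom_ext
    apply ObjectProperty.hom_ext
    exact (hu a.left.obj a.left.property a.hom).choose_spec.2 _ (CostructuredArrow.w m)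
  exact isLeftAdjoint_of_costructuredArrowTerminals _

end Groth.Agent.FSchCoh
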