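import Groth.Agent.FSchCoh.QCT

/-!
# Sums, colimits, torsion submodules and extensions of quasi-coherent torsion modules
-/

universe u

open CategoryTheory CategoryTheory.Limits AlgebraicGeometry TopologicalSpace Opposite
open Groth.Agent.RSFin (sc rsR Gen Rel spanOn)
open Groth.Agent.FSchCoh.LimGen (JointSurj)

set_option autoImplicit false
set_option backward.isDefEq.respectTransparency false
set_option linter.style.haveILetI false

noncomputable section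

namespace Groth.Agent.FSchCoh

variable {𝔛 : FSch.Sys.{u}} (h𝔛 : 𝔛.IsLocNoethFormal)

theorem killedBy_reflect {K F : FSch.ModF 𝔛 h𝔛.1} (i : K ⟶ F)
    (hi : ∀ V, Function.Injective (RSFin.ap i V)) {n : ℕ} {V : (𝔛.X 0).Opens} {t : ModSite.sect K V}
    (h : FTors.KilledBy (FTors.openIdealFam 𝔛 h𝔛.1) F n (RSFin.ap i V t)) :
    FTors.KilledBy (FTors.openIdealFam 𝔛 h𝔛.1) K n t := fun W g b hb => hi W (by
  rw [map_smul, map_zero, show RSFin.ap i W (FTors.res K g t) = FTors.res F g (RSFin.ap i V t) from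
    (FTors.res_hom K i g t).symm]
  exact h g b hb)

theorem isTors_of_injective {K F : FSch.ModF 𝔛 h𝔛.1} (i : K ⟶ F)
    (hi : ∀ V, Function.Injective (RSFin.ap i V)) (hF : FTors.IsTorsF 𝔛 h𝔛.1 F) : FTors.IsTorsF 𝔛 h𝔛.1 K :=
  fun V t => (isTorsSect_iff h𝔛 t).2 fun y hy => by
    obtain ⟨W, hW, n, hyW, hn⟩ := (isTorsSect_iff h𝔛 _).1 (hF V (RSFin.ap i V t)) y hy
    exact ⟨W, hW, n, hyW, killedBy_reflect h𝔛 i hi (by rwa [RSFin.ap_rs])⟩

theorem isTors_of_jointSurj {Q : FSch.ModF 𝔛 h𝔛.1} {A : Type u} {G : A → FSch.ModF 𝔛 h𝔛.1} {f : ∀ a, G a ⟶ Q}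
    (hf : JointSurj f) (hG : ∀ a, FTors.IsTorsF 𝔛 h𝔛.1 (G a)) : FTors.IsTorsF 𝔛 h𝔛.1 Q :=
  fun V t => (isTorsSect_iff h𝔛 t).2 fun y hy => by
    classical
    obtain ⟨W, hW, L, _, a, g, hyW, hg⟩ := hf t y hy
    have h1 : FTors.IsTorsSect (FTors.openIdealFam 𝔛 h𝔛.1) Q (RSFin.rs Q hW t) := by
      rw [← hg]
      exact Submodule.sum_mem (FTors.torsSub (FTors.openIdealFam 𝔛 h𝔛.1) Q W)
        fun l _ => FTors.IsTorsSect.hom (f (a l)) (hG (a l) W (g l))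
    obtain ⟨W', hW', n, hyW', hn⟩ := (isTorsSect_iff h𝔛 _).1 h1 y hyW
    exact ⟨W', hW'.trans hW, n, hyW', by rwa [RSFin.rs_rs] at hn⟩

theorem isTors_of_epi {P Q : FSch.ModF 𝔛 h𝔛.1} (π : P ⟶ Q) [Epi π] (hP : FTors.IsTorsF 𝔛 h𝔛.1 P) :
    FTors.IsTorsF 𝔛 h𝔛.1 Q :=
  fun V t => (isTorsSect_iff h𝔛 t).2 fun y hy => by
    obtain ⟨W, hW, b, hyW, hb⟩ := RSFin.epi_locally π t hy
    have h1 : FTors.IsTorsSect (FTors.openIdealFam 𝔛 h𝔛.1) Q (RSFin.rs Q hW t) :=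
      hb ▸ FTors.IsTorsSect.hom π (hP W b)
    obtain ⟨W', hW', n, hyW', hn⟩ := (isTorsSect_iff h𝔛 _).1 h1 y hyW
    exact ⟨W', hW'.trans hW, n, hyW', by rwa [RSFin.rs_rs] at hn⟩

theorem exists_support {J : Type u} [DecidableEq J] (D : J → FSch.ModF 𝔛 h𝔛.1) {U : (𝔛.X 0).Opens}
    (hU : IsAffineOpen U) (t : ModSite.sect (∐ D) U) :
    ∃ T : Finset J, ∑ j ∈ T, RSFin.ap (sigmaPr D j ≫ Sigma.ι D j) U t = t := by
  classical
  choose W hW L hL a g hyW hg using fun y : U => jointSurj_sigma D t y.1 y.2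
  obtain ⟨P, hP⟩ := hU.isCompact.elim_finite_subcover (fun y : U => (W y : Set (𝔛.X 0))) (fun y => (W y).isOpen)
    fun y hy => (Set.mem_iUnion (s := fun a : U => (W a : Set (𝔛.X 0)))).2 ⟨⟨y, hy⟩, hyW _⟩
  haveI := hL
  let T := P.biUnion fun y => Finset.univ.image (a y)
  refine ⟨T, RSFin.eq_of_locally _ _ _ fun y hy => ?_⟩
  obtain ⟨z, hz, hyz⟩ := Set.mem_iUnion₂.1 (hP hy)
  refine ⟨W z, hW z, hyz, ?_⟩
  rw [map_sum]
  simp only [← RSFin.ap_rs, ← hg z, map_sum]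
  rw [Finset.sum_comm]
  refine Finset.sum_congr (by ext; simp) fun l _ => ?_
  exact sum_sigmaPr D T (Finset.mem_biUnion.2 ⟨z, hz, Finset.mem_image_of_mem _ (Finset.mem_univ l)⟩) _

theorem qt_sigma {J : Type u} (D : J → FSch.ModF 𝔛 h𝔛.1) (hD : ∀ j, QT h𝔛 (D j)) : QT h𝔛 (∐ D) := by
  classical
  refine ⟨torsAff_of_isTors h𝔛 (isTors_of_jointSurj h𝔛 (jointSurj_sigma D)
    fun j => isTors_of_torsAff h𝔛 (hD j).tors), fun U W hU a d t ht => ?_, fun U W hU a d t => ?_⟩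
  · obtain ⟨T, hT⟩ := exists_support h𝔛 D hU t
    choose k hk using fun j => (hD j).zero hU d (RSFin.ap (sigmaPr D j) U t) (by rw [← RSFin.ap_rs, ht, map_zero])
    refine ⟨T.sup k, ?_⟩
    rw [← hT, Finset.smul_sum]
    refine Finset.sum_eq_zero fun j hj => ?_
    rw [RSFin.ap_comp, ← map_smul, ← Nat.sub_add_cancel (Finset.le_sup (f := k) hj), pow_add, mul_smul, hk j,
      smul_zero, map_zero]
  · obtain ⟨T, hT⟩ := exists_support h𝔛 D d.affine t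
    choose k z hz using fun j => (hD j).ext hU d (RSFin.ap (sigmaPr D j) W t)
    refine ⟨T.sup k, ∑ j ∈ T, RSFin.ap (Sigma.ι D j) U ((show sc (𝔛.Osh h𝔛.1) U from a) ^ (T.sup k - k j) • z j), ?_⟩
    conv_rhs => rw [← hT]
    rw [map_sum, Finset.smul_sum]
    refine Finset.sum_congr rfl fun j hj => ?_
    rw [← RSFin.ap_rs, RSFin.rs_smul, hz, map_pow, smul_smul, RSFin.ap_comp, ← map_smul]
    rw [map_smul, map_smul]
    refine congrArg (fun r : sc (𝔛.Osh h𝔛.1) W => r • RSFin.ap (Sigma.ι D j) W (RSFin.ap (sigmaPr D j) W t)) ?_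
    exact (pow_add _ _ _).symm.trans (congrArg _ (Nat.sub_add_cancel (Finset.le_sup (f := k) hj)))

theorem qt_cokernel {R P : FSch.ModF 𝔛 h𝔛.1} (φ : R ⟶ P) (hR : QT h𝔛 R) (hP : QT h𝔛 P) : QT h𝔛 (cokernel φ) :=
  qt_of_isQCT h𝔛 (isTors_of_epi h𝔛 (cokernel.π φ) (isTors_of_torsAff h𝔛 hP.tors))
    (isQuasicoherent_cokernel (h𝔛 := h𝔛) φ hR.isQuasicoherent hP.isQuasicoherent)

theorem qt_kernel {P Q : FSch.ModF 𝔛 h𝔛.1} (φ : P ⟶ Q) (hP : QT h𝔛 P) (hQ : QT h𝔛 Q) : QT h𝔛 (kernel φ) :=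
  qt_of_isQCT h𝔛 (isTors_of_injective h𝔛 (kernel.ι φ) (RSFin.injective_of_mono _) (isTors_of_torsAff h𝔛 hP.tors))
    (isQuasicoherent_kernel (h𝔛 := h𝔛) φ hP.isQuasicoherent hQ.isQuasicoherent)

theorem qt_of_iso {F G : FSch.ModF 𝔛 h𝔛.1} (e : F ≅ G) (hF : QT h𝔛 F) : QT h𝔛 G :=
  qt_of_isQCT h𝔛 (isTors_of_epi h𝔛 e.hom (isTors_of_torsAff h𝔛 hF.tors))
    (ObjectProperty.prop_of_iso (SheafOfModules.isQuasicoherent (ModSite.ringSh (𝔛.Osh h𝔛.1))) e hF.isQuasicoherent)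

theorem qt_of_colimit {J : Type u} [SmallCategory J] {Q : FSch.ModF 𝔛 h𝔛.1} (P : ColimitPresentation J Q)
    (hP : ∀ j, QT h𝔛 (P.diag.obj j)) : QT h𝔛 Q := by
  let src : (Σ i j : J, i ⟶ j) → FSch.ModF 𝔛 h𝔛.1 := fun m => P.diag.obj m.1
  let δ : ∐ src ⟶ ∐ P.diag.obj := Sigma.desc fun m =>
    Sigma.ι P.diag.obj m.1 - P.diag.map m.2.2 ≫ Sigma.ι P.diag.obj m.2.1
  let π : ∐ P.diag.obj ⟶ Q := Sigma.desc fun j => P.ι.app j
  have hπ : δ ≫ π = 0 := Sigma.hom_ext _ _ fun m => by simp [δ, π, src]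
  let c : Cocone P.diag :=
    { pt := cokernel δ
      ι :=
        { app := fun j => Sigma.ι P.diag.obj j ≫ cokernel.π δ
          naturality := fun i j u => by
            have := congrArg (fun t => Sigma.ι src ⟨i, j, u⟩ ≫ t) (cokernel.condition δ)
            simp only [δ, Sigma.ι_desc_assoc, comp_zero, Preadditive.sub_comp, Category.assoc, sub_eq_zero] at this
            simpa using this.symm } }
  have hfac : ∀ j, P.ι.app j ≫ P.isColimit.desc c = Sigma.ι P.diag.obj j ≫ cokernel.π δ := fun j => P.isColimit.fac c j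
  let e : cokernel δ ≅ Q :=
    { hom := cokernel.desc δ π hπ
      inv := P.isColimit.desc c
      hom_inv_id := (cancel_epi (cokernel.π δ)).1 (Sigma.hom_ext _ _ fun j => by simp [π, hfac])
      inv_hom_id := P.isColimit.hom_ext fun j => by
        show P.ι.app j ≫ _ = P.ι.app j ≫ _
        rw [← Category.assoc, hfac]
        simp [π] }
  exact qt_of_iso h𝔛 e (qt_cokernel h𝔛 δ (qt_sigma h𝔛 src fun m => hP m.1) (qt_sigma h𝔛 P.diag.obj hP))

/-- relations killed by several scalar multiples of finitely many sections are finitely generated -/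
theorem exists_rel_vec {F : FSch.ModF 𝔛 h𝔛.1} {U : (𝔛.X 0).Opens}
    (hF : ∀ {ι : Type} [Fintype ι] (q : ι → ModSite.sect F U),
      ∃ (κ : Type) (_ : Fintype κ) (r : κ → ι → sc (𝔛.Osh h𝔛.1) U), Rel F q r)
    {ι : Type} [Fintype ι] [DecidableEq ι] :
    ∀ {n : ℕ} (v : Fin n → ι → ModSite.sect F U),
      ∃ (κ : Type) (_ : Fintype κ) (e : κ → ι → sc (𝔛.Osh h𝔛.1) U), (∀ k a, ∑ j, e k j • v a j = 0) ∧
        ∀ ⦃V : (𝔛.X 0).Opens⦄ (h : V ≤ U) (d : ι → sc (𝔛.Osh h𝔛.1) V),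
          (∀ a, ∑ j, d j • RSFin.rs F h (v a j) = 0) → ∀ y ∈ V, ∃ (W : (𝔛.X 0).Opens) (hW : W ≤ V), y ∈ W ∧
            ∃ f : κ → sc (𝔛.Osh h𝔛.1) W, ∀ j, ∑ k, f k * rsR (hW.trans h) (e k j) = rsR hW (d j)
  | 0, v => by
    refine ⟨ι, inferInstance, fun k => Pi.single k 1, fun k a => a.elim0, fun V h d _ y hy =>
      ⟨V, le_rfl, hy, d, fun j => ?_⟩⟩
    rw [RSFin.rsR_self, Finset.sum_eq_single j (fun k _ hk => by simp [Ne.symm hk]) (by simp)]
    simp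
  | q + 1, v => by
    obtain ⟨κ, hκ, e, he, hgen⟩ := exists_rel_vec hF fun a : Fin q => v a.succ
    obtain ⟨lam, hlam, r, hr⟩ := hF fun k => ∑ j, e k j • v 0 j
    refine ⟨lam, hlam, fun l j => ∑ k, r l k * e k j, fun l a => ?_, fun V h d hd y hy => ?_⟩
    · simp only [Finset.sum_smul, mul_smul]
      rw [Finset.sum_comm]
      simp only [← Finset.smul_sum]
      induction a using Fin.cases with
      | zero => exact hr.1 l
      | succ a => simp [he _ a]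
    · obtain ⟨W, hW, hyW, f, hf⟩ := hgen h d (fun a => hd a.succ) y hy
      have hf0 : ∑ k, f k • RSFin.rs F (hW.trans h) (∑ j, e k j • v 0 j) = 0 := by
        simp only [map_sum, RSFin.rs_smul, Finset.smul_sum, smul_smul]
        rw [Finset.sum_comm]
        simp only [← Finset.sum_smul, hf]
        have := congrArg (RSFin.rs F hW) (hd 0)
        simpa only [map_sum, RSFin.rs_smul, RSFin.rs_rs, map_zero] using this
      obtain ⟨W', hW', hyW', hm⟩ := hr.2 (hW.trans h) f hf0 y hyW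
      obtain ⟨g, hg⟩ := (Submodule.mem_span_range_iff_exists_fun _).1 hm
      refine ⟨W', hW'.trans hW, hyW', g, fun j => ?_⟩
      rw [← RSFin.rsR_rsR hW' hW, ← hf j]
      simp only [map_sum, map_mul, RSFin.rsR_rsR, Finset.mul_sum, ← mul_assoc]
      rw [Finset.sum_comm]
      simp only [← Finset.sum_mul]
      refine Finset.sum_congr rfl fun k _ => congrArg (· * _) ?_
      have := congrFun hg k
      simpa only [Finset.sum_apply, Pi.smul_apply, smul_eq_mul] using this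

theorem exists_pow_gens {U : (𝔛.X 0).Opens} (hU : IsAffineOpen U) (n : ℕ) :
    ∃ (m : ℕ) (g : Fin m → OA 𝔛 h𝔛.1 U), Ideal.span (Set.range g) = JA 𝔛 h𝔛.1 U ^ (n + 1) := by
  haveI := (main 𝔛 h𝔛.1 h𝔛 hU).1
  obtain ⟨m, g, hg⟩ := Submodule.fg_iff_exists_fin_generating_family.1
    (IsNoetherian.noetherian (JA 𝔛 h𝔛.1 U ^ (n + 1)))
  exact ⟨m, g, hg⟩

theorem qcu_gamma {M : FSch.ModF 𝔛 h𝔛.1} {U₀ : (𝔛.X 0).Opens} (hM : QCU h𝔛 M U₀) :
    QCU h𝔛 ((FTors.gammaT 𝔛 h𝔛.1).obj M) U₀ := by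
  classical
  intro W hW hle
  obtain ⟨hgM, hrM⟩ := hM hW hle
  let K := (FTors.gammaT 𝔛 h𝔛.1).obj M
  let i : K ⟶ M := (FTors.gammaTι 𝔛 h𝔛.1).app M
  have hi : ∀ V, Function.Injective (RSFin.ap i V) := fun V a b e => Subtype.ext e
  refine ⟨fun V hV t y hy => ?_, fun q => ?_⟩
  · obtain ⟨W₀, hW₀, n, hyW₀, hn⟩ := (isTorsSect_iff h𝔛 (RSFin.ap i V t)).1 t.2 y hy
    obtain ⟨W₁, hW₁, L, e, d, hyW₁, hd⟩ := exists_fin_comb (h𝔛 := h𝔛) hgM (hW₀.trans hV)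
      (RSFin.rs M hW₀ (RSFin.ap i V t)) hyW₀
    obtain ⟨m, g, hg⟩ := exists_pow_gens h𝔛 hW n
    obtain ⟨κ, hκ, r, hr0, hr⟩ := exists_rel_vec h𝔛 hrM fun (a : Fin m) (l : Fin L) =>
      (show sc (𝔛.Osh h𝔛.1) W from g a) • e l
    let k : κ → ModSite.sect M W := fun c => ∑ l, r c l • e l
    have hk : ∀ c, FTors.IsTorsSect (FTors.openIdealFam 𝔛 h𝔛.1) M (k c) := fun c =>
      FTors.IsTorsSect.of_killedBy ((killedBy_iff h𝔛 hW (k c)).2 fun b hb => by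
        rw [← hg] at hb
        induction hb using Submodule.span_induction with
        | mem x hx =>
          obtain ⟨a, rfl⟩ := hx
          rw [← hr0 c a, Finset.smul_sum]
          exact Finset.sum_congr rfl fun l _ => smul_comm _ _ _
        | zero => exact zero_smul (sc (𝔛.Osh h𝔛.1) W) _
        | add x y _ _ hx hy => exact (add_smul (show sc (𝔛.Osh h𝔛.1) W from x) y _).trans (by rw [hx, hy, add_zero])
        | smul c' x _ hx => exact (mul_smul (show sc (𝔛.Osh h𝔛.1) W from c') x _).trans (by rw [hx, smul_zero]))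
    have h0 : ∀ a, ∑ l, d l • RSFin.rs M (hW₁.trans (hW₀.trans hV)) ((show sc (𝔛.Osh h𝔛.1) W from g a) • e l) = 0 :=
      fun a => by
      have hga : (rsR (hW₀.trans hV) (show sc (𝔛.Osh h𝔛.1) W from g a) : sc (𝔛.Osh h𝔛.1) W₀) ∈
          (FTors.openIdealFam 𝔛 h𝔛.1).ideal n W₀ := by
        refine (FTors.openIdealFam 𝔛 h𝔛.1).map_mem n (homOfLE (hW₀.trans hV)) ((FTors.mem_openIdealFam_iff _ _ _ _ _).2 ?_)
        have : g a ∈ JA 𝔛 h𝔛.1 W ^ (n + 1) := hg ▸ Ideal.subset_span ⟨a, rfl⟩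
        rw [← (main 𝔛 h𝔛.1 h𝔛 hW).2.2 n, RingHom.mem_ker] at this
        exact this
      have h1 := hn (𝟙 W₀) _ hga
      rw [FTors.res_id] at h1
      have h2 := congrArg (RSFin.rs M hW₁) h1
      rw [RSFin.rs_smul, RSFin.rsR_rsR, ← hd, Finset.smul_sum, map_zero] at h2
      refine Eq.trans (Finset.sum_congr rfl fun l _ => ?_) h2
      rw [RSFin.rs_smul, smul_comm]
    obtain ⟨W₂, hW₂, hyW₂, f, hf⟩ := hr (hW₁.trans (hW₀.trans hV)) d h0 y hyW₁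
    have hle₂ : W₂ ≤ V := hW₂.trans (hW₁.trans hW₀)
    refine ⟨W₂, hle₂, hyW₂, ?_⟩
    have e1 : RSFin.rs K hle₂ t =
        ∑ c, f c • RSFin.rs K (hle₂.trans hV) (⟨k c, hk c⟩ : ModSite.sect K W) := by
      refine hi W₂ ?_
      rw [map_sum, RSFin.ap_rs, ← RSFin.rs_rs M (hW₂.trans hW₁) hW₀, ← RSFin.rs_rs M hW₂ hW₁, ← hd, map_sum]
      simp only [map_smul, RSFin.ap_rs, RSFin.rs_smul, RSFin.rs_rs]
      have hc : ∀ c, RSFin.ap i W (⟨k c, hk c⟩ : ModSite.sect K W) = k c := fun c => rfl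
      simp only [hc, k, map_sum, RSFin.rs_smul, Finset.smul_sum, smul_smul]
      rw [Finset.sum_comm]
      refine Finset.sum_congr rfl fun l _ => ?_
      rw [← Finset.sum_smul, hf l]
    rw [e1]
    exact Submodule.sum_mem _ fun c _ => Submodule.smul_mem _ _ (Submodule.subset_span ⟨_, rfl⟩)
  · obtain ⟨κ, hκ, r, hr⟩ := hrM fun k => RSFin.ap i W (q k)
    refine ⟨κ, hκ, r, fun l => hi W ?_, fun V h c hc x hx => hr.2 h c ?_ x hx⟩
    · rw [map_zero, map_sum, ← hr.1 l]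
      exact Finset.sum_congr rfl fun k _ => map_smul _ _ _
    · have := congrArg (RSFin.ap i V) hc
      rw [map_sum, map_zero] at this
      refine Eq.trans (Finset.sum_congr rfl fun k _ => ?_) this
      rw [map_smul, RSFin.ap_rs]

theorem qt_gamma {M : FSch.ModF 𝔛 h𝔛.1}
    (hM : SheafOfModules.IsQuasicoherent.{u} (R := ModSite.ringSh (𝔛.Osh h𝔛.1)) M) :
    QT h𝔛 ((FTors.gammaT 𝔛 h𝔛.1).obj M) := by
  refine qt_of_isQCT h𝔛 (fun V t => (isTorsSect_iff h𝔛 t).2 fun y hy => ?_)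
    (isQuasicoherent_of_qcu (h𝔛 := h𝔛) fun x => by
      obtain ⟨U, hx, hU⟩ := exists_qcu (h𝔛 := h𝔛) hM x
      exact ⟨U, hx, qcu_gamma h𝔛 hU⟩)
  obtain ⟨W, hW, n, hyW, hn⟩ := (isTorsSect_iff h𝔛 (RSFin.ap ((FTors.gammaTι 𝔛 h𝔛.1).app M) V t)).1 t.2 y hy
  exact ⟨W, hW, n, hyW, killedBy_reflect h𝔛 ((FTors.gammaTι 𝔛 h𝔛.1).app M) (fun _ a b e => Subtype.ext e)
    (by rwa [RSFin.ap_rs])⟩

theorem rs_shift {M : FSch.ModF 𝔛 h𝔛.1} {U V W : (𝔛.X 0).Opens} (hV : V ≤ U) (hW : W ≤ V) (hWU : W ≤ U)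
    (c : sc (𝔛.Osh h𝔛.1) U) (g : ModSite.sect M V) (w : ModSite.sect M W) {k N : ℕ} (h : k ≤ N)
    (hg : RSFin.rs M hW g = rsR hW (rsR hV c) ^ k • w) :
    RSFin.rs M hW (rsR hV c ^ (N - k) • g) = rsR hWU c ^ N • w := by
  rw [RSFin.rs_smul, map_pow, hg, smul_smul, ← pow_add, Nat.sub_add_cancel h, RSFin.rsR_rsR]

section ext

variable {K F Q : FSch.ModF 𝔛 h𝔛.1} (i : K ⟶ F) [Mono i] (π : F ⟶ Q)
  (hz : ∀ (U : (𝔛.X 0).Opens) t, RSFin.ap π U (RSFin.ap i U t) = 0)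
  (hlift : ∀ (U : (𝔛.X 0).Opens) t, RSFin.ap π U t = 0 → ∃ k, RSFin.ap i U k = t)

include hlift in
theorem exists_pow_smul_eq_zero (hK : QT h𝔛 K) {U W : (𝔛.X 0).Opens} (hU : IsAffineOpen U) {a : OA 𝔛 h𝔛.1 U}
    (d : IsDist 𝔛 h𝔛.1 U a W) (x : ModSite.sect F U) (hx : RSFin.ap π U x = 0) (hx0 : RSFin.rs F d.le x = 0) :
    ∃ j : ℕ, (show sc (𝔛.Osh h𝔛.1) U from a) ^ j • x = 0 := by
  obtain ⟨y, rfl⟩ := hlift U x hx
  obtain ⟨j, hj⟩ := hK.zero hU d y (RSFin.injective_of_mono i W (by rw [RSFin.ap_rs, hx0, map_zero]))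
  exact ⟨j, by rw [← map_smul, hj, map_zero]⟩

include hz hlift in
theorem exists_lift_cover (hK : QT h𝔛 K) {U : (𝔛.X 0).Opens} (hU : IsAffineOpen U) {P : Type u} [Fintype P]
    (A : P → OA 𝔛 h𝔛.1 U) (V : P → (𝔛.X 0).Opens) (dV : ∀ p, IsDist 𝔛 h𝔛.1 U (A p) (V p))
    (hcov : ∀ y ∈ U, ∃ p, y ∈ V p) (q : ModSite.sect Q U) (b : ∀ p, ModSite.sect F (V p))
    (hb : ∀ p, RSFin.ap π (V p) (b p) = RSFin.rs Q (dV p).le q) :
    ∃ z, RSFin.ap π U z = q := by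
  classical
  have eL : ∀ l p : P, V l ⊓ V p ≤ V l := fun l p => inf_le_left
  have eR : ∀ l p : P, V l ⊓ V p ≤ V p := fun l p => inf_le_right
  have eU : ∀ l p : P, V l ⊓ V p ≤ U := fun l p => (eL l p).trans (dV l).le
  let C : P → sc (𝔛.Osh h𝔛.1) U := A
  choose w hw using fun l p : P => hlift (V l ⊓ V p) (RSFin.rs F (eL l p) (b l) - RSFin.rs F (eR l p) (b p))
    (by rw [map_sub, RSFin.ap_rs, RSFin.ap_rs, hb, hb, RSFin.rs_rs, RSFin.rs_rs, sub_self])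
  choose k g hg using fun l p : P => hK.ext (dV p).affine (IsDist.inter h𝔛 (dV l) (dV p) hU) (w l p)
  obtain ⟨N, hN⟩ : ∃ N, ∀ l p, k l p ≤ N :=
    ⟨Finset.univ.sup fun lp : P × P => k lp.1 lp.2,
      fun l p => Finset.le_sup (f := fun lp : P × P => k lp.1 lp.2) (Finset.mem_univ (l, p))⟩
  let G : ∀ l p : P, ModSite.sect F (V p) := fun l p =>
    rsR (dV p).le (C l) ^ (N - k l p) • RSFin.ap i (V p) (g l p)
  have hG : ∀ l p : P, RSFin.rs F (eR l p) (G l p) =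
      rsR (eU l p) (C l) ^ N • (RSFin.rs F (eL l p) (b l) - RSFin.rs F (eR l p) (b p)) := fun l p =>
    rs_shift (M := F) h𝔛 (dV p).le (eR l p) (eU l p) (C l) _ _ (hN l p)
      ((RSFin.ap_rs i (eR l p) (g l p)).symm.trans
        (((congrArg (RSFin.ap i _) (hg l p)).trans (map_smul _ _ _)).trans (congrArg _ (hw l p))))
  have hGz : ∀ l p : P, RSFin.ap π (V p) (G l p) = 0 := fun l p => by
    simp only [G, map_smul, hz, smul_zero]
  clear_value G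
  have hov : ∀ l p p' : P, ∃ j : ℕ, rsR (eU p p') (C l) ^ j •
      (RSFin.rs F (eL p p') (G l p) - RSFin.rs F (eR p p') (G l p') -
        rsR (eU p p') (C l) ^ N • (RSFin.rs F (eR p p') (b p') - RSFin.rs F (eL p p') (b p))) = 0 := fun l p p' => by
    refine exists_pow_smul_eq_zero h𝔛 i π hlift hK (IsDist.mul h𝔛 (dV p) (dV p') hU).affine
      (IsDist.inter h𝔛 (dV l) (IsDist.mul h𝔛 (dV p) (dV p') hU) hU)
      (RSFin.rs F (eL p p') (G l p) - RSFin.rs F (eR p p') (G l p') -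
        rsR (eU p p') (C l) ^ N • (RSFin.rs F (eR p p') (b p') - RSFin.rs F (eL p p') (b p))) ?_ ?_
    · simp only [map_sub, map_smul, RSFin.ap_rs, hGz, hb, map_zero, RSFin.rs_rs, sub_self, smul_zero]
    · have e1 : V l ⊓ (V p ⊓ V p') ≤ V l ⊓ V p := inf_le_inf_left _ inf_le_left
      have e2 : V l ⊓ (V p ⊓ V p') ≤ V l ⊓ V p' := inf_le_inf_left _ inf_le_right
      simp only [map_sub, RSFin.rs_smul, map_pow, RSFin.rsR_rsR]
      rw [RSFin.rs_rs, RSFin.rs_rs, ← RSFin.rs_rs F e1 (eR l p), ← RSFin.rs_rs F e2 (eR l p'), hG, hG]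
      simp only [map_sub, RSFin.rs_smul, map_pow, RSFin.rsR_rsR, RSFin.rs_rs, smul_sub]
      abel
  choose j hj using hov
  obtain ⟨M, hM⟩ : ∃ M, ∀ l p p', j l p p' ≤ M :=
    ⟨Finset.univ.sup fun m : P × P × P => j m.1 m.2.1 m.2.2,
      fun l p p' => Finset.le_sup (f := fun m : P × P × P => j m.1 m.2.1 m.2.2) (Finset.mem_univ (l, p, p'))⟩
  have hspan : Ideal.span ((fun x : OA 𝔛 h𝔛.1 U => x ^ (M + N)) '' Set.range A) = ⊤ :=
    Ideal.span_pow_eq_top _ (span_eq_top_of_cover h𝔛 hU A V dV hcov) _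
  rw [← Set.range_comp] at hspan
  obtain ⟨c, hc⟩ := (Submodule.mem_span_range_iff_exists_fun _).1 ((Ideal.eq_top_iff_one _).1 hspan)
  let D : P → sc (𝔛.Osh h𝔛.1) U := c
  have hD : ∑ l, D l * C l ^ (M + N) = 1 := hc
  let b' : ∀ p : P, ModSite.sect F (V p) := fun p => b p + ∑ l, rsR (dV p).le (D l * C l ^ M) • G l p
  obtain ⟨s, hs⟩ := exists_glue_sect h𝔛 V (fun p => (dV p).le) hcov b' fun p p' => by
    have key : ∀ l, rsR (eU p p') (D l * C l ^ M) • (RSFin.rs F (eL p p') (G l p) - RSFin.rs F (eR p p') (G l p')) =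
        rsR (eU p p') (D l * C l ^ (M + N)) • (RSFin.rs F (eR p p') (b p') - RSFin.rs F (eL p p') (b p)) := fun l => by
      rw [pow_add, ← mul_assoc, map_mul _ (D l * C l ^ M), map_pow _ (C l) N, mul_smul, ← sub_eq_zero, ← smul_sub,
        map_mul, map_pow, mul_smul, ← Nat.sub_add_cancel (hM l p p'), pow_add, mul_smul, hj, smul_zero, smul_zero]
    rw [← sub_eq_zero]
    show RSFin.rs F (eL p p') (b' p) - RSFin.rs F (eR p p') (b' p') = 0
    simp only [b', map_add, map_sum, RSFin.rs_smul, RSFin.rsR_rsR]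
    rw [add_sub_add_comm, ← Finset.sum_sub_distrib]
    simp only [← smul_sub]
    rw [Finset.sum_congr rfl fun l _ => key l, ← Finset.sum_smul, ← map_sum, hD, map_one, one_smul]
    abel
  refine ⟨s, RSFin.eq_of_locally Q _ _ fun y hy => ?_⟩
  obtain ⟨p, hp⟩ := hcov y hy
  refine ⟨V p, (dV p).le, hp, ?_⟩
  rw [← RSFin.ap_rs, hs p]
  simp only [b', map_add, map_sum, map_smul, hGz, smul_zero, Finset.sum_const_zero, add_zero]
  exact hb p

include hz hlift in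
/-- sections lift along an epimorphism with quasi-coherent torsion kernel over an affine open -/
theorem exists_lift [Epi π] (hK : QT h𝔛 K) {U : (𝔛.X 0).Opens} (hU : IsAffineOpen U) (q : ModSite.sect Q U) :
    ∃ z, RSFin.ap π U z = q := by
  classical
  choose W₁ hW₁ b₁ hyW₁ hb₁ using fun y : U => RSFin.epi_locally π q y.2
  choose a V hyV hVW dV using fun y : U => exists_dist 𝔛 h𝔛.1 hU (hW₁ y) (hyW₁ y)
  obtain ⟨P, hP⟩ := hU.isCompact.elim_finite_subcover (fun y : U => (V y : Set (𝔛.X 0))) (fun y => (V y).isOpen)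
    fun y hy => (Set.mem_iUnion (s := fun a : U => (V a : Set (𝔛.X 0)))).2 ⟨⟨y, hy⟩, hyV _⟩
  exact exists_lift_cover h𝔛 i π hz hlift hK hU (fun p : P => a p.1) (fun p => V p.1) (fun p => dV p.1)
    (fun y hy => by
      obtain ⟨z, hz, hyz⟩ := Set.mem_iUnion₂.1 (hP hy)
      exact ⟨⟨z, hz⟩, hyz⟩) q (fun p => RSFin.rs F (hVW p.1) (b₁ p.1))
    fun p => by rw [RSFin.ap_rs, hb₁, RSFin.rs_rs]

include hz hlift in
/-- extensions of quasi-coherent torsion modules -/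
theorem qt_ext [Epi π] (hK : QT h𝔛 K) (hQ : QT h𝔛 Q) : QT h𝔛 F := by
  classical
  refine ⟨fun U hU t => ?_, fun U W hU a d t ht => ?_, fun U W hU a d t => ?_⟩
  · obtain ⟨n, hn⟩ := hQ.tors hU (RSFin.ap π U t)
    obtain ⟨m, g, hg⟩ := exists_pow_gens h𝔛 hU n
    have hgm : ∀ l, g l ∈ JA 𝔛 h𝔛.1 U ^ (n + 1) := fun l => hg ▸ Ideal.subset_span ⟨l, rfl⟩
    choose k hk using fun l => hlift U ((show sc (𝔛.Osh h𝔛.1) U from g l) • t)
      ((map_smul _ _ _).trans (hn _ (hgm l)))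
    obtain ⟨N, hN⟩ := exists_uniform h𝔛 k fun l => hK.tors hU (k l)
    refine ⟨n + 1 + N, fun b hb => ?_⟩
    rw [show n + 1 + N + 1 = (n + 1) + (N + 1) by omega, pow_add] at hb
    refine Submodule.mul_induction_on hb (fun x hx y hy => ?_) (fun x y hx hy =>
      (add_smul (show sc (𝔛.Osh h𝔛.1) U from x) y _).trans (by rw [hx, hy, add_zero]))
    ·
      rw [← hg] at hx
      obtain ⟨c, rfl⟩ := (Submodule.mem_span_range_iff_exists_fun _).1 hx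
      show ((∑ l, (show sc (𝔛.Osh h𝔛.1) U from c l) * (show sc (𝔛.Osh h𝔛.1) U from g l)) *
        (show sc (𝔛.Osh h𝔛.1) U from y)) • t = 0
      rw [Finset.sum_mul, Finset.sum_smul]
      refine Finset.sum_eq_zero fun l _ => ?_
      rw [mul_assoc, mul_smul, mul_comm, mul_smul, ← hk l, ← map_smul, hN l y hy, map_zero, smul_zero]
  · obtain ⟨k, hk⟩ := hQ.zero hU d (RSFin.ap π U t) (by rw [← RSFin.ap_rs, ht, map_zero])
    obtain ⟨x, hx⟩ := hlift U _ ((map_smul _ _ _).trans hk)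
    obtain ⟨j, hj⟩ := hK.zero hU d x (RSFin.injective_of_mono i W (by
      rw [RSFin.ap_rs, hx, map_zero, RSFin.rs_smul, ht, smul_zero]))
    refine ⟨j + k, ?_⟩
    rw [pow_add, mul_smul, ← hx, ← map_smul, hj, map_zero]
  · obtain ⟨k, q, hq⟩ := hQ.ext hU d (RSFin.ap π W t)
    obtain ⟨z, hz'⟩ := exists_lift h𝔛 i π hz hlift hK hU q
    obtain ⟨x, hx⟩ := hlift W (RSFin.rs F d.le z - (rsR d.le a : sc (𝔛.Osh h𝔛.1) W) ^ k • t)
      (by rw [map_sub, map_smul, RSFin.ap_rs, hz', hq, sub_self])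
    obtain ⟨j, x', hx'⟩ := hK.ext hU d x
    refine ⟨j + k, (show sc (𝔛.Osh h𝔛.1) U from a) ^ j • z - RSFin.ap i U x', ?_⟩
    rw [map_sub, RSFin.rs_smul, map_pow, ← RSFin.ap_rs, hx', map_smul, hx, smul_sub, sub_sub_cancel, smul_smul, ← pow_add]

end ext

/-- quasi-coherent torsion modules in a five term exact sequence -/
theorem qt_five (S : ComposableArrows (FSch.ModF 𝔛 h𝔛.1) 4) (hS : S.Exact) (h₀ : QT h𝔛 (S.obj 0))
    (h₁ : QT h𝔛 (S.obj 1)) (h₃ : QT h𝔛 (S.obj 3)) (h₄ : QT h𝔛 (S.obj 4)) : QT h𝔛 (S.obj 2) := by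
  let f₀ := S.map' 0 1
  let f₁ := S.map' 1 2
  let f₂ := S.map' 2 3
  let f₃ := S.map' 3 4
  have e₀ := hS.exact 0
  have e₁ := hS.exact 1
  have e₂ := hS.exact 2
  let i : cokernel f₀ ⟶ S.obj 2 := cokernel.desc f₀ f₁ (S.sc hS.toIsComplex 0).zero
  let π : S.obj 2 ⟶ kernel f₃ := kernel.lift f₃ f₂ (S.sc hS.toIsComplex 2).zero
  haveI : Mono i := e₀.mono_cokernelDesc
  haveI : Epi π := e₂.epi_kernelLift
  have hπι : π ≫ kernel.ι f₃ = f₂ := kernel.lift_ι _ _ _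
  refine qt_ext h𝔛 i π (fun U t => ?_) (fun U t ht => ?_) (qt_cokernel h𝔛 f₀ h₀ h₁) (qt_kernel h𝔛 f₃ h₃ h₄)
  · have : i ≫ π = 0 := by
      rw [← cancel_mono (kernel.ι f₃), Category.assoc, hπι, zero_comp, ← cancel_epi (cokernel.π f₀),
        cokernel.π_desc_assoc, comp_zero]
      exact (S.sc hS.toIsComplex 1).zero
    rw [← RSFin.ap_comp, this]
    exact RSFin.ap_zero _ _
  · have h2 : RSFin.ap f₂ U t = 0 := by
      rw [← hπι, RSFin.ap_comp]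
      exact (congrArg (RSFin.ap (kernel.ι f₃) U) ht).trans (map_zero _)
    have hloc : ∀ y ∈ U, ∃ (W : (𝔛.X 0).Opens) (hW : W ≤ U) (b : ModSite.sect (cokernel f₀) W), y ∈ W ∧
        RSFin.ap i W b = RSFin.rs _ hW t := fun y hy => by
      obtain ⟨W, hW, b, hyW, hb⟩ := RSFin.exact_locally _ e₁ t h2 hy
      exact ⟨W, hW, RSFin.ap (cokernel.π f₀) W b, hyW, by rw [← RSFin.ap_comp, cokernel.π_desc]; exact hb⟩
    choose W hW b hyW hb using fun y : U => hloc y.1 y.2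
    obtain ⟨s, hs⟩ := exists_glue_sect h𝔛 W hW (fun y hy => ⟨⟨y, hy⟩, hyW _⟩) b fun p q => by
      refine RSFin.injective_of_mono i _ ?_
      rw [RSFin.ap_rs, RSFin.ap_rs, hb, hb, RSFin.rs_rs, RSFin.rs_rs]
    refine ⟨s, RSFin.eq_of_locally _ _ _ fun y hy => ⟨W ⟨y, hy⟩, hW _, hyW _, ?_⟩⟩
    rw [← RSFin.ap_rs, hs, hb]

end Groth.Agent.FSchCoh
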