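import Groth.Agent.FSchCoh.IndGroth
import Groth.Agent.FSchCoh.QCTColim
import Groth.Agent.S17052

/-!
# The category of quasi-coherent torsion modules on a Noetherian formal scheme is Grothendieck abelian
-/

universe u

open CategoryTheory CategoryTheory.Limits AlgebraicGeometry TopologicalSpace Opposite

set_option autoImplicit false
set_option backward.isDefEq.respectTransparency false
set_option linter.style.haveILetI false

noncomputable section

namespace Groth.Agent.FSchCoh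

variable {𝔛 : FSch.Sys.{u}} (h𝔛 : 𝔛.IsLocNoethFormal)

theorem isGrothendieckAbelian_qct [CompactSpace (𝔛.X 0)]
    [(FTors.IsQCT 𝔛 h𝔛.1).ContainsZero] [(FTors.IsQCT 𝔛 h𝔛.1).IsClosedUnderKernels]
    [(FTors.IsQCT 𝔛 h𝔛.1).IsClosedUnderCokernels] [(FTors.IsQCT 𝔛 h𝔛.1).IsClosedUnderFiniteProducts]
    [PreservesFiniteLimits (FTors.IsQCT 𝔛 h𝔛.1).ι] [PreservesFiniteColimits (FTors.IsQCT 𝔛 h𝔛.1).ι] :
    IsGrothendieckAbelian.{u} (FTors.IsQCT 𝔛 h𝔛.1).FullSubcategory := by
  classical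
  haveI : IsGrothendieckAbelian.{u} (FSch.ModF 𝔛 h𝔛.1) := KFlat.isGrothendieck _
  let P := FTors.IsQCT 𝔛 h𝔛.1
  haveI hcl : ∀ (J : Type u) [SmallCategory J], P.IsClosedUnderColimitsOfShape J :=
    fun J _ => Groth.Agent.S17052.result 𝔛 h𝔛 J
  haveI : HasColimitsOfSize.{u, u} P.FullSubcategory := ⟨fun J _ => inferInstance⟩
  haveI hp : ∀ (J : Type u) [SmallCategory J], PreservesColimitsOfShape J P.ι := fun J _ =>
    preservesColimitOfShape_of_createsColimitsOfShape_and_hasColimitsOfShape _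
  haveI : PreservesColimitsOfSize.{u, u} P.ι := ⟨fun {J _} => hp J⟩
  haveI : ReflectsFiniteLimits P.ι := ⟨fun _ _ _ => inferInstance⟩
  haveI : AB5OfSize.{u, u} P.FullSubcategory :=
    ⟨fun J _ _ => HasExactColimitsOfShape.domain_of_functor J P.ι⟩
  let S := Σ (n : ℕ) (L : Fin n → (𝔛.X 0).Opens),
    {K : Shrink.{u} (Subobject (freeSum h𝔛 L)) //
      FSch.IsCohF 𝔛 h𝔛.1 (cokernel ((equivShrink (Subobject (freeSum h𝔛 L))).symm K).arrow) ∧
        P (cokernel ((equivShrink (Subobject (freeSum h𝔛 L))).symm K).arrow)}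
  let sep : S → P.FullSubcategory := fun p =>
    ⟨cokernel ((equivShrink (Subobject (freeSum h𝔛 p.2.1))).symm p.2.2.1).arrow, p.2.2.2.2⟩
  have hsep : ObjectProperty.IsSeparating (ObjectProperty.ofObj sep) := by
    intro M N f g hfg
    obtain ⟨J, _, _, pres, hP, hmono⟩ := limPres_of_qt (qt_of_isQCT h𝔛 M.property.1 M.property.2)
    apply ObjectProperty.hom_ext
    refine pres.isColimit.hom_ext fun j => ?_
    obtain ⟨n, L, φ, hφ⟩ := exists_epi_freeSum h𝔛 _ (hP j)
    haveI := hφ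
    let K := Subobject.mk (kernel.ι φ)
    let e₀ : cokernel K.arrow ≅ cokernel (kernel.ι φ) :=
      cokernelIsoOfEq (Subobject.underlyingIso_hom_comp_eq_mk (kernel.ι φ)).symm ≪≫ cokernelEpiComp _ _
    let e₁ : cokernel (kernel.ι φ) ≅ pres.diag.obj j :=
      (cokernelIsCokernel (kernel.ι φ)).coconePointUniqueUpToIso (Abelian.epiIsCokernelOfKernel _ (limit.isLimit (parallelPair φ 0)))
    let e : cokernel ((equivShrink (Subobject (freeSum h𝔛 L))).symm (equivShrink _ K)).arrow ≅ pres.diag.obj j :=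
      eqToIso (congrArg (fun K' : Subobject (freeSum h𝔛 L) => cokernel K'.arrow) (Equiv.symm_apply_apply _ K)) ≪≫ e₀ ≪≫ e₁
    let p : S := ⟨n, L, equivShrink _ K,
      ObjectProperty.IsClosedUnderIsomorphisms.of_iso (P := fun G : FSch.ModF 𝔛 h𝔛.1 => FSch.IsCohF 𝔛 h𝔛.1 G) e.symm (hP j),
      (qt_of_iso h𝔛 e.symm (haveI := hmono j; have hq := isQCT_of_mono_coh h𝔛 (pres.ι.app j) (hP j) M.property.1; qt_of_isQCT h𝔛 hq.1 hq.2)).isQCT⟩
    have h1 := congrArg InducedCategory.Hom.hom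
      (hfg (sep p) (ObjectProperty.ofObj_apply _ p) (ObjectProperty.homMk (e.hom ≫ pres.ι.app j)))
    change (e.hom ≫ pres.ι.app j) ≫ f.hom = (e.hom ≫ pres.ι.app j) ≫ g.hom at h1
    rw [Category.assoc, Category.assoc] at h1
    exact (cancel_epi e.hom).1 h1
  haveI : HasColimitsOfShape (Discrete S) P.FullSubcategory := HasColimitsOfSize.has_colimits_of_shape _
  haveI : HasColimit (Discrete.functor sep) := HasColimitsOfShape.has_colimit _
  haveI : HasSeparator P.FullSubcategory := ⟨∐ sep, (isSeparator_sigma _).2 hsep⟩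
  exact {}

end Groth.Agent.FSchCoh
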