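import Groth.Agent.FSchCoh.QCTOps
import Mathlib.Order.Zorn
import Mathlib.AlgebraicGeometry.Noetherian

/-!
# Quasi-coherent torsion modules are unions of coherent submodules
-/

universe u

open CategoryTheory CategoryTheory.Limits AlgebraicGeometry TopologicalSpace Opposite
open Groth.Agent.RSFin (sc rsR Gen Rel spanOn)
open Groth.Agent.FSchCoh.LimGen (JointSurj)

set_option autoImplicit false
set_option backward.isDefEq.respectTransparency false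
set_option linter.style.haveILetI false

noncomputable section

namespace Groth.Agent.FSchCoh

section Sat

variable {X : TopCat.{u}} {O : TopCat.Sheaf CommRingCat.{u} X} {F : ModSite.Mod O}

/-- a family of local sections -/
abbrev Fam (F : ModSite.Mod O) : Type u := Set (Σ V : Opens X, ModSite.sect F V)

/-- the span over `W` of the members of a family defined on `W` -/
def spanS (S : Fam F) (W : Opens X) : Submodule (sc O W) (ModSite.sect F W) :=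
  Submodule.span (sc O W) (Set.range fun m : {p : S // W ≤ p.1.1} => RSFin.rs F m.2 m.1.1.2)

/-- sections locally in the span of a family -/
def Sat (S : Fam F) {V : Opens X} (z : ModSite.sect F V) : Prop :=
  ∀ y ∈ V, ∃ (W : Opens X) (hW : W ≤ V), y ∈ W ∧ RSFin.rs F hW z ∈ spanS S W

theorem rs_mem_spanS (S : Fam F) {W W' : Opens X} (h : W' ≤ W) {z : ModSite.sect F W} (hz : z ∈ spanS S W) :
    RSFin.rs F h z ∈ spanS S W' := by
  induction hz using Submodule.span_induction with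
  | mem x hx =>
    obtain ⟨⟨p, hp⟩, rfl⟩ := hx
    exact Submodule.subset_span ⟨⟨p, h.trans hp⟩, (RSFin.rs_rs F h hp _).symm⟩
  | zero => rw [map_zero]; exact zero_mem _
  | add x y _ _ hx hy => rw [map_add]; exact add_mem hx hy
  | smul c x _ hx => rw [RSFin.rs_smul]; exact Submodule.smul_mem _ _ hx

theorem Sat.mono {S S' : Fam F} (h : S ⊆ S') {V : Opens X} {z : ModSite.sect F V} (hz : Sat S z) : Sat S' z :=
  fun y hy => by
    obtain ⟨W, hW, hyW, hm⟩ := hz y hy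
    refine ⟨W, hW, hyW, Submodule.span_mono ?_ hm⟩
    rintro - ⟨⟨⟨p, hp⟩, hle⟩, rfl⟩
    exact ⟨⟨⟨p, h hp⟩, hle⟩, rfl⟩

theorem Sat.rs {S : Fam F} {V W : Opens X} (h : W ≤ V) {z : ModSite.sect F V} (hz : Sat S z) :
    Sat S (RSFin.rs F h z) := fun y hy => by
  obtain ⟨W', hW', hyW', hm⟩ := hz y (h hy)
  refine ⟨W' ⊓ W, inf_le_right, ⟨hyW', hy⟩, ?_⟩
  rw [RSFin.rs_rs, ← RSFin.rs_rs F (inf_le_left : W' ⊓ W ≤ W') hW']
  exact rs_mem_spanS S _ hm

theorem Sat.of_locally {S : Fam F} {V : Opens X} {z : ModSite.sect F V}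
    (h : ∀ y ∈ V, ∃ (W : Opens X) (hW : W ≤ V), y ∈ W ∧ Sat S (RSFin.rs F hW z)) : Sat S z := fun y hy => by
  obtain ⟨W, hW, hyW, hz⟩ := h y hy
  obtain ⟨W', hW', hyW', hm⟩ := hz y hyW
  exact ⟨W', hW'.trans hW, hyW', by rwa [RSFin.rs_rs] at hm⟩

theorem Sat.of_mem_span {S : Fam F} {V : Opens X} {z : ModSite.sect F V} (hz : z ∈ spanS S V) : Sat S z :=
  fun y hy => ⟨V, le_rfl, hy, rs_mem_spanS S le_rfl hz⟩

theorem Sat.of_mem {S : Fam F} {p : Σ V : Opens X, ModSite.sect F V} (hp : p ∈ S) : Sat S p.2 :=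
  Sat.of_mem_span (Submodule.subset_span ⟨⟨⟨p, hp⟩, le_rfl⟩, RSFin.rs_self F le_rfl _⟩)

/-- the submodule of sections locally in the span -/
def satSub (S : Fam F) (V : Opens X) : Submodule (sc O V) (ModSite.sect F V) where
  carrier := {z | Sat S z}
  zero_mem' := Sat.of_mem_span (zero_mem _)
  add_mem' := fun {a b} ha hb y hy => by
    obtain ⟨W, hW, hyW, hm⟩ := ha y hy
    obtain ⟨W', hW', hyW', hm'⟩ := hb y hy
    refine ⟨W ⊓ W', inf_le_left.trans hW, ⟨hyW, hyW'⟩, ?_⟩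
    rw [map_add]
    refine add_mem ?_ ?_
    · rw [← RSFin.rs_rs F (inf_le_left : W ⊓ W' ≤ W) hW]; exact rs_mem_spanS S _ hm
    · rw [← RSFin.rs_rs F (inf_le_right : W ⊓ W' ≤ W') hW']; exact rs_mem_spanS S _ hm'
  smul_mem' := fun c z hz y hy => by
    obtain ⟨W, hW, hyW, hm⟩ := hz y hy
    refine ⟨W, hW, hyW, ?_⟩
    rw [RSFin.rs_smul]
    exact Submodule.smul_mem _ _ hm

theorem Sat.trans {S S' : Fam F} {V : Opens X}
    (h : ∀ p ∈ S, Sat S' (RSFin.rs F (inf_le_left : p.1 ⊓ V ≤ p.1) p.2))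
    {z : ModSite.sect F V} (hz : Sat S z) : Sat S' z := by
  refine Sat.of_locally fun y hy => ?_
  obtain ⟨W, hW, hyW, hm⟩ := hz y hy
  refine ⟨W, hW, hyW, ?_⟩
  show RSFin.rs F hW z ∈ satSub S' W
  refine Submodule.span_le.2 ?_ hm
  rintro - ⟨⟨⟨p, hp⟩, hle⟩, rfl⟩
  have h1 := (h p hp).rs (le_inf hle hW)
  rwa [RSFin.rs_rs] at h1

/-- the finite family of sections over one open -/
def famOf {W : Opens X} {n : ℕ} (e : Fin n → ModSite.sect F W) : Fam F := Set.range fun k => ⟨W, e k⟩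

theorem mem_span_of_sat_famOf {W : Opens X} {n : ℕ} (e : Fin n → ModSite.sect F W) {V : Opens X} (h : V ≤ W)
    {z : ModSite.sect F V} (hz : Sat (famOf e) z) {y : X} (hy : y ∈ V) :
    ∃ (W' : Opens X) (hW' : W' ≤ V), y ∈ W' ∧ RSFin.rs F hW' z ∈ spanOn F (hW'.trans h) e := by
  obtain ⟨W', hW', hyW', hm⟩ := hz y hy
  refine ⟨W', hW', hyW', Submodule.span_le.2 ?_ hm⟩
  rintro - ⟨⟨⟨p, k, rfl⟩, hle⟩, rfl⟩
  exact Submodule.subset_span ⟨k, rfl⟩

/-- the family is finitely generated near every point of `W₀` -/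
def FGen (S : Fam F) (W₀ : Opens X) : Prop :=
  ∀ x ∈ W₀, ∃ (W : Opens X) (n : ℕ) (e : Fin n → ModSite.sect F W), x ∈ W ∧ W ≤ W₀ ∧ (∀ k, Sat S (e k)) ∧
    ∀ p ∈ S, Sat (famOf e) (RSFin.rs F (inf_le_left : p.1 ⊓ W ≤ p.1) p.2)

theorem fgen_at {S S' : Fam F} {W₀ : Opens X} (hS : FGen S W₀) (hsub : S ⊆ S')
    (h : ∀ p ∈ S', Sat S (RSFin.rs F (inf_le_left : p.1 ⊓ W₀ ≤ p.1) p.2)) {x : X} (hx : x ∈ W₀) :
    ∃ (W : Opens X) (n : ℕ) (e : Fin n → ModSite.sect F W), x ∈ W ∧ W ≤ W₀ ∧ (∀ k, Sat S' (e k)) ∧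
      ∀ p ∈ S', Sat (famOf e) (RSFin.rs F (inf_le_left : p.1 ⊓ W ≤ p.1) p.2) := by
  obtain ⟨W, n, e, hxW, hle, he, hg⟩ := hS x hx
  refine ⟨W, n, e, hxW, hle, fun k => (he k).mono hsub, fun p hp => ?_⟩
  have h1 : Sat S (RSFin.rs F (inf_le_left : p.1 ⊓ W ≤ p.1) p.2) := by
    have := (h p hp).rs (inf_le_inf_left p.1 hle)
    rwa [RSFin.rs_rs] at this
  refine h1.trans fun q hq => ?_
  have := (hg q hq).rs (inf_le_inf_left q.1 (inf_le_right : p.1 ⊓ W ≤ W))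
  rwa [RSFin.rs_rs] at this

/-- the subpresheaf of sections locally in the span -/
def satPre (S : Fam.{u} F) : (Opens X)ᵒᵖ ⥤ Ab.{u} where
  obj V := AddCommGrpCat.of (satSub S (unop V))
  map {V V'} f := AddCommGrpCat.ofHom
    { toFun := fun z => ⟨RSFin.rs F f.unop.le z.1, Sat.rs f.unop.le z.2⟩
      map_zero' := Subtype.ext (map_zero (RSFin.rs F f.unop.le))
      map_add' := fun a b => Subtype.ext (map_add (RSFin.rs F f.unop.le) a.1 b.1) }
  map_id V := by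
    ext z
    exact RSFin.rs_self F _ z.1
  map_comp f g := by
    ext z
    exact (RSFin.rs_rs F _ _ z.1).symm

instance satPre.instModule (S : Fam.{u} F) (V : (Opens X)ᵒᵖ) : Module ((ModSite.ringSh O).obj.obj V) ((satPre S).obj V) :=
  inferInstanceAs (Module (O.obj.obj V) (satSub S (unop V)))

theorem satPre_map_smul (S : Fam.{u} F) ⦃V V' : (Opens X)ᵒᵖ⦄ (f : V ⟶ V') (r : (ModSite.ringSh O).obj.obj V)
    (m : (satPre S).obj V) :
    (satPre S).map f (r • m) = (ModSite.ringSh O).obj.map f r • (satPre S).map f m :=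
  Subtype.ext (RSFin.rs_smul F f.unop.le r m.1)

/-- the subfunctor of sections locally in the span -/
def satSubfunctor (S : Fam.{u} F) : Subfunctor (F.val.presheaf ⋙ forget Ab.{u}) where
  obj V := {z | Sat S (V := unop V) z}
  map f _ hz := Sat.rs f.unop.le hz

/-- the underlying presheaves of types agree -/
def satPreIso (S : Fam.{u} F) : satPre S ⋙ forget Ab.{u} ≅ (satSubfunctor S).toFunctor :=
  NatIso.ofComponents (fun _ => Equiv.toIso
    { toFun := fun z => ⟨z.1, z.2⟩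
      invFun := fun z => ⟨z.1, z.2⟩
      left_inv := fun _ => rfl
      right_inv := fun _ => rfl }) (fun _ => rfl)

theorem isSheaf_satPre (S : Fam.{u} F) : Presheaf.IsSheaf (Opens.grothendieckTopology X) (satPre.{u} S) := by
  have hM : Presieve.IsSheaf (Opens.grothendieckTopology X) (F.val.presheaf ⋙ forget Ab.{u}) :=
    (isSheaf_iff_isSheaf_of_type _ _).1
      ((Presheaf.isSheaf_iff_isSheaf_forget _ F.val.presheaf (forget Ab.{u})).1 F.isSheaf)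
  rw [Presheaf.isSheaf_iff_isSheaf_forget _ (satPre.{u} S) (forget Ab.{u}), isSheaf_iff_isSheaf_of_type]
  refine Presieve.isSheaf_iso _ (satPreIso.{u} S).symm (((satSubfunctor.{u} S).isSheaf_iff hM).2 ?_)
  intro V z hz
  refine Sat.of_locally fun y hy => ?_
  obtain ⟨W, g, hg, hyW⟩ := hz y hy
  exact ⟨W, g.le, hyW, hg⟩

/-- the submodule sheaf generated by a family -/
def satObj (S : Fam.{u} F) : ModSite.Mod O where
  val := PresheafOfModules.ofPresheaf (satPre S) (satPre_map_smul S)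
  isSheaf := isSheaf_satPre S

/-- its inclusion -/
def satι (S : Fam.{u} F) : satObj S ⟶ F :=
  ⟨PresheafOfModules.homMk
    { app := fun V => AddCommGrpCat.ofHom
        { toFun := fun z => z.1
          map_zero' := rfl
          map_add' := fun _ _ => rfl }
      naturality := fun _ _ g => by ext z; rfl }
    (fun _ r z => rfl)⟩

theorem satι_injective (S : Fam F) (V : Opens X) : Function.Injective (RSFin.ap (satι S) V) :=
  fun _ _ e => Subtype.ext e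

instance (S : Fam F) : Mono (satι S) := RSFin.mono_of_injective _ (satι_injective S)

end Sat

variable {𝔛 : FSch.Sys.{u}} {h𝔛 : 𝔛.IsLocNoethFormal} {F : FSch.ModF 𝔛 h𝔛.1}

theorem sat_pow_small (hF : QT h𝔛 F) {S : Fam F} {A D W : (𝔛.X 0).Opens} (hA : IsAffineOpen A) {n : ℕ}
    (e : Fin n → ModSite.sect F W) (hAW : A ≤ W) (he : ∀ k, Sat S (e k))
    (hg : ∀ p ∈ S, Sat (famOf e) (RSFin.rs F (inf_le_left : p.1 ⊓ W ≤ p.1) p.2))
    {b : OA 𝔛 h𝔛.1 A} (d : IsDist 𝔛 h𝔛.1 A b D) (z : ModSite.sect F A) (hz : Sat S (RSFin.rs F d.le z)) :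
    ∃ k : ℕ, Sat S ((show sc (𝔛.Osh h𝔛.1) A from b) ^ k • z) := by
  let I : Ideal (OA 𝔛 h𝔛.1 A) :=
    (satSub S A).comap (LinearMap.toSpanSingleton (sc (𝔛.Osh h𝔛.1) A) _ z)
  obtain ⟨N₀, hN₀⟩ := hF.tors hA z
  obtain ⟨k, hk⟩ := exists_pow_mem_of_cover h𝔛 hA d I (n := N₀) (fun c hc => by
      show Sat S ((show sc (𝔛.Osh h𝔛.1) A from c) • z)
      rw [hN₀ c hc]
      exact (satSub S A).zero_mem) fun y hy => by
    have hz' : Sat (famOf e) (RSFin.rs F d.le z) := hz.trans fun p hp => by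
      have := (hg p hp).rs (inf_le_inf_left p.1 (d.le.trans hAW))
      rwa [RSFin.rs_rs] at this
    obtain ⟨W₁, hW₁, hyW₁, hm⟩ := mem_span_of_sat_famOf e (d.le.trans hAW) hz' hy
    obtain ⟨c, hc⟩ := (RSFin.mem_spanOn_iff _ _ _ _).1 hm
    obtain ⟨g, D', hyD', hD', d'⟩ := exists_dist 𝔛 h𝔛.1 hA (hW₁.trans d.le) hyW₁
    obtain ⟨N, hN⟩ := exists_uniform h𝔛 (fun l => RSFin.rs F hAW (e l)) fun l => hF.tors hA _
    obtain ⟨j, c', hc'⟩ := exists_scal_extend_fin h𝔛 hA d' N fun l => rsR hD' (c l)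
    let G : sc (𝔛.Osh h𝔛.1) A := g
    let Z : ModSite.sect F A := G ^ j • z - ∑ l, (show sc (𝔛.Osh h𝔛.1) A from c' l) • RSFin.rs F hAW (e l)
    have hZ : RSFin.rs F d'.le Z = 0 := by
      have h1 := congrArg (RSFin.rs F hD') hc
      rw [RSFin.rs_rs, RSFin.rs_rs, map_sum] at h1
      rw [map_sub, RSFin.rs_smul, map_pow, ← h1, map_sum, Finset.smul_sum, ← Finset.sum_sub_distrib]
      refine Finset.sum_eq_zero fun l _ => ?_
      rw [RSFin.rs_smul, RSFin.rs_smul, RSFin.rs_rs, RSFin.rs_rs, smul_smul, ← sub_smul]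
      have h3 := Kills.rs h𝔛 hA d' (hN l) _
        (mem_pow_of_projR h𝔛 d'.affine (by rw [map_sub, sub_eq_zero]; exact hc' l) :
          (rsR d'.le g : OA 𝔛 h𝔛.1 D') ^ j * rsR hD' (c l) - rsR d'.le (c' l) ∈ _)
      rw [RSFin.rs_rs] at h3
      exact h3
    obtain ⟨m, hm'⟩ := hF.zero hA d' Z hZ
    refine ⟨g, D', d', hyD', m + j, ?_⟩
    show G ^ (m + j) • z ∈ satSub S A
    rw [smul_sub, sub_eq_zero, smul_smul, ← pow_add] at hm'
    rw [hm']
    exact Submodule.smul_mem _ _ (Submodule.sum_mem _ fun l _ => Submodule.smul_mem _ _ (Sat.rs hAW (he l)))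
  exact ⟨k, hk⟩

theorem sat_pow (hF : QT h𝔛 F) {S : Fam F} {W₀ A D : (𝔛.X 0).Opens} (hS : FGen S W₀) (hA : IsAffineOpen A)
    (hle : A ≤ W₀) {b : OA 𝔛 h𝔛.1 A} (d : IsDist 𝔛 h𝔛.1 A b D) (z : ModSite.sect F A)
    (hz : Sat S (RSFin.rs F d.le z)) : ∃ k : ℕ, Sat S ((show sc (𝔛.Osh h𝔛.1) A from b) ^ k • z) := by
  classical
  choose W n e hxW _ he hg using fun y : A => hS y.1 (hle y.2)
  choose a V hyV hV dV using fun y : A => exists_dist 𝔛 h𝔛.1 hA (inf_le_left : A ⊓ W y ≤ A) ⟨y.2, hxW y⟩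
  choose k hk using fun y : A => sat_pow_small hF (dV y).affine (e y) ((hV y).trans inf_le_right) (he y) (hg y)
    (IsDist.inter h𝔛 d (dV y) hA) (RSFin.rs F (dV y).le z) (by
      have := hz.rs (inf_le_left : D ⊓ V y ≤ D)
      rw [RSFin.rs_rs] at this
      rw [RSFin.rs_rs]
      exact this)
  obtain ⟨P, hP⟩ := hA.isCompact.elim_finite_subcover (fun y : A => (V y : Set (𝔛.X 0))) (fun y => (V y).isOpen)
    fun y hy => (Set.mem_iUnion (s := fun a : A => (V a : Set (𝔛.X 0)))).2 ⟨⟨y, hy⟩, hyV _⟩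
  refine ⟨P.sup k, Sat.of_locally fun y hy => ?_⟩
  obtain ⟨w, hw, hyw⟩ := Set.mem_iUnion₂.1 (hP hy)
  refine ⟨V w, (dV w).le, hyw, ?_⟩
  rw [RSFin.rs_smul, map_pow, ← Nat.sub_add_cancel (Finset.le_sup (f := k) hw), pow_add, mul_smul]
  exact (satSub S (V w)).smul_mem _ (hk w)

theorem exists_extension (hF : QT h𝔛 F) {S : Fam F} {W₀ : (𝔛.X 0).Opens} (hS : FGen S W₀)
    (hdom : ∀ p ∈ S, p.1 ≤ W₀) {V : (𝔛.X 0).Opens} (hV : IsAffineOpen V) :
    ∃ S' : Fam F, S ⊆ S' ∧ (∀ p ∈ S', p.1 ≤ W₀ ⊔ V) ∧ FGen S' (W₀ ⊔ V) ∧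
      ∀ p ∈ S', Sat S (RSFin.rs F (inf_le_left : p.1 ⊓ W₀ ≤ p.1) p.2) := by
  classical
  haveI : IsLocallyNoetherian (𝔛.X 0) := h𝔛.2.2 0
  have hcomp : IsCompact ((V ⊓ W₀ : (𝔛.X 0).Opens) : Set (𝔛.X 0)) := by
    haveI : IsNoetherianRing Γ(𝔛.X 0, V) := IsLocallyNoetherian.component_noetherian ⟨V, hV⟩
    haveI := noetherianSpace_of_isAffineOpen V hV
    have h1 : IsCompact (Subtype.val ⁻¹' (W₀ : Set (𝔛.X 0)) : Set V) := NoetherianSpace.isCompact _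
    have h2 := h1.image continuous_subtype_val
    rw [Set.image_preimage_eq_inter_range, Subtype.range_coe, Set.inter_comm] at h2
    exact h2
  choose W n e hyW hWle he hg using fun y : (V ⊓ W₀ : (𝔛.X 0).Opens) => hS y.1 y.2.2
  choose a D hyD hD d using fun y : (V ⊓ W₀ : (𝔛.X 0).Opens) =>
    exists_dist 𝔛 h𝔛.1 hV (inf_le_left : V ⊓ W y ≤ V) ⟨y.2.1, hyW y⟩
  have hDW : ∀ y, D y ≤ W y := fun y => (hD y).trans inf_le_right
  obtain ⟨P, hP⟩ := hcomp.elim_finite_subcover (fun y => (D y : Set (𝔛.X 0))) (fun y => (D y).isOpen)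
    fun y hy => (Set.mem_iUnion (s := fun a : (V ⊓ W₀ : (𝔛.X 0).Opens) => (D a : Set (𝔛.X 0)))).2 ⟨⟨y, hy⟩, hyD _⟩
  let ι := Σ p : P, Fin (n p.1)
  choose k z hz using fun m : ι => hF.ext hV (d m.1.1) (RSFin.rs F (hDW m.1.1) (e m.1.1 m.2))
  have hoverlap : ∀ (m : ι) (l : P), ∃ j : ℕ, Sat S (rsR (d l.1).le (show sc (𝔛.Osh h𝔛.1) V from a m.1.1) ^ j •
      RSFin.rs F (d l.1).le (z m)) := fun m l => by
    refine sat_pow hF hS (d l.1).affine ((hDW l.1).trans (hWle l.1)) (IsDist.inter h𝔛 (d m.1.1) (d l.1) hV)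
      (RSFin.rs F (d l.1).le (z m)) ?_
    rw [RSFin.rs_rs, ← RSFin.rs_rs F (inf_le_left : D m.1.1 ⊓ D l.1 ≤ D m.1.1) (d m.1.1).le, hz, RSFin.rs_smul,
      RSFin.rs_rs]
    exact (satSub S _).smul_mem _ ((he m.1.1 m.2).rs _)
  choose j hj using hoverlap
  obtain ⟨M, hM⟩ : ∃ M, ∀ m l, j m l ≤ M :=
    ⟨Finset.univ.sup fun ml : ι × P => j ml.1 ml.2,
      fun m l => Finset.le_sup (f := fun ml : ι × P => j ml.1 ml.2) (Finset.mem_univ (m, l))⟩
  let z' : ι → ModSite.sect F V := fun m => (show sc (𝔛.Osh h𝔛.1) V from a m.1.1) ^ M • z m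
  let E : Fin (Fintype.card ι) → ModSite.sect F V := fun c => z' ((Fintype.equivFin ι).symm c)
  have hnew : ∀ c, Sat S (RSFin.rs F (inf_le_left : V ⊓ W₀ ≤ V) (E c)) := fun c => Sat.of_locally fun y hy => by
    obtain ⟨l, hl, hyl⟩ := Set.mem_iUnion₂.1 (hP hy)
    refine ⟨D l, le_inf (d l).le ((hDW l).trans (hWle l)), hyl, ?_⟩
    simp only [E, z']
    rw [RSFin.rs_rs, RSFin.rs_smul, map_pow, ← Nat.sub_add_cancel (hM _ ⟨l, hl⟩), pow_add, mul_smul]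
    exact (satSub S _).smul_mem _ (hj _ ⟨l, hl⟩)
  have hpS : ∀ p ∈ S ∪ famOf E, Sat S (RSFin.rs F (inf_le_left : p.1 ⊓ W₀ ≤ p.1) p.2) := by
    rintro p (hp | ⟨c, rfl⟩)
    · exact (Sat.of_mem hp).rs _
    · exact hnew c
  refine ⟨S ∪ famOf E, Set.subset_union_left, ?_, fun x hx => ?_, hpS⟩
  · rintro p (hp | ⟨c, rfl⟩)
    · exact (hdom p hp).trans le_sup_left
    · exact le_sup_right
  rcases (show x ∈ W₀ ∨ x ∈ V from hx) with hx | hx
  · obtain ⟨W', n', e', hxW', hle, he', hg'⟩ := fgen_at hS Set.subset_union_left hpS hx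
    exact ⟨W', n', e', hxW', hle.trans le_sup_left, he', hg'⟩
  · refine ⟨V, _, E, hx, le_sup_right, fun c => Sat.of_mem (p := ⟨V, E c⟩) (Or.inr ⟨c, rfl⟩), ?_⟩
    rintro p (hp | ⟨c, rfl⟩)
    · refine Sat.of_locally fun y hy => ?_
      obtain ⟨l, hl, hyl⟩ := Set.mem_iUnion₂.1 (hP (show y ∈ V ⊓ W₀ from ⟨hy.2, hdom p hp hy.1⟩))
      refine ⟨p.1 ⊓ V ⊓ D l, inf_le_left, ⟨hy, hyl⟩, ?_⟩
      have h1 := (hg l p hp).rs (inf_le_inf (inf_le_left : p.1 ⊓ V ≤ p.1) (hDW l))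
      rw [RSFin.rs_rs] at h1
      rw [RSFin.rs_rs]
      refine h1.trans ?_
      rintro - ⟨i, rfl⟩
      let m : ι := ⟨⟨l, hl⟩, i⟩
      let A' : sc (𝔛.Osh h𝔛.1) V := a l
      obtain ⟨u, hu⟩ := ((d l).isUnit h𝔛).pow (M + k m)
      have he1 : RSFin.rs F (d l).le (E (Fintype.equivFin ι m)) =
          rsR (d l).le A' ^ (M + k m) • RSFin.rs F (hDW l) (e l i) := by
        simp only [E, z', Equiv.symm_apply_apply]
        rw [RSFin.rs_smul, map_pow, hz m, smul_smul, ← pow_add]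
      have he2 : RSFin.rs F (hDW l) (e l i) =
          (↑u⁻¹ : sc (𝔛.Osh h𝔛.1) (D l)) • RSFin.rs F (d l).le (E (Fintype.equivFin ι m)) := by
        rw [he1, ← hu, smul_smul, Units.inv_mul, one_smul]
      have h2 : Sat (famOf E) (RSFin.rs F (hDW l) (e l i)) := by
        rw [he2]
        exact (satSub (famOf E) _).smul_mem _ ((Sat.of_mem (S := famOf E) (p := ⟨V, E (Fintype.equivFin ι m)⟩) ⟨_, rfl⟩).rs (d l).le)
      have h3 := h2.rs (inf_le_right.trans inf_le_right : W l ⊓ (p.1 ⊓ V ⊓ D l) ≤ D l)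
      rwa [RSFin.rs_rs] at h3
    · exact (Sat.of_mem (S := famOf E) ⟨c, rfl⟩).rs _

/-- a section over an affine open extends to a coherent submodule -/
theorem exists_fgen_top (hF : QT h𝔛 F) {U : (𝔛.X 0).Opens} (t : ModSite.sect F U) :
    ∃ S : Fam F, FGen S ⊤ ∧ Sat S t := by
  classical
  let S₀ : Fam F := famOf fun _ : Fin 1 => t
  let Ext := {E : (𝔛.X 0).Opens × Fam F // (∀ p ∈ E.2, p.1 ≤ E.1) ∧ FGen E.2 E.1 ∧ S₀ ⊆ E.2}
  let r : Ext → Ext → Prop := fun E E' => E.1.1 ≤ E'.1.1 ∧ E.1.2 ⊆ E'.1.2 ∧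
    ∀ p ∈ E'.1.2, Sat E.1.2 (RSFin.rs F (inf_le_left : p.1 ⊓ E.1.1 ≤ p.1) p.2)
  have rrefl : ∀ E, r E E := fun E => ⟨le_rfl, subset_rfl, fun p hp => (Sat.of_mem hp).rs _⟩
  obtain ⟨m, hm⟩ := exists_maximal_of_chains_bounded (r := r) (fun C hC => by
    rcases C.eq_empty_or_nonempty with rfl | ⟨E₀, hE₀⟩
    · refine ⟨⟨(U, S₀), ?_, fun x hx => ⟨U, 1, fun _ => t, hx, le_rfl, fun _ => Sat.of_mem (p := ⟨U, t⟩) ⟨0, rfl⟩,
        fun p hp => (Sat.of_mem hp).rs _⟩, subset_rfl⟩, by simp⟩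
      rintro p ⟨_, rfl⟩
      exact le_rfl
    let W : (𝔛.X 0).Opens := ⨆ E : C, E.1.1.1
    let S : Fam F := ⋃ E : C, E.1.1.2
    have hS : ∀ E : C, ∀ p ∈ S, Sat E.1.1.2 (RSFin.rs F (inf_le_left : p.1 ⊓ E.1.1.1 ≤ p.1) p.2) := fun E p hp => by
      obtain ⟨E', hp'⟩ := Set.mem_iUnion.1 hp
      by_cases h : E.1 = E'.1
      · exact (Sat.of_mem (h ▸ hp')).rs _
      rcases hC E.2 E'.2 h with h | h
      · exact h.2.2 p hp'
      · exact (Sat.of_mem (h.2.1 hp')).rs _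
    refine ⟨⟨(W, S), fun p hp => ?_, fun x hx => ?_,
      E₀.2.2.2.trans (Set.subset_iUnion (fun E : C => E.1.1.2) ⟨E₀, hE₀⟩)⟩,
      fun E hE => ⟨le_iSup (fun E : C => E.1.1.1) ⟨E, hE⟩, Set.subset_iUnion (fun E : C => E.1.1.2) ⟨E, hE⟩,
        hS ⟨E, hE⟩⟩⟩
    · obtain ⟨E', hp'⟩ := Set.mem_iUnion.1 hp
      exact (E'.1.2.1 p hp').trans (le_iSup (fun E : C => E.1.1.1) E')
    · obtain ⟨E, hxE⟩ := Opens.mem_iSup.1 hx
      obtain ⟨W', n', e', hxW', hle, he', hg'⟩ :=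
        fgen_at E.1.2.2.1 (Set.subset_iUnion (fun E : C => E.1.1.2) E) (hS E) hxE
      exact ⟨W', n', e', hxW', hle.trans (le_iSup (fun E : C => E.1.1.1) E), he', hg'⟩)
    (fun {E E' E''} h h' => ⟨h.1.trans h'.1, h.2.1.trans h'.2.1, fun p hp => by
      refine (show Sat E'.1.2 (RSFin.rs F (inf_le_left : p.1 ⊓ E.1.1 ≤ p.1) p.2) from ?_).trans fun q hq => ?_
      · have := (h'.2.2 p hp).rs (inf_le_inf_left p.1 h.1)
        rwa [RSFin.rs_rs] at this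
      · have := (h.2.2 q hq).rs (inf_le_inf_left q.1 (inf_le_right : p.1 ⊓ E.1.1 ≤ E.1.1))
        rwa [RSFin.rs_rs] at this⟩)
  have htop : m.1.1 = ⊤ := eq_top_iff.2 fun x _ => by
    obtain ⟨V, hV, hxV, -⟩ := exists_isAffineOpen_mem_and_subset (X := 𝔛.X 0) (x := x) (U := ⊤) trivial
    obtain ⟨S', h1, h2, h3, h4⟩ := exists_extension hF m.2.2.1 m.2.1 hV
    exact (hm ⟨(m.1.1 ⊔ V, S'), h2, h3, m.2.2.2.trans h1⟩ ⟨le_sup_left, h1, h4⟩).1
      ((show V ≤ m.1.1 ⊔ V from le_sup_right) hxV)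
  exact ⟨m.1.2, htop ▸ m.2.2.1, (Sat.of_mem (p := ⟨U, t⟩) (m.2.2.2 ⟨0, rfl⟩))⟩

theorem isCohF_satObj (hF : QT h𝔛 F) {S : Fam F} (hS : FGen S ⊤) : FSch.IsCohF 𝔛 h𝔛.1 (satObj S) := by
  refine RSFin.isFinitePresentation_of_forall _ fun x => ?_
  obtain ⟨W, n, e, hxW, -, he, hg⟩ := hS x trivial
  obtain ⟨U, hU, hxU, hle⟩ := exists_isAffineOpen_mem_and_subset (X := 𝔛.X 0) (x := x) (U := W) hxW
  let e' : ULift.{u} (Fin n) → ModSite.sect (satObj S) U := fun k => ⟨RSFin.rs F hle (e k.down), (he k.down).rs hle⟩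
  have hgen : Gen (satObj S) e' := fun V hV t y hy => by
    obtain ⟨W', hW', hyW', hm⟩ := mem_span_of_sat_famOf e (hV.trans hle)
      ((show Sat S (RSFin.ap (satι S) V t) from t.2).trans fun p hp => by
        have := (hg p hp).rs (inf_le_inf_left p.1 (hV.trans hle))
        rwa [RSFin.rs_rs] at this) hy
    obtain ⟨c, hc⟩ := (RSFin.mem_spanOn_iff _ _ _ _).1 hm
    refine ⟨W', hW', hyW', ?_⟩
    have e1 : RSFin.rs (satObj S) hW' t =
        ∑ k, c k • RSFin.rs (satObj S) (hW'.trans hV) (e' ⟨k⟩) := by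
      refine satι_injective S W' ?_
      rw [RSFin.ap_rs, ← hc, map_sum]
      refine Finset.sum_congr rfl fun k _ => ?_
      rw [map_smul, RSFin.ap_rs]
      exact congrArg _ (RSFin.rs_rs F (hW'.trans hV) hle (e k)).symm
    rw [e1]
    exact Submodule.sum_mem _ fun k _ => Submodule.smul_mem _ _ (Submodule.subset_span ⟨⟨k⟩, rfl⟩)
  obtain ⟨ι', κ', h₁, h₂, s', r', hs', hr'⟩ := exists_gen_rel_of_mono (satι S) e' hgen
    (fun k => RSFin.rs F hle (e k.down)) (fun _ => rfl) (hF.good hU _)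
  exact ⟨U, ι', κ', h₁, h₂, s', r', hxU, hs', hr'⟩

/-- quasi-coherent torsion modules are unions of coherent submodules -/
theorem limPres_of_qt (hF : QT h𝔛 F) : LimPres h𝔛 F := by
  classical
  choose S hS hSt using fun m : Σ U : (𝔛.X 0).Opens, ModSite.sect F U => exists_fgen_top (h𝔛 := h𝔛) hF m.2
  refine limPres_of_cover h𝔛 (fun m => satι (S m)) (fun m => isCohF_satObj hF (hS m)) ?_
    fun U hU ι _ a g => hF.good hU _
  intro V t x hx
  refine ⟨V, le_rfl, PUnit.{1}, inferInstance, fun _ => ⟨V, t⟩, fun _ => ⟨t, hSt ⟨V, t⟩⟩, hx, ?_⟩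
  rw [Fintype.sum_unique, RSFin.rs_self]
  rfl

end Groth.Agent.FSchCoh

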