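import Groth.Agent.FSchCoh.QCTOps
import Groth.Agent.FSchCoh.PushColim

/-!
# Direct images of quasi-coherent torsion modules on Noetherian formal schemes
-/

universe u

open CategoryTheory CategoryTheory.Limits AlgebraicGeometry TopologicalSpace Opposite
open Groth.Agent.RSFin (sc rsR)

set_option autoImplicit false
set_option backward.isDefEq.respectTransparency false
set_option linter.style.haveILetI false

noncomputable section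

namespace Groth.Agent.FSchCoh

variable {𝔛 : FSch.Sys.{u}} (h𝔛 : 𝔛.IsLocNoethFormal)

/-- `W` is the non-vanishing locus of `a` inside `Ω`, at every level -/
def IsBasic (Ω : (𝔛.X 0).Opens) (a : OA 𝔛 h𝔛.1 Ω) (W : (𝔛.X 0).Opens) : Prop :=
  ∀ n, 𝔛.lvU h𝔛.1 n W = (𝔛.X n).basicOpen (projR 𝔛 h𝔛.1 Ω n a)

variable {h𝔛} {Ω W V : (𝔛.X 0).Opens} {a : OA 𝔛 h𝔛.1 Ω}

theorem IsBasic.res (hW : IsBasic h𝔛 Ω a W) (e : V ≤ Ω) : IsBasic h𝔛 V (rsR e a) (W ⊓ V) := fun n => by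
  rw [projR_rsR, show 𝔛.lvU h𝔛.1 n (W ⊓ V) = 𝔛.lvU h𝔛.1 n W ⊓ 𝔛.lvU h𝔛.1 n V from rfl, hW n, inf_comm]
  exact (Scheme.basicOpen_res _ _ _).symm

theorem IsBasic.dist (hW : IsBasic h𝔛 Ω a W) (e : V ≤ Ω) (hV : IsAffineOpen V) :
    IsDist 𝔛 h𝔛.1 V (rsR e a) (W ⊓ V) := by
  refine ⟨inf_le_right, ?_, hW.res e⟩
  rw [← lvU_zero 𝔛 h𝔛.1 (W ⊓ V), hW.res e 0]
  exact (FSchAff.isAffineOpen_lvU 𝔛 h𝔛.1 hV 0).basicOpen _

variable {F : FSch.ModF 𝔛 h𝔛.1}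

theorem exists_affine_cover (hΩ : IsCompact (Ω : Set (𝔛.X 0))) :
    ∃ (P : Type u) (_ : Fintype P) (A : P → (𝔛.X 0).Opens) (_ : ∀ p, A p ≤ Ω),
      (∀ p, IsAffineOpen (A p)) ∧ ∀ y ∈ Ω, ∃ p, y ∈ A p := by
  choose A hA hyA hle using fun y : Ω => exists_isAffineOpen_mem_and_subset (X := 𝔛.X 0) (x := y.1) (U := Ω) y.2
  obtain ⟨P, hP⟩ := hΩ.elim_finite_subcover (fun y : Ω => (A y : Set (𝔛.X 0))) (fun y => (A y).isOpen)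
    fun y hy => (Set.mem_iUnion (s := fun a : Ω => (A a : Set (𝔛.X 0)))).2 ⟨⟨y, hy⟩, hyA _⟩
  exact ⟨P, inferInstance, fun p => A p.1, fun p => hle p.1, fun p => hA p.1, fun y hy => by
    obtain ⟨w, hw, hyw⟩ := Set.mem_iUnion₂.1 (hP hy)
    exact ⟨⟨w, hw⟩, hyw⟩⟩

theorem zero_of_basic (hF : QT h𝔛 F) (hW : IsBasic h𝔛 Ω a W) (hΩ : IsCompact (Ω : Set (𝔛.X 0))) (hle : W ≤ Ω)
    (t : ModSite.sect F Ω) (ht : RSFin.rs F hle t = 0) :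
    ∃ k : ℕ, (show sc (𝔛.Osh h𝔛.1) Ω from a) ^ k • t = 0 := by
  obtain ⟨P, _, A, hA, haff, hcov⟩ := exists_affine_cover hΩ
  choose k hk using fun p => hF.zero (haff p) (hW.dist (hA p) (haff p)) (RSFin.rs F (hA p) t) (by
    rw [RSFin.rs_rs, ← RSFin.rs_rs F (inf_le_left : W ⊓ A p ≤ W) hle, ht, map_zero])
  refine ⟨Finset.univ.sup k, RSFin.eq_zero_of_locally F _ fun y hy => ?_⟩
  obtain ⟨p, hyp⟩ := hcov y hy
  refine ⟨A p, hA p, hyp, ?_⟩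
  rw [RSFin.rs_smul, map_pow, ← Nat.sub_add_cancel (Finset.le_sup (f := k) (Finset.mem_univ p)), pow_add, mul_smul]
  exact (congrArg _ (hk p)).trans (smul_zero _)

theorem ext_of_basic [CompactSpace (𝔛.X 0)] (hF : QT h𝔛 F) (hW : IsBasic h𝔛 Ω a W) (hle : W ≤ Ω)
    (t : ModSite.sect F W) :
    ∃ (k : ℕ) (z : ModSite.sect F Ω), RSFin.rs F hle z = (rsR hle a : sc (𝔛.Osh h𝔛.1) W) ^ k • t := by
  haveI : IsLocallyNoetherian (𝔛.X 0) := h𝔛.2.2 0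
  obtain ⟨P, _, A, hA, haff, hcov⟩ := exists_affine_cover (isCompact_open Ω)
  choose k z hz using fun p => hF.ext (haff p) (hW.dist (hA p) (haff p)) (RSFin.rs F inf_le_left t)
  let K := Finset.univ.sup k
  let a₀ : sc (𝔛.Osh h𝔛.1) Ω := a
  let z' : ∀ p : P, ModSite.sect F (A p) := fun p => rsR (hA p) a₀ ^ (K - k p) • z p
  have hz' : ∀ p : P, RSFin.rs F (inf_le_right : W ⊓ A p ≤ A p) (z' p) =
      rsR (inf_le_left.trans hle) a₀ ^ K • RSFin.rs F inf_le_left t := fun p => by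
    simp only [z', RSFin.rs_smul, map_pow, RSFin.rsR_rsR]
    rw [hz p, RSFin.rsR_rsR, smul_smul, ← pow_add, Nat.sub_add_cancel (Finset.le_sup (f := k) (Finset.mem_univ p))]
  choose m hm using fun pq : P × P =>
    zero_of_basic hF (hW.res ((inf_le_left : A pq.1 ⊓ A pq.2 ≤ A pq.1).trans (hA pq.1))) (isCompact_open _)
      inf_le_right (RSFin.rs F inf_le_left (z' pq.1) - RSFin.rs F inf_le_right (z' pq.2)) (by
        have e1 : W ⊓ (A pq.1 ⊓ A pq.2) ≤ W ⊓ A pq.1 := inf_le_inf_left _ inf_le_left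
        have e2 : W ⊓ (A pq.1 ⊓ A pq.2) ≤ W ⊓ A pq.2 := inf_le_inf_left _ inf_le_right
        rw [map_sub, RSFin.rs_rs, RSFin.rs_rs, ← RSFin.rs_rs F e1 inf_le_right, ← RSFin.rs_rs F e2 inf_le_right,
          hz', hz']
        simp only [RSFin.rs_smul, map_pow, RSFin.rsR_rsR, RSFin.rs_rs, sub_self])
  let M := Finset.univ.sup m
  obtain ⟨s, hs⟩ := exists_glue_sect h𝔛 A hA hcov (fun p => rsR (hA p) a₀ ^ M • z' p) fun p q => by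
    show RSFin.rs F inf_le_left (rsR (hA p) a₀ ^ M • z' p) = RSFin.rs F inf_le_right (rsR (hA q) a₀ ^ M • z' q)
    generalize hp' : z' p = zp
    generalize hq' : z' q = zq
    simp only [RSFin.rs_smul, map_pow, RSFin.rsR_rsR]
    subst hp' hq'
    rw [← sub_eq_zero, ← smul_sub, show M = M - m (p, q) + m (p, q) from
      (Nat.sub_add_cancel (Finset.le_sup (f := m) (Finset.mem_univ (p, q)))).symm, pow_add, mul_smul]
    exact (congrArg _ (hm (p, q))).trans (smul_zero _)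
  refine ⟨M + K, s, RSFin.eq_of_locally F _ _ fun y hy => ?_⟩
  obtain ⟨p, hyp⟩ := hcov y (hle hy)
  refine ⟨W ⊓ A p, inf_le_left, ⟨hy, hyp⟩, ?_⟩
  rw [RSFin.rs_rs, ← RSFin.rs_rs F (inf_le_right : W ⊓ A p ≤ A p) (hA p), hs p, RSFin.rs_smul, hz' p,
    RSFin.rs_smul, map_pow, map_pow, RSFin.rsR_rsR, RSFin.rsR_rsR, pow_add, mul_smul]

/-! ### Direct images -/

variable {𝔜 : FSch.Sys.{u}} {h𝔜 : 𝔜.IsLocNoethFormal} (f : 𝔛 ⟶ 𝔜)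

/-- the map on rings of sections of a morphism of formal schemes -/
abbrev sharpR {h𝔛 : 𝔛.IsLocNoethFormal} {h𝔜 : 𝔜.IsLocNoethFormal} (U : (𝔜.X 0).Opens) : OA 𝔜 h𝔜.1 U →+* OA 𝔛 h𝔛.1 (((f : FSch.Hom 𝔛 𝔜).app 0) ⁻¹ᵁ U) :=
  ((FSch.Hom.sharp f h𝔛.1 h𝔜.1).hom.app (op U)).hom

theorem projR_sharp (U : (𝔜.X 0).Opens) (n : ℕ) (b : OA 𝔜 h𝔜.1 U) :
    projR 𝔛 h𝔛.1 (((f : FSch.Hom 𝔛 𝔜).app 0) ⁻¹ᵁ U) n (sharpR (h𝔛 := h𝔛) (h𝔜 := h𝔜) f U b) =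
      ((f : FSch.Hom 𝔛 𝔜).app n).appLE (𝔜.lvU h𝔜.1 n U) _ (FSch.Hom.lvU_preimage f h𝔛.1 h𝔜.1 n U).ge
        (projR 𝔜 h𝔜.1 U n b) :=
  congr(($(FSch.Hom.sharp_proj f h𝔛.1 h𝔜.1 n)).hom.app (op U) b)

theorem isBasic_preimage {U W : (𝔜.X 0).Opens} {a : OA 𝔜 h𝔜.1 U} (d : IsDist 𝔜 h𝔜.1 U a W) :
    IsBasic h𝔛 (((f : FSch.Hom 𝔛 𝔜).app 0) ⁻¹ᵁ U) (sharpR (h𝔛 := h𝔛) (h𝔜 := h𝔜) f U a) (((f : FSch.Hom 𝔛 𝔜).app 0) ⁻¹ᵁ W) :=
  fun n => by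
    rw [projR_sharp, ← FSch.Hom.lvU_preimage f h𝔛.1 h𝔜.1 n W, d.level n, Scheme.Hom.appLE, CommRingCat.comp_apply,
      Scheme.basicOpen_res, ← Scheme.preimage_basicOpen]
    exact (inf_eq_right.2 ((Scheme.Hom.preimage_mono _ ((𝔜.X n).basicOpen_le _)).trans
      (FSch.Hom.lvU_preimage f h𝔛.1 h𝔜.1 n U).le)).symm

theorem qt_pushF [CompactSpace (𝔛.X 0)] (hF : QT h𝔛 F) : QT h𝔜 ((FSch.pushF f h𝔛.1 h𝔜.1).obj F) := by
  haveI : IsLocallyNoetherian (𝔛.X 0) := h𝔛.2.2 0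
  refine ⟨fun U hU t => ?_, fun U W hU a d t ht => ?_, fun U W hU a d t => ?_⟩
  · obtain ⟨P, _, A, hA, haff, hcov⟩ := exists_affine_cover (isCompact_open (((f : FSch.Hom 𝔛 𝔜).app 0) ⁻¹ᵁ U))
    obtain ⟨N, hN⟩ : ∃ N, ∀ p, Kills h𝔛 F (A p) N (RSFin.rs F (hA p) t) := by
      choose n hn using fun p => hF.tors (haff p) (RSFin.rs F (hA p) t)
      exact ⟨Finset.univ.sup n, fun p => (hn p).mono (h𝔛 := h𝔛) (Finset.le_sup (Finset.mem_univ p))⟩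
    refine ⟨N, fun b hb => ?_⟩
    change (show sc (𝔛.Osh h𝔛.1) _ from sharpR (h𝔛 := h𝔛) (h𝔜 := h𝔜) f U b) • (show ModSite.sect F _ from t) = 0
    refine RSFin.eq_zero_of_locally F _ fun y hy => ?_
    obtain ⟨p, hyp⟩ := hcov y hy
    refine ⟨A p, hA p, hyp, ?_⟩
    rw [RSFin.rs_smul]
    refine hN p _ ?_
    rw [← (main 𝔜 h𝔜.1 h𝔜 hU).2.2 N, RingHom.mem_ker] at hb
    have hb' : projR 𝔛 h𝔛.1 (A p) N (rsR (hA p) (sharpR (h𝔛 := h𝔛) (h𝔜 := h𝔜) f U b)) = 0 := by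
      rw [projR_rsR, projR_sharp, hb, map_zero, map_zero]
    rw [← (main 𝔛 h𝔛.1 h𝔛 (haff p)).2.2 N, RingHom.mem_ker]
    exact hb'
  · exact zero_of_basic hF (isBasic_preimage f d) (isCompact_open _)
      ((((f : FSch.Hom 𝔛 𝔜).app 0)).preimage_mono d.le) (show ModSite.sect F _ from t) ht |>.imp fun k hk => by
        change (show sc (𝔛.Osh h𝔛.1) _ from sharpR (h𝔛 := h𝔛) (h𝔜 := h𝔜) f U ((show sc (𝔜.Osh h𝔜.1) U from a) ^ k)) •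
          (show ModSite.sect F _ from t) = 0
        erw [map_pow]
        exact hk
  · obtain ⟨k, z, hz⟩ := ext_of_basic hF (isBasic_preimage (h𝔜 := h𝔜) f d)
      ((((f : FSch.Hom 𝔛 𝔜).app 0)).preimage_mono d.le) (show ModSite.sect F _ from t)
    have hnat : sharpR (h𝔛 := h𝔛) (h𝔜 := h𝔜) f W (rsR d.le a) =
        rsR ((((f : FSch.Hom 𝔛 𝔜).app 0)).preimage_mono d.le) (sharpR (h𝔛 := h𝔛) (h𝔜 := h𝔜) f U a) :=
      NatTrans.naturality_apply (FSch.Hom.sharp f h𝔛.1 h𝔜.1).hom (homOfLE d.le).op a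
    have he := (map_pow (sharpR (h𝔛 := h𝔛) (h𝔜 := h𝔜) f W) (rsR d.le a) k).trans (congrArg (· ^ k) hnat)
    refine ⟨k, z, hz.trans ?_⟩
    exact (congrArg (fun r : sc (𝔛.Osh h𝔛.1) (((f : FSch.Hom 𝔛 𝔜).app 0) ⁻¹ᵁ W) =>
      r • (show ModSite.sect F (((f : FSch.Hom 𝔛 𝔜).app 0) ⁻¹ᵁ W) from t)) he).symm

end Groth.Agent.FSchCoh
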