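import Groth.Agent.FSchCoh.QCTPush
import Groth.Agent.FSchCoh.LevelQCT
import Groth.Agent.FSchCoh.QCTColim
import Groth.Agent.FSchCoh.RpushCoprod
import Groth.Agent.RPushSite.SingleHomology
import Groth.Agent.AcycDef.Acyclic
import Groth.Agent.S7445
import Groth.Agent.S0988
import Groth.Agent.S17053
import Groth.Agent.RPushSite.CohIn

/-!
# Higher direct images of quasi-coherent torsion modules
-/

universe u

open CategoryTheory CategoryTheory.Limits AlgebraicGeometry TopologicalSpace Opposite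

set_option autoImplicit false
set_option backward.isDefEq.respectTransparency false
set_option linter.style.haveILetI false

noncomputable section

namespace Groth.Agent.FSchCoh

/-- embedding of a quasi-coherent module into a flasque one -/
theorem exists_flasque_qcoh_embedding {X : Scheme.{u}} [IsNoetherian X] (G : X.Modules) (hG : Coh.IsQCoh G) :
    ∃ (J : X.Modules) (i : G ⟶ J), Mono i ∧ Coh.IsQCoh J ∧ RPushQC.IsFlasque J := by
  haveI : EnoughInjectives (QCohCat.QCoh X) := Groth.Agent.S7445.result X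
  let P : InjectivePresentation (⟨G, hG⟩ : QCohCat.QCoh X) := (EnoughInjectives.presentation _).some
  refine ⟨P.J.obj, P.f.hom, ?_, P.J.property, fun {V U} h => ?_⟩
  · haveI := P.mono
    refine Preadditive.mono_of_kernel_zero ?_
    have hK : Coh.IsQCoh (kernel P.f.hom) := QC.isQCoh_kernel hG P.J.property P.f.hom
    let k : (⟨kernel P.f.hom, hK⟩ : QCohCat.QCoh X) ⟶ ⟨G, hG⟩ := ObjectProperty.homMk (kernel.ι P.f.hom)
    have hk : k ≫ P.f = 0 := by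
      apply ObjectProperty.hom_ext
      exact kernel.condition P.f.hom
    exact congrArg InducedCategory.Hom.hom ((cancel_mono P.f).1 (hk.trans zero_comp.symm))
  · exact Groth.Agent.S0988.result X P.J P.injective _ _ h

variable {𝔜 : FSch.Sys.{u}} (h𝔜 : 𝔜.IsLocNoethFormal)

/-- every map to a quasi-coherent torsion module has quasi-coherent torsion cokernel -/
def CokQT (X : FSch.ModF 𝔜 h𝔜.1) : Prop :=
  ∀ (T : FSch.ModF 𝔜 h𝔜.1) (ψ : X ⟶ T), QT h𝔜 T → QT h𝔜 (cokernel ψ)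

variable {h𝔜} {A X B C : FSch.ModF 𝔜 h𝔜.1} {g : A ⟶ X} {δ : X ⟶ B} {b : B ⟶ C} {w₁ : g ≫ δ = 0} {w₂ : δ ≫ b = 0}
  (h₁ : (ShortComplex.mk g δ w₁).Exact) (h₂ : (ShortComplex.mk δ b w₂).Exact)
  (hA : QT h𝔜 A) (hB : QT h𝔜 B) (hC : QT h𝔜 C)

include h₁ h₂ hA hB hC in
theorem cokQT_middle : CokQT h𝔜 X := fun T ψ hT => by
  let δ' : X ⟶ kernel b := kernel.lift b δ w₂
  haveI : Epi δ' := h₂.epi_kernelLift
  have h₁' : (ShortComplex.mk g δ' (by rw [← cancel_mono (kernel.ι b)]; simp [δ', w₁])).Exact := by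
    let φ : ShortComplex.mk g δ' (by rw [← cancel_mono (kernel.ι b)]; simp [δ', w₁]) ⟶ ShortComplex.mk g δ w₁ :=
      { τ₁ := 𝟙 _, τ₂ := 𝟙 _, τ₃ := kernel.ι b, comm₁₂ := by simp, comm₂₃ := by simp [δ'] }
    exact (ShortComplex.exact_iff_of_epi_of_isIso_of_mono φ).2 h₁
  let p : T ⟶ cokernel (g ≫ ψ) := cokernel.π _
  have hz : g ≫ ψ ≫ p = 0 := by rw [← Category.assoc]; exact cokernel.condition _
  let θ : kernel b ⟶ cokernel (g ≫ ψ) := h₁'.desc (ψ ≫ p) hz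
  have hθ : δ' ≫ θ = ψ ≫ p := h₁'.g_desc _ _
  let q : T ⟶ cokernel θ := p ≫ cokernel.π θ
  have hq : ψ ≫ q = 0 := by rw [← Category.assoc, ← hθ, Category.assoc, cokernel.condition, comp_zero]
  let r : cokernel (g ≫ ψ) ⟶ cokernel ψ :=
    cokernel.desc _ (cokernel.π ψ) (by rw [Category.assoc, cokernel.condition, comp_zero])
  have hr : θ ≫ r = 0 := by
    rw [← cancel_epi δ', comp_zero, ← Category.assoc, hθ, Category.assoc, cokernel.π_desc, cokernel.condition]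
  let e : cokernel θ ≅ cokernel ψ :=
    { hom := cokernel.desc θ r hr
      inv := cokernel.desc ψ q hq
      hom_inv_id := by
        apply coequalizer.hom_ext
        apply coequalizer.hom_ext
        simp [r, q, p]
      inv_hom_id := by
        apply coequalizer.hom_ext
        simp [r, q, p] }
  exact qt_of_iso h𝔜 e (qt_cokernel h𝔜 θ (qt_kernel h𝔜 b hB hC) (qt_cokernel h𝔜 (g ≫ ψ) hA hT))

variable {A' : FSch.ModF 𝔜 h𝔜.1} {g₀ : A' ⟶ A} {w₀ : g₀ ≫ g = 0} (h₀ : (ShortComplex.mk g₀ g w₀).Exact)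
  (hA' : CokQT h𝔜 A')

include h₀ h₁ h₂ hA hB hC hA' in
theorem qt_middle : QT h𝔜 X := by
  let i : cokernel g₀ ⟶ X := cokernel.desc g₀ g w₀
  haveI : Mono i := h₀.mono_cokernelDesc
  have hid : i ≫ δ = 0 := by rw [← cancel_epi (cokernel.π g₀)]; simp [i, w₁]
  refine qt_five h𝔜 (ComposableArrows.mk₄ (0 : cokernel g₀ ⟶ cokernel g₀) i δ b) ?_ (hA' A g₀ hA) (hA' A g₀ hA) hB hC
  refine ComposableArrows.exact_of_δ₀ (ComposableArrows.exact₂_mk _ (by simp) ?_)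
    (ComposableArrows.exact_of_δ₀ (ComposableArrows.exact₂_mk _ hid ?_) (ComposableArrows.exact₂_mk _ w₂ h₂))
  · exact (ShortComplex.exact_iff_mono _ rfl).2 ‹Mono i›
  · let φ : ShortComplex.mk g δ w₁ ⟶ ShortComplex.mk i δ hid :=
      { τ₁ := cokernel.π g₀, τ₂ := 𝟙 _, τ₃ := 𝟙 _, comm₁₂ := by simp [i], comm₂₃ := by simp }
    exact (ShortComplex.exact_iff_of_epi_of_isIso_of_mono φ).1 h₁

/-! ### Higher direct images -/

variable {𝔛 : FSch.Sys.{u}} {h𝔛 : 𝔛.IsLocNoethFormal} [CompactSpace (𝔛.X 0)] (f : 𝔛 ⟶ 𝔜)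
  [HasInjectiveResolutions (FSch.ModF 𝔛 h𝔛.1)]

theorem qt_rpush_level (n : ℕ) : ∀ (q : ℕ) (G : (𝔛.X n).Modules), Coh.IsQCoh G →
    QT h𝔜 ((FSch.RpushF f h𝔛.1 h𝔜.1 q).obj ((FSch.levelMor 𝔛 h𝔛.1 n).push.obj G)) := by
  haveI : IsLocallyNoetherian (𝔛.X 0) := h𝔛.2.2 0
  haveI : IsLocallyNoetherian (𝔛.X n) := h𝔛.2.2 n
  haveI : CompactSpace (𝔛.X n) := Function.Surjective.compactSpace (𝔛.toX n).base.hom.continuous
    fun y => ⟨𝔛.gInv h𝔛.1 n y, congr(($(FSch.Sys.gInv_toX_base 𝔛 h𝔛.1 n)) y)⟩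
  haveI : IsNoetherian (𝔛.X n) := ⟨⟩
  let P := FSch.pushF f h𝔛.1 h𝔜.1
  haveI : P.IsRightAdjoint := (FSch.homMor f h𝔛.1 h𝔜.1).adj.isRightAdjoint
  haveI : P.Additive := Functor.additive_of_preserves_binary_products _
  haveI : PreservesFiniteLimits P := inferInstance
  intro q
  induction q with
  | zero =>
    intro G hG
    exact qt_of_iso h𝔜 ((P.rightDerivedZeroIsoSelf.app _).symm) (qt_pushF f (qt_level h𝔛 n G hG))
  | succ q ih =>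
    intro G hG
    obtain ⟨J, i, hi, hJ, hJf⟩ := exists_flasque_qcoh_embedding G hG
    haveI := hi
    let S : ShortComplex (𝔛.X n).Modules := ShortComplex.mk i (cokernel.π i) (cokernel.condition i)
    have hS : S.ShortExact := { exact := ShortComplex.exact_cokernel i, mono_f := hi, epi_g := inferInstanceAs (Epi (cokernel.π i)) }
    obtain ⟨w, hT⟩ := shortExact_level h𝔛 n hS
    have hQ : Coh.IsQCoh (cokernel i) := QC.isQCoh_cokernel hG hJ i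
    have hz : IsZero ((P.rightDerived (q + 1)).obj ((FSch.levelMor 𝔛 h𝔛.1 n).push.obj J)) :=
      isZero_rpush_of_qcFlasque f h𝔛.1 h𝔜.1 _ (isQcFlasque_level h𝔛 n hJf) q.succ_pos
    have he := RDerLib.exact₃ P (RDerLib.res hT) q (q + 1) rfl
    haveI := (RDerLib.exact₁ P (RDerLib.res hT) q (q + 1) rfl).epi_f (hz.eq_of_tgt _ _)
    exact qt_of_iso h𝔜 ((cokernelIsCokernel _).coconePointUniqueUpToIso he.gIsCokernel)
      (qt_cokernel h𝔜 _ (ih _ hJ) (ih _ hQ))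

theorem qt_rpush_coh (q : ℕ) (M : FSch.ModF 𝔛 h𝔛.1) (hc : FSch.IsCohF 𝔛 h𝔛.1 M) (hM : FTors.IsTorsF 𝔛 h𝔛.1 M) :
    QT h𝔜 ((FSch.RpushF f h𝔛.1 h𝔜.1 q).obj M) := by
  obtain ⟨n, G, hG, ⟨e⟩⟩ := exists_level h𝔛 M hc hM
  exact qt_of_iso h𝔜 ((FSch.RpushF f h𝔛.1 h𝔜.1 q).mapIso e).symm (qt_rpush_level (h𝔛 := h𝔛) f n q G hG.1)

variable [CompactSpace (𝔜.X 0)]

theorem exists_rpush_bound : ∃ d : ℕ, ∀ (M : FSch.ModF 𝔛 h𝔛.1),
    (ObjectProperty.ind.{u} fun H : FSch.ModF 𝔛 h𝔛.1 => FSch.IsCohF 𝔛 h𝔛.1 H) M →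
      ∀ q : ℕ, d < q → IsZero ((FSch.RpushF f h𝔛.1 h𝔜.1 q).obj M) := by
  haveI : IsLocallyNoetherian (𝔛.X 0) := h𝔛.2.2 0
  haveI : IsNoetherian (𝔛.X 0) := ⟨⟩
  haveI : AlgebraicGeometry.QuasiCompact ((f : FSch.Hom 𝔛 𝔜).app 0) := ⟨fun U _ _ => NoetherianSpace.isCompact _⟩
  obtain ⟨d, hd⟩ := exists_preimage_bound ((f : FSch.Hom 𝔛 𝔜).app 0)
  refine ⟨d, fun M hM q hq => isZero_rpushF_of_locKilled f h𝔛.1 h𝔜.1 M q (CohQC.locKilled_of_basis _ (ModSite.toAb M) q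
    {Z | ∀ N : CohTop.Ab (𝔛.X 0).carrier, AffAcyc (X := 𝔛.X 0) N → ∀ p : ℕ, d < p →
      Subsingleton (CohSite.HU N p (((f : FSch.Hom 𝔛 𝔜).app 0) ⁻¹ᵁ Z))}
    (fun V y hy => ?_) fun W hW => hW _ (affAcyc_of_ind 𝔛 h𝔛 hM) q hq)⟩
  obtain ⟨ι, Z, g, hg, hZ⟩ := hd V
  obtain ⟨W, k, ⟨_, a, b, ⟨j⟩, -⟩, hyW⟩ := hg y hy
  exact ⟨Z j, hZ j, a.le hyW, (g j).le⟩

attribute [local instance] HasDerivedCategory.standard

variable [SiteCmp.HasRpushD (FSch.homMor f h𝔛.1 h𝔜.1)]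

theorem qt_of_isZero {M : FSch.ModF 𝔜 h𝔜.1} (hM : IsZero M) : QT h𝔜 M := by
  haveI : IsGrothendieckAbelian.{u} (FSch.ModF 𝔜 h𝔜.1) := KFlat.isGrothendieck _
  let D : PEmpty.{u + 1} → FSch.ModF 𝔜 h𝔜.1 := fun x => x.elim
  have hz : IsZero (∐ D) := (IsZero.iff_id_eq_zero _).2 (Sigma.hom_ext _ _ fun x => x.elim)
  exact qt_of_iso h𝔜 (hz.iso hM) (qt_sigma h𝔜 D fun x => x.elim)

theorem qt_rpush_coprod (q : ℕ) {T : Type u} (M : T → FSch.ModF 𝔛 h𝔛.1)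
    (hI : ∀ t, (ObjectProperty.ind.{u} fun H : FSch.ModF 𝔛 h𝔛.1 => FSch.IsCohF 𝔛 h𝔛.1 H) (M t))
    (hq : ∀ t, QT h𝔜 ((FSch.RpushF f h𝔛.1 h𝔜.1 q).obj (M t))) :
    QT h𝔜 ((FSch.RpushF f h𝔛.1 h𝔜.1 q).obj (∐ M)) := by
  haveI : IsGrothendieckAbelian.{u} (FSch.ModF 𝔛 h𝔛.1) := KFlat.isGrothendieck _
  haveI : IsGrothendieckAbelian.{u} (FSch.ModF 𝔜 h𝔜.1) := KFlat.isGrothendieck _
  haveI := hasCoproducts_D (A := FSch.ModF 𝔛 h𝔛.1) T
  haveI := hasCoproducts_D (A := FSch.ModF 𝔜 h𝔜.1) T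
  let F := FSch.homMor f h𝔛.1 h𝔜.1
  let R := SiteCmp.RpushD F
  let H := DerivedCategory.homologyFunctor (FSch.ModF 𝔜 h𝔜.1) (q : ℤ)
  let S₀ := DerivedCategory.singleFunctor (FSch.ModF 𝔛 h𝔛.1) 0
  let S := HomologicalComplex.single (FSch.ModF 𝔛 h𝔛.1) (ComplexShape.up ℤ) 0
  let K := fun t => S₀.obj (M t)
  have hK : ∀ t, IndCohD h𝔛 (K t) := fun t i => by
    let P := ObjectProperty.ind.{u} fun H : FSch.ModF 𝔛 h𝔛.1 => FSch.IsCohF 𝔛 h𝔛.1 H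
    rcases eq_or_ne i 0 with rfl | hi
    · exact P.prop_of_iso ((DerivedCategory.singleFunctorCompHomologyFunctorIso _ 0).app (M t)).symm (hI t)
    · haveI : P.IsClosedUnderColimitsOfShape (Discrete PEmpty.{u + 1}) := Groth.Agent.S17026.result 𝔛 h𝔛 _
      let E := Discrete.functor fun x : PEmpty.{u + 1} => (x.elim : FSch.ModF 𝔛 h𝔛.1)
      have hz : IsZero (colimit E) := (IsZero.iff_id_eq_zero _).2 (colimit.hom_ext fun x => x.as.elim)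
      refine P.prop_of_iso (hz.iso ?_) (P.prop_colimit E fun x => x.as.elim)
      rcases lt_or_gt_of_ne hi with hi | hi
      · exact DerivedCategory.isZero_of_isGE (K t) 0 i hi
      · exact DerivedCategory.isZero_of_isLE (K t) 0 i hi
  haveI := preservesColimit_rpush_ind h𝔛 h𝔜.1 f K hK
  haveI := preservesCoproducts_HD (A := FSch.ModF 𝔜 h𝔜.1) T (q : ℤ)
  let e' : ∀ t, DerivedCategory.Q.obj (S.obj (M t)) ≅ K t := fun t =>
    ((DerivedCategory.singleFunctorIsoCompQ (FSch.ModF 𝔛 h𝔛.1) 0).app (M t)).symm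
  obtain ⟨hc⟩ := exists_coprod_cofan K (fun t => S.obj (M t)) e'
  let eK : S₀.obj (∐ M) ≅ ∐ K :=
    (DerivedCategory.singleFunctorIsoCompQ (FSch.ModF 𝔛 h𝔛.1) 0).app _ ≪≫
      DerivedCategory.Q.mapIso (PreservesCoproduct.iso S M) ≪≫ hc.coconePointUniqueUpToIso (coproductIsCoproduct K)
  exact qt_of_iso h𝔜 ((Limits.Sigma.mapIso fun t => (RPushSite.nonempty_homology_single F (M t) q).some.symm) ≪≫
    (PreservesCoproduct.iso H fun t => R.obj (K t)).symm ≪≫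
      H.mapIso ((PreservesCoproduct.iso R K).symm ≪≫ R.mapIso eK.symm) ≪≫
        (RPushSite.nonempty_homology_single F (∐ M) q).some) (qt_sigma h𝔜 _ hq)

theorem exists_epi_coprod {K : FSch.ModF 𝔛 h𝔛.1} (hK : QT h𝔛 K) :
    ∃ (T : Type u) (M : T → FSch.ModF 𝔛 h𝔛.1) (π : (∐ M) ⟶ K), Epi π ∧
      ∀ t, FSch.IsCohF 𝔛 h𝔛.1 (M t) ∧ FTors.IsTorsF 𝔛 h𝔛.1 (M t) ∧ QT h𝔛 (M t) := by
  haveI : IsGrothendieckAbelian.{u} (FSch.ModF 𝔛 h𝔛.1) := KFlat.isGrothendieck _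
  obtain ⟨J, _, _, pres, hc, hmono⟩ := limPres_of_qt hK
  refine ⟨J, fun j => pres.diag.obj j, Sigma.desc fun j => pres.ι.app j, ?_, fun j => ?_⟩
  · refine ⟨fun {Z} a b hab => pres.isColimit.hom_ext fun j => ?_⟩
    have := congrArg (fun x => Sigma.ι (fun j => pres.diag.obj j) j ≫ x) hab
    simp only [Sigma.ι_desc_assoc] at this
    exact this
  · haveI := hmono j
    have h := isQCT_of_mono_coh h𝔛 (pres.ι.app j) (hc j) hK.isQCT.1
    exact ⟨hc j, h.1, qt_of_isQCT h𝔛 h.1 h.2⟩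

theorem qt_rpush (q : ℕ) (K : FSch.ModF 𝔛 h𝔛.1) (hK : QT h𝔛 K) :
    QT h𝔜 ((FSch.RpushF f h𝔛.1 h𝔜.1 q).obj K) := by
  haveI : IsGrothendieckAbelian.{u} (FSch.ModF 𝔛 h𝔛.1) := KFlat.isGrothendieck _
  obtain ⟨d, hd⟩ := exists_rpush_bound (h𝔜 := h𝔜) (h𝔛 := h𝔛) f
  let P := FSch.pushF f h𝔛.1 h𝔜.1
  haveI : P.IsRightAdjoint := (FSch.homMor f h𝔛.1 h𝔜.1).adj.isRightAdjoint
  haveI : P.Additive := Functor.additive_of_preserves_binary_products _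
  have hind : ∀ {M : FSch.ModF 𝔛 h𝔛.1}, QT h𝔛 M →
      (ObjectProperty.ind.{u} fun H : FSch.ModF 𝔛 h𝔛.1 => FSch.IsCohF 𝔛 h𝔛.1 H) M := fun hM =>
    (Groth.Agent.S17053.result 𝔛 h𝔛).2 _ hM.isQCT
  suffices h : ∀ (k q : ℕ), d + 1 ≤ q + k → ∀ K, QT h𝔛 K → QT h𝔜 ((P.rightDerived q).obj K) from
    h (d + 1) q (Nat.le_add_left _ _) K hK
  intro k
  induction k with
  | zero => exact fun q hq K hK => qt_of_isZero (hd K (hind hK) q (by omega))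
  | succ k ih =>
    intro q hq
    have hcop : ∀ {T : Type u} (M : T → FSch.ModF 𝔛 h𝔛.1), (∀ t, FSch.IsCohF 𝔛 h𝔛.1 (M t) ∧
        FTors.IsTorsF 𝔛 h𝔛.1 (M t) ∧ QT h𝔛 (M t)) → ∀ p, QT h𝔜 ((P.rightDerived p).obj (∐ M)) := fun M hM p =>
      qt_rpush_coprod (h𝔛 := h𝔛) f p M (fun t => hind (hM t).2.2) fun t => qt_rpush_coh (h𝔛 := h𝔛) f p _ (hM t).1 (hM t).2.1
    have step : ∀ K, QT h𝔛 K → CokQT h𝔜 ((P.rightDerived q).obj K) := by
      intro K hK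
      obtain ⟨T, M, π, hπ, hM⟩ := exists_epi_coprod hK
      haveI := hπ
      let S : ShortComplex (FSch.ModF 𝔛 h𝔛.1) := ShortComplex.mk (kernel.ι π) π (kernel.condition π)
      have hS : S.ShortExact := { exact := ShortComplex.exact_kernel π, mono_f := inferInstanceAs (Mono (kernel.ι π)), epi_g := hπ }
      have hK' : QT h𝔛 (kernel π) := qt_kernel h𝔛 π (qt_sigma h𝔛 M fun t => (hM t).2.2) hK
      exact cokQT_middle (RDerLib.exact₃ P (RDerLib.res hS) q (q + 1) rfl)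
        (RDerLib.exact₁ P (RDerLib.res hS) q (q + 1) rfl) (hcop M hM q) (ih (q + 1) (by omega) _ hK')
        (hcop M hM (q + 1))
    intro K hK
    obtain ⟨T, M, π, hπ, hM⟩ := exists_epi_coprod hK
    haveI := hπ
    let S : ShortComplex (FSch.ModF 𝔛 h𝔛.1) := ShortComplex.mk (kernel.ι π) π (kernel.condition π)
    have hS : S.ShortExact := { exact := ShortComplex.exact_kernel π, mono_f := inferInstanceAs (Mono (kernel.ι π)), epi_g := hπ }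
    have hK' : QT h𝔛 (kernel π) := qt_kernel h𝔛 π (qt_sigma h𝔛 M fun t => (hM t).2.2) hK
    exact qt_middle (RDerLib.exact₃ P (RDerLib.res hS) q (q + 1) rfl)
      (RDerLib.exact₁ P (RDerLib.res hS) q (q + 1) rfl) (hcop M hM q) (ih (q + 1) (by omega) _ hK')
      (hcop M hM (q + 1)) (RDerLib.exact₂ P (RDerLib.res hS) q) (step _ hK')

theorem isWeakSerre_qct : WSerre.IsWeakSerre (FTors.IsQCT 𝔜 h𝔜.1) := by
  haveI : IsGrothendieckAbelian.{u} (FSch.ModF 𝔜 h𝔜.1) := KFlat.isGrothendieck _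
  let P := FTors.IsQCT 𝔜 h𝔜.1
  have hq : ∀ {M : FSch.ModF 𝔜 h𝔜.1}, P M → QT h𝔜 M := fun h => qt_of_isQCT h𝔜 h.1 h.2
  exact
    { exists_zero := by
        let D : PEmpty.{u + 1} → FSch.ModF 𝔜 h𝔜.1 := fun x => x.elim
        exact ⟨∐ D, (IsZero.iff_id_eq_zero _).2 (Sigma.hom_ext _ _ fun x => x.elim),
          (qt_sigma h𝔜 D fun x => x.elim).isQCT⟩
      kernels_le := by
        rintro _ ⟨g, k, hk, hX, hY⟩
        exact (qt_of_iso h𝔜 (hk.conePointUniqueUpToIso (kernelIsKernel g)).symm (qt_kernel h𝔜 g (hq hX) (hq hY))).isQCT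
      cokernels_le := by
        rintro _ ⟨g, k, hk, hX, hY⟩
        exact (qt_of_iso h𝔜 (hk.coconePointUniqueUpToIso (cokernelIsCokernel g)).symm
          (qt_cokernel h𝔜 g (hq hX) (hq hY))).isQCT
      prop_X₂_of_shortExact := fun {S} hS h1 h3 => by
        refine (qt_five h𝔜 (ComposableArrows.mk₄ (0 : S.X₁ ⟶ S.X₁) S.f S.g (0 : S.X₃ ⟶ S.X₃)) ?_
          (hq h1) (hq h1) (hq h3) (hq h3)).isQCT
        exact ComposableArrows.exact_of_δ₀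
          (ComposableArrows.exact₂_mk _ zero_comp ((ShortComplex.exact_iff_mono _ rfl).2 hS.mono_f))
          (ComposableArrows.exact_of_δ₀ (ComposableArrows.exact₂_mk _ S.zero hS.exact)
            (ComposableArrows.exact₂_mk _ comp_zero ((ShortComplex.exact_iff_epi _ rfl).2 hS.epi_g))) }

theorem isDQCT_rpush (K : DerivedCategory (FSch.ModF 𝔛 h𝔛.1)) (hK : FTors.IsDQCT 𝔛 h𝔛.1 K) :
    FTors.IsDQCT 𝔜 h𝔜.1 ((SiteCmp.RpushD (FSch.homMor f h𝔛.1 h𝔜.1)).obj K) := by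
  haveI : IsLocallyNoetherian (𝔛.X 0) := h𝔛.2.2 0
  haveI : IsNoetherian (𝔛.X 0) := ⟨⟩
  haveI : AlgebraicGeometry.QuasiCompact ((f : FSch.Hom 𝔛 𝔜).app 0) := ⟨fun U _ _ => NoetherianSpace.isCompact _⟩
  obtain ⟨d, hd⟩ := exists_preimage_bound ((f : FSch.Hom 𝔛 𝔜).app 0)
  intro j
  let t : Triangulated.TStructure (DerivedCategory (FSch.ModF 𝔛 h𝔛.1)) := DerivedCategory.TStructure.t
  let m : ℕ := ((d : ℤ) + 1 - j).toNat
  let T := (t.truncGE (-(m : ℤ))).obj K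
  haveI hT : T.IsGE (-(m : ℤ)) := HDU.isGE_truncGE K _
  haveI := isWeakSerre_qct (h𝔜 := h𝔛)
  haveI := isWeakSerre_qct (h𝔜 := h𝔜)
  have hTq : WSerre.cohIn (FTors.IsQCT 𝔛 h𝔛.1) T := fun k => by
    rcases lt_or_ge k (-(m : ℤ)) with hk | hk
    · obtain ⟨Z, hZ, hPZ⟩ := (FTors.IsQCT 𝔛 h𝔛.1).exists_prop_of_containsZero
      exact (FTors.IsQCT 𝔛 h𝔛.1).prop_of_iso (hZ.iso ((DerivedCategory.isGE_iff _ _).1 hT k hk)) hPZ
    · have := HDU.isIso_H_truncGEπ K (-(m : ℤ)) k hk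
      exact (FTors.IsQCT 𝔛 h𝔛.1).prop_of_iso
        (asIso ((DerivedCategory.homologyFunctor _ k).map ((t.truncGEπ (-(m : ℤ))).app K))) (hK k)
  have hind := (Groth.Agent.S17053.result 𝔛 h𝔛).2
  haveI : IsIso ((DerivedCategory.homologyFunctor (FSch.ModF 𝔜 h𝔜.1) j).map
      ((SiteCmp.RpushD (FSch.homMor f h𝔛.1 h𝔜.1)).map ((t.truncGEπ (-(m : ℤ))).app K))) :=
    isIso_H_rpush_of_high h𝔛 h𝔜.1 f _ (fun i => hind _ (hK i)) (fun i => hind _ (hTq i)) j m d (by omega)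
      (fun i hi => HDU.isIso_H_truncGEπ K _ i hi) hd
  exact (FTors.IsQCT 𝔜 h𝔜.1).prop_of_iso
    (asIso ((DerivedCategory.homologyFunctor (FSch.ModF 𝔜 h𝔜.1) j).map
      ((SiteCmp.RpushD (FSch.homMor f h𝔛.1 h𝔜.1)).map ((t.truncGEπ (-(m : ℤ))).app K)))).symm
    (RPushSite.cohIn_rpush_boundedBelow (FSch.homMor f h𝔛.1 h𝔜.1) (FTors.IsQCT 𝔛 h𝔛.1) (FTors.IsQCT 𝔜 h𝔜.1)
      (fun F hF p => (qt_rpush (h𝔜 := h𝔜) f p F (qt_of_isQCT h𝔛 hF.1 hF.2)).isQCT) T _ hT hTq j)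

end Groth.Agent.FSchCoh
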