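import Groth.Agent.FSchCoh.LimKer
import Groth.Agent.FSchCoh.Glue

/-!
# Quasi-coherent modules on a formal scheme over affine opens
-/

universe u

open CategoryTheory CategoryTheory.Limits AlgebraicGeometry TopologicalSpace Opposite
open Groth.Agent.RSFin (sc rsR Gen Rel spanOn)

set_option autoImplicit false
set_option backward.isDefEq.respectTransparency false
set_option linter.style.haveILetI false

noncomputable section

namespace Groth.Agent.FSchCoh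

variable {𝔛 : FSch.Sys.{u}} {h𝔛 : 𝔛.IsLocNoethFormal}

/-- on affine opens inside `U₀`: sections generate, and finitely many have finitely generated relations -/
def QCU (h𝔛 : 𝔛.IsLocNoethFormal) (F : FSch.ModF 𝔛 h𝔛.1) (U₀ : (𝔛.X 0).Opens) : Prop :=
  ∀ ⦃W : (𝔛.X 0).Opens⦄, IsAffineOpen W → W ≤ U₀ → Gen F (fun z : ModSite.sect F W => z) ∧
    ∀ {ι : Type} [Fintype ι] (q : ι → ModSite.sect F W),
      ∃ (κ : Type) (_ : Fintype κ) (r : κ → ι → sc (𝔛.Osh h𝔛.1) W), Rel F q r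

theorem QCU.mono {F : FSch.ModF 𝔛 h𝔛.1} {U U' : (𝔛.X 0).Opens} (h : QCU h𝔛 F U) (e : U' ≤ U) : QCU h𝔛 F U' :=
  fun _ hW hle => h hW (hle.trans e)

section pres

variable {F : FSch.ModF 𝔛 h𝔛.1} {U₀ W : (𝔛.X 0).Opens} (hW : IsAffineOpen W) (e₀ : W ≤ U₀)
  {I J : Type u} (s : I → ModSite.sect F U₀) (r : J → I → sc (𝔛.Osh h𝔛.1) U₀) (hs : Gen F s)
  (hsupp : ∀ j, ∀ y ∈ U₀, ∃ (W : (𝔛.X 0).Opens) (hW : W ≤ U₀) (S : Finset I), y ∈ W ∧
    (∀ i ∉ S, rsR hW (r j i) = 0) ∧ ∑ i ∈ S, rsR hW (r j i) • RSFin.rs F hW (s i) = 0)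

open scoped Classical in
/-- the relations of a presentation are complete -/
def RelComplete : Prop :=
  ∀ ⦃V : (𝔛.X 0).Opens⦄ (h : V ≤ U₀) (S : Finset I) (c : I → sc (𝔛.Osh h𝔛.1) V),
    ∑ i ∈ S, c i • RSFin.rs F h (s i) = 0 →
      ∀ y ∈ V, ∃ (W : (𝔛.X 0).Opens) (hW : W ≤ V) (T : Finset J) (d : J → sc (𝔛.Osh h𝔛.1) W), y ∈ W ∧
        ∀ i, ∑ j ∈ T, d j * rsR (hW.trans h) (r j i) = if i ∈ S then rsR hW (c i) else 0

variable (hrel : RelComplete (h𝔛 := h𝔛) s r)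

include hW e₀ hsupp in
theorem exists_rows_support (T : Finset J) :
    ∃ S : Finset I, ∀ j ∈ T, (∀ i ∉ S, rsR e₀ (r j i) = 0) ∧ ∑ i ∈ S, rsR e₀ (r j i) • RSFin.rs F e₀ (s i) = 0 := by
  classical
  choose S hS₀ hS using fun j => exists_finite_support hW e₀ s (r j) (hsupp j)
  refine ⟨T.biUnion S, fun j hj => ⟨fun i hi => hS₀ j i fun h => hi (Finset.mem_biUnion.2 ⟨j, hj, h⟩), ?_⟩⟩
  rw [← Finset.sum_subset (fun i hi => Finset.mem_biUnion.2 ⟨j, hj, hi⟩) fun i _ hi => by rw [hS₀ j i hi, zero_smul]]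
  exact hS j

include hs in
theorem exists_local_vec (q : ModSite.sect F W) {y : 𝔛.X 0} (hy : y ∈ W) (e₀ : W ≤ U₀) (hW : IsAffineOpen W) :
    ∃ (a : OA 𝔛 h𝔛.1 W) (W' : (𝔛.X 0).Opens) (d : IsDist 𝔛 h𝔛.1 W a W') (S : Finset I)
      (c : I → sc (𝔛.Osh h𝔛.1) W'), y ∈ W' ∧ (∀ i ∉ S, c i = 0) ∧
        ∑ i ∈ S, c i • RSFin.rs F (d.le.trans e₀) (s i) = RSFin.rs F d.le q := by
  obtain ⟨V, hV, hyV, hm⟩ := hs e₀ q y hy
  obtain ⟨c, hc⟩ := Finsupp.mem_span_range_iff_exists_finsupp.1 hm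
  obtain ⟨a, W', hyW', hle, d⟩ := exists_dist 𝔛 h𝔛.1 hW hV hyV
  refine ⟨a, W', d, c.support, fun i => rsR hle (c i), hyW', fun i hi => ?_, ?_⟩
  · show rsR hle (c i) = 0
    rw [Finsupp.notMem_support_iff.1 hi, map_zero]
  · have := congrArg (RSFin.rs F hle) hc
    rw [Finsupp.sum, map_sum, RSFin.rs_rs] at this
    refine Eq.trans (Finset.sum_congr rfl fun i _ => ?_) this
    rw [RSFin.rs_smul, RSFin.rs_rs]

include hW e₀ hs hsupp hrel in
/-- a section over an affine open is a finite combination of the generators -/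
theorem exists_comb_affine (q : ModSite.sect F W) :
    ∃ (S : Finset I) (c : I → sc (𝔛.Osh h𝔛.1) W), ∑ i ∈ S, c i • RSFin.rs F e₀ (s i) = q := by
  classical
  choose a W₁ d S₁ c₁ hyW₁ hc₀ hc₁ using fun y : W => exists_local_vec (h𝔛 := h𝔛) s hs q y.2 e₀ hW
  obtain ⟨P, hP⟩ := hW.isCompact.elim_finite_subcover (fun y : W => (W₁ y : Set (𝔛.X 0))) (fun y => (W₁ y).isOpen)
    fun y hy => (Set.mem_iUnion (s := fun a : W => (W₁ a : Set (𝔛.X 0)))).2 ⟨⟨y, hy⟩, hyW₁ _⟩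
  let S₀ := P.biUnion S₁
  have hsum : ∀ y ∈ P, ∑ i ∈ S₀, c₁ y i • RSFin.rs F ((d y).le.trans e₀) (s i) = RSFin.rs F (d y).le q := fun y hy => by
    refine (Finset.sum_subset (fun i hi => Finset.mem_biUnion.2 ⟨y, hy, hi⟩) fun i _ hi => ?_).symm.trans (hc₁ y)
    rw [hc₀ y i hi, zero_smul]
  have hov : ∀ p : P × P, ∃ T : Finset J, ∀ z ∈ W₁ p.1.1 ⊓ W₁ p.2.1, ∃ (W' : (𝔛.X 0).Opens)
      (e : W' ≤ W₁ p.1.1 ⊓ W₁ p.2.1) (dd : J → sc (𝔛.Osh h𝔛.1) W'), z ∈ W' ∧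
        ∀ i, ∑ j ∈ T, dd j * rsR (e.trans (inf_le_left.trans ((d p.1.1).le.trans e₀))) (r j i) =
          rsR (e.trans inf_le_left) (c₁ p.1.1 i) - rsR (e.trans inf_le_right) (c₁ p.2.1 i) := fun p => by
    let V := W₁ p.1.1 ⊓ W₁ p.2.1
    have e1 : V ≤ W₁ p.1.1 := inf_le_left
    have e2 : V ≤ W₁ p.2.1 := inf_le_right
    have h0 : ∑ i ∈ S₀, (rsR e1 (c₁ p.1.1 i) - rsR e2 (c₁ p.2.1 i)) •
        RSFin.rs F (e1.trans ((d p.1.1).le.trans e₀)) (s i) = 0 := by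
      have h1 := congrArg (RSFin.rs F e1) (hsum _ p.1.2)
      have h2 := congrArg (RSFin.rs F e2) (hsum _ p.2.2)
      simp only [map_sum, RSFin.rs_smul, RSFin.rs_rs] at h1 h2
      simp only [sub_smul, Finset.sum_sub_distrib]
      rw [h1, h2, sub_self]
    choose W' e T dd hzW' hdd using fun z : V => hrel (e1.trans ((d p.1.1).le.trans e₀)) S₀ _ h0 z.1 z.2
    have hV : IsAffineOpen V := (IsDist.mul h𝔛 (d p.1.1) (d p.2.1) hW).affine
    obtain ⟨Q, hQ⟩ := hV.isCompact.elim_finite_subcover (fun z : V => (W' z : Set (𝔛.X 0))) (fun z => (W' z).isOpen)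
      fun z hz => (Set.mem_iUnion (s := fun a : V => (W' a : Set (𝔛.X 0)))).2 ⟨⟨z, hz⟩, hzW' _⟩
    refine ⟨Q.biUnion T, fun z hz => ?_⟩
    obtain ⟨w, hwQ, hzw⟩ := Set.mem_iUnion₂.1 (hQ hz)
    refine ⟨W' w, e w, fun j => if j ∈ T w then dd w j else 0, hzw, fun i => ?_⟩
    rw [← Finset.sum_subset (fun j hj => Finset.mem_biUnion.2 ⟨w, hwQ, hj⟩) fun j _ hj => by simp only [if_neg hj, zero_mul]]
    refine ((Finset.sum_congr rfl fun j hj => by simp only [if_pos hj]).trans (hdd w i)).trans ?_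
    by_cases hi : i ∈ S₀
    · rw [if_pos hi, map_sub, RSFin.rsR_rsR, RSFin.rsR_rsR]
    · rw [if_neg hi, hc₀ _ i (fun h => hi (Finset.mem_biUnion.2 ⟨_, p.1.2, h⟩)),
        hc₀ _ i (fun h => hi (Finset.mem_biUnion.2 ⟨_, p.2.2, h⟩)), map_zero, map_zero, sub_self]
  choose T hT using hov
  let T₀ := Finset.univ.biUnion T
  obtain ⟨S₂, hS₂⟩ := exists_rows_support (h𝔛 := h𝔛) hW e₀ s r hsupp T₀
  let S := S₀ ∪ S₂
  obtain ⟨c₀, hc₀'⟩ := exists_glue h𝔛 hW (fun (j : T₀) (i : S) => rsR e₀ (r j.1 i.1)) (fun p : P => a p.1)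
    (fun p => W₁ p.1) (fun p => d p.1) (fun y hy => by
      obtain ⟨z, hz, hyz⟩ := Set.mem_iUnion₂.1 (hP hy)
      exact ⟨⟨z, hz⟩, hyz⟩)
    (fun p i => c₁ p.1 i.1) fun p p' z hz => by
      obtain ⟨W', e, dd, hzW', hdd⟩ := hT (p, p') z hz
      refine ⟨W', e, hzW', (Submodule.mem_span_range_iff_exists_fun _).2
        ⟨fun j => if j.1 ∈ T (p, p') then dd j.1 else 0, funext fun i => ?_⟩⟩
      simp only [Finset.sum_apply, Pi.smul_apply, smul_eq_mul, rsV, Pi.sub_apply, RSFin.rsR_rsR]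
      rw [Finset.sum_coe_sort T₀ (fun j => (if j ∈ T (p, p') then dd j else 0) *
        rsR (e.trans (inf_le_left.trans ((d p.1).le.trans e₀))) (r j i.1)),
        ← Finset.sum_subset (fun j hj => Finset.mem_biUnion.2 ⟨_, Finset.mem_univ _, hj⟩)
          fun j _ hj => by rw [if_neg hj, zero_mul]]
      exact (Finset.sum_congr rfl fun j hj => by rw [if_pos hj]).trans (hdd i.1)
  refine ⟨S, fun i => if hi : i ∈ S then c₀ ⟨i, hi⟩ else 0, RSFin.eq_of_locally F _ _ fun y hy => ?_⟩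
  obtain ⟨z, hz, hyz⟩ := Set.mem_iUnion₂.1 (hP hy)
  refine ⟨W₁ z, (d z).le, hyz, ?_⟩
  let ev : (S → sc (𝔛.Osh h𝔛.1) (W₁ z)) →ₗ[sc (𝔛.Osh h𝔛.1) (W₁ z)] ModSite.sect F (W₁ z) :=
    Fintype.linearCombination (sc (𝔛.Osh h𝔛.1) (W₁ z)) fun i => RSFin.rs F ((d z).le.trans e₀) (s i.1)
  have hker : ev (rsV h𝔛 (d z).le c₀ - fun i => c₁ z i.1) = 0 := by
    refine LinearMap.mem_ker.1 (Submodule.span_le.2 ?_ (hc₀' ⟨z, hz⟩))
    rintro - ⟨j, rfl⟩
    rw [SetLike.mem_coe, LinearMap.mem_ker]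
    simp only [ev, Fintype.linearCombination_apply, rsV, RSFin.rsR_rsR]
    rw [Finset.sum_coe_sort S fun i => rsR ((d z).le.trans e₀) (r j.1 i) • RSFin.rs F ((d z).le.trans e₀) (s i),
      ← Finset.sum_subset Finset.subset_union_right fun i _ hi => by
        rw [← RSFin.rsR_rsR (d z).le e₀, (hS₂ j.1 j.2).1 i hi, map_zero, zero_smul]]
    have := congrArg (RSFin.rs F (d z).le) (hS₂ j.1 j.2).2
    simpa only [map_sum, RSFin.rs_smul, RSFin.rs_rs, RSFin.rsR_rsR, map_zero] using this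
  rw [map_sub, sub_eq_zero] at hker
  simp only [ev, Fintype.linearCombination_apply, rsV] at hker
  rw [Finset.sum_coe_sort S fun i => c₁ z i • RSFin.rs F ((d z).le.trans e₀) (s i),
    ← Finset.sum_subset Finset.subset_union_left fun i _ hi => by
      rw [hc₀ z i fun h => hi (Finset.mem_biUnion.2 ⟨z, hz, h⟩), zero_smul], hsum z hz] at hker
  rw [← hker, map_sum, ← Finset.sum_coe_sort S]
  refine Finset.sum_congr rfl fun i _ => ?_
  simp only [RSFin.rs_smul, RSFin.rs_rs, dif_pos i.2]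

include hW e₀ hs hsupp hrel in
theorem exists_rel_affine {ι : Type} [Fintype ι] (q : ι → ModSite.sect F W) :
    ∃ (κ : Type) (_ : Fintype κ) (r' : κ → ι → sc (𝔛.Osh h𝔛.1) W), Rel F q r' := by
  classical
  choose S C hC using fun k => exists_comb_affine (h𝔛 := h𝔛) hW e₀ s r hs hsupp hrel (q k)
  let S₀ := Finset.univ.biUnion S
  let C₀ : ι → I → sc (𝔛.Osh h𝔛.1) W := fun k i => if i ∈ S k then C k i else 0
  have hC₀ : ∀ k, ∑ i ∈ S₀, C₀ k i • RSFin.rs F e₀ (s i) = q k := fun k => by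
    rw [← Finset.sum_subset (fun i hi => Finset.mem_biUnion.2 ⟨k, Finset.mem_univ k, hi⟩)
      fun i _ hi => by simp only [C₀, if_neg hi, zero_smul]]
    exact (Finset.sum_congr rfl fun i hi => by simp only [C₀, if_pos hi]).trans (hC k)
  choose S₁ hS₁ using exists_rows_support (h𝔛 := h𝔛) hW e₀ s r hsupp
  have hu : Good h𝔛 (FSch.unitF 𝔛 h𝔛.1) := good_of_coh h𝔛 (isCohF_unit h𝔛)
  let col : ∀ T : Finset J, Fin (S₀ ∪ S₁ T).card → I := fun T a => ((S₀ ∪ S₁ T).equivFin.symm a).1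
  let v : ∀ T : Finset J, Fin (S₀ ∪ S₁ T).card → ι ⊕ Fin T.card → ModSite.sect (FSch.unitF 𝔛 h𝔛.1) W :=
    fun T a => Sum.elim (fun k => C₀ k (col T a)) fun l => -rsR e₀ (r (T.equivFin.symm l).1 (col T a))
  choose κ hκ rr hrr hgen using fun T => exists_rel_maps hW (fun _ => FSch.unitF 𝔛 h𝔛.1) (fun _ => hu) (v T)
  refine exists_rel_of_family h𝔛 hW q (fun l : Σ T, κ T => fun k => rr l.1 l.2 (Sum.inl k)) (fun l => ?_)
    fun V h c hc y hy => ?_
  · obtain ⟨T, l⟩ := l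
    have h1 : ∀ a, ∑ k, rr T l (Sum.inl k) * C₀ k (col T a) =
        ∑ m, rr T l (Sum.inr m) * rsR e₀ (r (T.equivFin.symm m).1 (col T a)) := fun a => by
      have := hrr T l a
      simp only [v, Fintype.sum_sum_type, Sum.elim_inl, Sum.elim_inr, smul_neg, Finset.sum_neg_distrib] at this
      exact add_neg_eq_zero.1 this
    have h2 : ∀ i ∈ S₀ ∪ S₁ T, ∑ k, rr T l (Sum.inl k) * C₀ k i =
        ∑ m, rr T l (Sum.inr m) * rsR e₀ (r (T.equivFin.symm m).1 i) := fun i hi => by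
      have := h1 ((S₀ ∪ S₁ T).equivFin ⟨i, hi⟩)
      simpa only [col, Equiv.symm_apply_apply] using this
    show ∑ k, rr T l (Sum.inl k) • q k = 0
    simp only [← hC₀, Finset.smul_sum, smul_smul]
    rw [Finset.sum_comm]
    simp only [← Finset.sum_smul]
    rw [Finset.sum_subset Finset.subset_union_left (s₂ := S₀ ∪ S₁ T) fun i _ hi => by
      rw [Finset.sum_eq_zero fun k _ => ?_, zero_smul]
      simp only [C₀]
      rw [if_neg fun h => hi (Finset.mem_biUnion.2 ⟨k, Finset.mem_univ k, h⟩), mul_zero]]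
    refine (Finset.sum_congr rfl fun i hi => by rw [h2 i hi]).trans ?_
    simp only [Finset.sum_smul, mul_smul]
    rw [Finset.sum_comm]
    refine Finset.sum_eq_zero fun m _ => ?_
    rw [← Finset.smul_sum, ← Finset.sum_subset Finset.subset_union_right fun i _ hi => by
      rw [(hS₁ T _ (T.equivFin.symm m).2).1 i hi, zero_smul], (hS₁ T _ (T.equivFin.symm m).2).2, smul_zero]
  · have h0 : ∑ i ∈ S₀, (∑ k, c k * rsR h (C₀ k i)) • RSFin.rs F (h.trans e₀) (s i) = 0 := by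
      simp only [Finset.sum_smul, mul_smul]
      rw [Finset.sum_comm]
      refine Eq.trans (Finset.sum_congr rfl fun k _ => ?_) hc
      rw [← Finset.smul_sum, ← hC₀ k, map_sum]
      congr 1
      exact Finset.sum_congr rfl fun i _ => by rw [RSFin.rs_smul, RSFin.rs_rs]
    obtain ⟨W', hW', T, dd, hyW', hdd⟩ := hrel (h.trans e₀) S₀ _ h0 y hy
    obtain ⟨W'', hW'', hyW'', f, hf⟩ := hgen T (hW'.trans h)
      (Sum.elim (fun k => rsR hW' (c k)) fun m => dd (T.equivFin.symm m).1) (fun a => by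
        show ∑ x, Sum.elim (fun k => rsR hW' (c k)) (fun m => dd (T.equivFin.symm m).1) x *
          rsR (hW'.trans h) (v T a x) = 0
        rw [Fintype.sum_sum_type]
        simp only [v, Sum.elim_inl, Sum.elim_inr, map_neg, mul_neg, Finset.sum_neg_distrib, RSFin.rsR_rsR]
        rw [add_neg_eq_zero, T.equivFin.symm.sum_comp fun j : T => dd j.1 * rsR ((hW'.trans h).trans e₀) (r j.1 (col T a)),
          Finset.sum_coe_sort T fun j => dd j * rsR ((hW'.trans h).trans e₀) (r j (col T a)), hdd]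
        split_ifs with hi
        · simp only [map_sum, map_mul, RSFin.rsR_rsR]
        · refine Finset.sum_eq_zero fun k _ => ?_
          simp only [C₀]
          rw [if_neg fun h' => hi (Finset.mem_biUnion.2 ⟨k, Finset.mem_univ k, h'⟩), map_zero, mul_zero]) y hyW'
    refine ⟨W'', hW''.trans hW', hyW'', ?_⟩
    have e : (fun k => rsR (hW''.trans hW') (c k)) =
        ∑ l, f l • fun k => rsR ((hW''.trans hW').trans h) (rr T l (Sum.inl k)) := funext fun k => by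
      have := hf (Sum.inl k)
      simp only [Sum.elim_inl, RSFin.rsR_rsR] at this
      simp only [Finset.sum_apply, Pi.smul_apply, smul_eq_mul]
      exact this.symm
    rw [e]
    exact Submodule.sum_mem _ fun l _ => Submodule.smul_mem _ _ (Submodule.subset_span ⟨⟨T, l⟩, rfl⟩)

include hW e₀ hs in
theorem gen_affine : Gen F (fun z : ModSite.sect F W => z) := by
  intro V hV t y hy
  obtain ⟨W', hW', hyW', hm⟩ := hs (hV.trans e₀) t y hy
  refine ⟨W', hW', hyW', Submodule.span_le.2 ?_ hm⟩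
  rintro - ⟨i, rfl⟩
  exact Submodule.subset_span ⟨RSFin.rs F e₀ (s i), RSFin.rs_rs _ _ _ _⟩

end pres

/-- quasi-coherent modules have good affine opens near every point -/
theorem exists_qcu {F : FSch.ModF 𝔛 h𝔛.1}
    (hF : SheafOfModules.IsQuasicoherent.{u} (R := ModSite.ringSh (𝔛.Osh h𝔛.1)) F) (x : 𝔛.X 0) :
    ∃ U, x ∈ U ∧ QCU h𝔛 F U := by
  classical
  obtain ⟨U, I, J, s, r, hxU, hs, hsupp, hrel⟩ := QCPres.exists_pres F x
  exact ⟨U, hxU, fun W hW e => ⟨gen_affine (h𝔛 := h𝔛) hW e s hs, fun q => exists_rel_affine (h𝔛 := h𝔛) hW e s r hs hsupp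
    (fun V h S c hc y hy => by convert hrel h S c hc y hy using 12) q⟩⟩

/-- quasi-coherence from generators over affine opens -/
theorem isQuasicoherent_of_gen {F : FSch.ModF 𝔛 h𝔛.1}
    (h : ∀ x, ∃ (U : (𝔛.X 0).Opens) (_ : IsAffineOpen U) (I : Type u) (s : I → ModSite.sect F U), x ∈ U ∧ Gen F s ∧
      ∀ (n : ℕ) (idx : Fin n → I), ∃ (κ : Type) (_ : Fintype κ) (r : κ → Fin n → sc (𝔛.Osh h𝔛.1) U),
        Rel F (fun k => s (idx k)) r) :
    SheafOfModules.IsQuasicoherent.{u} (R := ModSite.ringSh (𝔛.Osh h𝔛.1)) F := by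
  classical
  refine LimGen.isQuasicoherent_of_forall F fun x => ?_
  obtain ⟨U, hU, I, s, hxU, hs, hrel⟩ := h x
  refine ⟨U, I, s, hxU, hs, fun V hV S c hc y hy => ?_⟩
  let E : Fin S.card ≃ S := S.equivFin.symm
  obtain ⟨κ, hκ, r, hr⟩ := hrel S.card fun k => (E k).1
  have hsum : ∀ {M : Type u} [AddCommMonoid M] (φ : I → M), ∑ k, φ (E k).1 = ∑ i ∈ S, φ i :=
    fun φ => (E.sum_comp fun i : S => φ i).trans (Finset.sum_coe_sort S φ)
  obtain ⟨W, hW, hyW, hm⟩ := hr.2 hV (fun k => c (E k).1) ((hsum fun i => c i • RSFin.rs F hV (s i)).trans hc) y hy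
  obtain ⟨d, hd⟩ := (Submodule.mem_span_range_iff_exists_fun _).1 hm
  let r' : κ → I → sc (𝔛.Osh h𝔛.1) U := fun l i => if hi : i ∈ S then r l (E.symm ⟨i, hi⟩) else 0
  have hr' : ∀ l k, r' l (E k).1 = r l k := fun l k => by simp [r']
  refine ⟨W, hW, κ, hκ, r', d, hyW, fun l => ?_, fun i hi => ?_⟩
  · rw [← hsum fun i => r' l i • s i, ← hr.1 l]
    exact Finset.sum_congr rfl fun k _ => by rw [hr']
  · have := congrFun hd (E.symm ⟨i, hi⟩)
    simp only [Finset.sum_apply, Pi.smul_apply, smul_eq_mul, Equiv.apply_symm_apply] at this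
    refine Eq.trans (Finset.sum_congr rfl fun l _ => ?_) this
    simp [r', hi]

theorem isQuasicoherent_of_qcu {F : FSch.ModF 𝔛 h𝔛.1} (h : ∀ x, ∃ U, x ∈ U ∧ QCU h𝔛 F U) :
    SheafOfModules.IsQuasicoherent.{u} (R := ModSite.ringSh (𝔛.Osh h𝔛.1)) F :=
  isQuasicoherent_of_gen (h𝔛 := h𝔛) fun x => by
    obtain ⟨U₀, hx₀, hq⟩ := h x
    obtain ⟨U, hU, hxU, hle⟩ := exists_isAffineOpen_mem_and_subset (X := 𝔛.X 0) (x := x) (U := U₀) hx₀
    exact ⟨U, hU, _, _, hxU, (hq hU hle).1, fun n idx => (hq hU hle).2 idx⟩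

theorem qcu_of_ker {K P Q : FSch.ModF 𝔛 h𝔛.1} (φ : P ⟶ Q) (i : K ⟶ P) [Mono i]
    (hz : ∀ (U : (𝔛.X 0).Opens) t, RSFin.ap φ U (RSFin.ap i U t) = 0)
    (hlift : ∀ (U : (𝔛.X 0).Opens) t, RSFin.ap φ U t = 0 → ∃ k, RSFin.ap i U k = t)
    {U : (𝔛.X 0).Opens} (hP : QCU h𝔛 P U) (hQ : QCU h𝔛 Q U) : QCU h𝔛 K U := by
  intro W hW hle
  obtain ⟨hgP, hrP⟩ := hP hW hle
  obtain ⟨-, hrQ⟩ := hQ hW hle
  refine ⟨fun V hV t y hy => ?_, fun q => ?_⟩
  · obtain ⟨W₁, hW₁, L, e, d, hyW₁, hd⟩ := exists_fin_comb (h𝔛 := h𝔛) hgP hV (RSFin.ap i V t) hy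
    obtain ⟨κ, hκ, r, hr⟩ := hrQ fun l => RSFin.ap φ W (e l)
    choose k hk using fun m => hlift W (∑ l, r m l • e l) (by
      rw [map_sum, ← hr.1 m]
      exact Finset.sum_congr rfl fun l _ => map_smul _ _ _)
    have h0 : ∑ l, d l • RSFin.rs Q (hW₁.trans hV) (RSFin.ap φ W (e l)) = 0 := by
      have h1 := congrArg (RSFin.ap φ W₁) hd
      rw [map_sum, RSFin.ap_rs, hz, map_zero] at h1
      refine Eq.trans (Finset.sum_congr rfl fun l _ => ?_) h1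
      rw [map_smul, RSFin.ap_rs]
    obtain ⟨W₂, hW₂, hyW₂, hm⟩ := hr.2 (hW₁.trans hV) d h0 y hyW₁
    obtain ⟨x, hx⟩ := (Submodule.mem_span_range_iff_exists_fun _).1 hm
    refine ⟨W₂, hW₂.trans hW₁, hyW₂, ?_⟩
    have e1 : RSFin.rs K (hW₂.trans hW₁) t = ∑ m, x m • RSFin.rs K ((hW₂.trans hW₁).trans hV) (k m) := by
      refine RSFin.injective_of_mono i W₂ ?_
      rw [map_sum, RSFin.ap_rs, ← RSFin.rs_rs P hW₂ hW₁, ← hd, map_sum]
      simp only [map_smul, RSFin.ap_rs, hk, map_sum, RSFin.rs_smul, RSFin.rs_rs, Finset.smul_sum, smul_smul]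
      rw [Finset.sum_comm]
      refine Finset.sum_congr rfl fun l _ => ?_
      rw [← Finset.sum_smul]
      have := congrFun hx l
      simp only [Finset.sum_apply, Pi.smul_apply, smul_eq_mul] at this
      rw [this]
    rw [e1]
    exact Submodule.sum_mem _ fun m _ => Submodule.smul_mem _ _ (Submodule.subset_span ⟨k m, rfl⟩)
  · obtain ⟨κ, hκ, r, hr⟩ := hrP fun k => RSFin.ap i W (q k)
    refine ⟨κ, hκ, r, fun l => RSFin.injective_of_mono i W ?_, fun V h c hc x hx => hr.2 h c ?_ x hx⟩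
    · rw [map_zero, map_sum, ← hr.1 l]
      exact Finset.sum_congr rfl fun k _ => map_smul _ _ _
    · have := congrArg (RSFin.ap i V) hc
      rw [map_sum, map_zero] at this
      refine Eq.trans (Finset.sum_congr rfl fun k _ => ?_) this
      rw [map_smul, RSFin.ap_rs]

theorem isQuasicoherent_kernel {P Q : FSch.ModF 𝔛 h𝔛.1} (φ : P ⟶ Q)
    (hP : SheafOfModules.IsQuasicoherent.{u} (R := ModSite.ringSh (𝔛.Osh h𝔛.1)) P)
    (hQ : SheafOfModules.IsQuasicoherent.{u} (R := ModSite.ringSh (𝔛.Osh h𝔛.1)) Q) :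
    SheafOfModules.IsQuasicoherent.{u} (R := ModSite.ringSh (𝔛.Osh h𝔛.1)) (kernel φ) :=
  isQuasicoherent_of_qcu (h𝔛 := h𝔛) fun x => by
    obtain ⟨U, hxU, hU⟩ := exists_qcu (h𝔛 := h𝔛) hP x
    obtain ⟨U', hxU', hU'⟩ := exists_qcu (h𝔛 := h𝔛) hQ x
    exact ⟨U ⊓ U', ⟨hxU, hxU'⟩, qcu_of_ker (h𝔛 := h𝔛) φ (kernel.ι φ)
      (fun U t => (RSFin.ap_comp _ _ _ _).symm.trans (by rw [kernel.condition]; exact RSFin.ap_zero _ _))
      (fun U => (RSFin.kernel_sections φ U).2) (hU.mono inf_le_left) (hU'.mono inf_le_right)⟩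

theorem isQuasicoherent_cokernel {R P : FSch.ModF 𝔛 h𝔛.1} (φ : R ⟶ P)
    (hR : SheafOfModules.IsQuasicoherent.{u} (R := ModSite.ringSh (𝔛.Osh h𝔛.1)) R)
    (hP : SheafOfModules.IsQuasicoherent.{u} (R := ModSite.ringSh (𝔛.Osh h𝔛.1)) P) :
    SheafOfModules.IsQuasicoherent.{u} (R := ModSite.ringSh (𝔛.Osh h𝔛.1)) (cokernel φ) :=
  isQuasicoherent_of_gen (h𝔛 := h𝔛) fun x => by
    obtain ⟨U₁, hx₁, hq₁⟩ := exists_qcu (h𝔛 := h𝔛) hR x
    obtain ⟨U₂, hx₂, hq₂⟩ := exists_qcu (h𝔛 := h𝔛) hP x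
    obtain ⟨U, hU, hxU, hle⟩ := exists_isAffineOpen_mem_and_subset (X := 𝔛.X 0) (x := x) (U := U₁ ⊓ U₂) ⟨hx₁, hx₂⟩
    obtain ⟨hgR, -⟩ := hq₁ hU ((show U ≤ U₁ ⊓ U₂ from hle).trans inf_le_left)
    obtain ⟨hgP, hrP⟩ := hq₂ hU ((show U ≤ U₁ ⊓ U₂ from hle).trans inf_le_right)
    refine ⟨U, hU, ModSite.sect P U, fun p => RSFin.ap (cokernel.π φ) U p, hxU, fun V hV t y hy => ?_, fun n p => ?_⟩
    · obtain ⟨W₁, hW₁, b, hyW₁, hb⟩ := RSFin.epi_locally (cokernel.π φ) t hy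
      obtain ⟨W, hW, L, e, d, hyW, hd⟩ := exists_fin_comb (h𝔛 := h𝔛) hgP (hW₁.trans hV) b hyW₁
      refine ⟨W, hW.trans hW₁, hyW, ?_⟩
      rw [← RSFin.rs_rs _ hW hW₁, ← hb, ← RSFin.ap_rs, ← hd, map_sum]
      refine Submodule.sum_mem _ fun l _ => ?_
      rw [map_smul, RSFin.ap_rs]
      exact Submodule.smul_mem _ _ (Submodule.subset_span ⟨e l, rfl⟩)
    · choose κ hκ r hr using fun m : Σ L : ℕ, Fin L → ModSite.sect R U =>
        hrP (Sum.elim p fun l => RSFin.ap φ U (m.2 l))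
      haveI := hκ
      have hzero : ∀ {V : (𝔛.X 0).Opens} (z : ModSite.sect R V),
          RSFin.ap (cokernel.π φ) V (RSFin.ap φ V z) = 0 :=
        fun z => by rw [← RSFin.ap_comp, cokernel.condition]; exact RSFin.ap_zero _ _
      refine exists_rel_of_family h𝔛 hU _ (fun l : Σ m, κ m => fun k => r l.1 l.2 (Sum.inl k)) (fun l => ?_)
        fun V h c hc y hy => ?_
      · have := congrArg (RSFin.ap (cokernel.π φ) U) ((hr l.1).1 l.2)
        rw [Fintype.sum_sum_type, map_add, map_sum, map_sum, map_zero] at this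
        simpa only [map_smul, Sum.elim_inl, Sum.elim_inr, hzero, smul_zero, Finset.sum_const_zero, add_zero] using this
      · have h0 : RSFin.ap (cokernel.π φ) V (∑ k, c k • RSFin.rs P h (p k)) = 0 := by
          rw [map_sum]
          refine Eq.trans (Finset.sum_congr rfl fun k _ => ?_) hc
          rw [map_smul, RSFin.ap_rs]
        obtain ⟨W₁, hW₁, z, hyW₁, hz⟩ := LimGen.cokernel_locally φ _ h0 hy
        obtain ⟨W₂, hW₂, L, e, d, hyW₂, hd⟩ := exists_fin_comb (h𝔛 := h𝔛) hgR (hW₁.trans h) z hyW₁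
        let cc : Fin n ⊕ Fin L → sc (𝔛.Osh h𝔛.1) W₂ := Sum.elim (fun k => rsR (hW₂.trans hW₁) (c k)) fun l => -d l
        obtain ⟨W, hW, hyW, hm⟩ := (hr ⟨L, e⟩).2 (V := W₂) ((hW₂.trans hW₁).trans h) cc
          (sum_elim_rel (h𝔛 := h𝔛) φ h hW₁ hW₂ p c z hz e d hd) y hyW₂
        obtain ⟨x, hx⟩ := (Submodule.mem_span_range_iff_exists_fun _).1 hm
        refine ⟨W, hW.trans (hW₂.trans hW₁), hyW, ?_⟩
        have : (fun k => rsR (hW.trans (hW₂.trans hW₁)) (c k)) =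
            ∑ l, x l • fun k => rsR (hW.trans ((hW₂.trans hW₁).trans h)) (r ⟨L, e⟩ l (Sum.inl k)) := funext fun k => by
          have := congrFun hx (Sum.inl k)
          simp only [cc, Finset.sum_apply, Pi.smul_apply, smul_eq_mul, Sum.elim_inl, RSFin.rsR_rsR] at this ⊢
          exact this.symm
        rw [this]
        exact Submodule.sum_mem _ fun l _ => Submodule.smul_mem _ _ (Submodule.subset_span ⟨⟨⟨L, e⟩, l⟩, rfl⟩)

theorem isQuasicoherent_image {P Q : FSch.ModF 𝔛 h𝔛.1} (φ : P ⟶ Q)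
    (hP : SheafOfModules.IsQuasicoherent.{u} (R := ModSite.ringSh (𝔛.Osh h𝔛.1)) P)
    (hQ : SheafOfModules.IsQuasicoherent.{u} (R := ModSite.ringSh (𝔛.Osh h𝔛.1)) Q) :
    SheafOfModules.IsQuasicoherent.{u} (R := ModSite.ringSh (𝔛.Osh h𝔛.1)) (Abelian.image φ) :=
  isQuasicoherent_kernel (h𝔛 := h𝔛) (cokernel.π φ) hQ (isQuasicoherent_cokernel (h𝔛 := h𝔛) φ hP hQ)

end Groth.Agent.FSchCoh
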