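import Groth.Agent.FSchCoh.Coherent
import Groth.Agent.FSchCoh.Free
import Groth.Agent.FSchCoh.QCPres

/-!
# Quasi-coherent submodules and quotients of coherent modules
-/

universe u

open CategoryTheory CategoryTheory.Limits AlgebraicGeometry TopologicalSpace Opposite
open Groth.Agent.RSFin (sc rsR Gen Rel spanOn)

set_option autoImplicit false
set_option backward.isDefEq.respectTransparency false
set_option linter.style.haveILetI false

noncomputable section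

namespace Groth.Agent.FSchCoh

theorem exists_finset_span {A M ι : Type*} [Ring A] [AddCommGroup M] [Module A M] [IsNoetherian A M] (f : ι → M) :
    ∃ S : Finset ι, ∀ i, f i ∈ Submodule.span A (f '' S) := by
  classical
  obtain ⟨-, ⟨S, rfl⟩, hmax⟩ := set_has_maximal_iff_noetherian.2 ‹IsNoetherian A M›
    (Set.range fun S : Finset ι => Submodule.span A (f '' S)) ⟨_, ∅, rfl⟩
  refine ⟨S, fun i => ?_⟩
  by_contra hi
  refine hmax _ ⟨insert i S, rfl⟩ (lt_of_le_of_ne (Submodule.span_mono (Set.image_mono (by simp))) fun e => hi ?_)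
  exact e.ge (Submodule.subset_span ⟨i, by simp, rfl⟩)

variable {𝔛 : FSch.Sys.{u}} (h𝔛 : 𝔛.IsLocNoethFormal)
include h𝔛

/-- a quasi-coherent submodule of a coherent module is coherent -/
theorem isCohF_of_mono_of_qcoh {F G : FSch.ModF 𝔛 h𝔛.1} (hF : FSch.IsCohF 𝔛 h𝔛.1 F)
    [SheafOfModules.IsQuasicoherent.{u} (R := ModSite.ringSh (𝔛.Osh h𝔛.1)) G] (i : G ⟶ F) [Mono i] :
    FSch.IsCohF 𝔛 h𝔛.1 G := by
  refine isCohF_of_mono h𝔛 hF i (RSFin.isFiniteType_of_forall _ fun x => ?_)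
  obtain ⟨U₀, I, J, s, r, hxU₀, hs, -, -⟩ := QCPres.exists_pres G x
  obtain ⟨U, hU, hxU, hle⟩ := exists_isAffineOpen_mem_and_subset (X := 𝔛.X 0) (x := x) (U := U₀) hxU₀
  have e : U ≤ U₀ := hle
  haveI := (main 𝔛 h𝔛.1 h𝔛 hU).1
  haveI := (main_mod 𝔛 h𝔛.1 (pullSys 𝔛 h𝔛.1 F) h𝔛 (isCoh_pullSys 𝔛 h𝔛.1 F h𝔛 hF) hU).1
  haveI := isIso_toReal h𝔛 hF
  let η := toReal 𝔛 h𝔛.1 F
  let f : I → ML 𝔛 h𝔛.1 (pullSys 𝔛 h𝔛.1 F) U := fun k => RSFin.ap η U (RSFin.ap i U (RSFin.rs G e (s k)))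
  obtain ⟨S, hS⟩ := exists_finset_span (A := OA 𝔛 h𝔛.1 U) f
  let t : Fin S.card → ModSite.sect G U := fun k => RSFin.rs G e (s (S.equivFin.symm k))
  have ht : ∀ k, RSFin.rs G e (s k) ∈ Submodule.span (sc (𝔛.Osh h𝔛.1) U) (Set.range t) := fun k => by
    have h1 : f '' S = Set.range fun l => f (S.equivFin.symm l) := by
      ext z
      simp only [Set.mem_image, Finset.mem_coe, Set.mem_range]
      exact ⟨fun ⟨a, ha, e⟩ => ⟨S.equivFin ⟨a, ha⟩, by simpa using e⟩, fun ⟨l, e⟩ => ⟨_, (S.equivFin.symm l).2, e⟩⟩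
    have h2 := hS k
    rw [h1] at h2
    obtain ⟨c, hc⟩ := (Submodule.mem_span_range_iff_exists_fun _).1 h2
    refine (Submodule.mem_span_range_iff_exists_fun _).2 ⟨c, RSFin.injective_of_mono i U (RSFin.injective_of_mono η U ?_)⟩
    refine Eq.trans ?_ hc
    rw [map_sum, map_sum]
    exact Finset.sum_congr rfl fun l _ => by rw [map_smul, map_smul]
  refine ⟨U, Fin S.card, inferInstance, t, hxU, fun V hV z y hy => ?_⟩
  obtain ⟨W, hW, hyW, hm⟩ := hs (hV.trans e) z y hy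
  refine ⟨W, hW, hyW, Submodule.span_le.2 ?_ hm⟩
  rintro - ⟨k, rfl⟩
  have h3 := RSFin.rs_mem_spanOn G (le_refl U) (hW.trans hV) t (t := RSFin.rs G e (s k)) (by
    simpa only [spanOn, RSFin.rs_self] using ht k)
  rw [RSFin.rs_rs] at h3
  exact h3

/-- relations between finitely many vectors of functions on an affine open are finitely generated -/
theorem exists_vec_rel {U : (𝔛.X 0).Opens} (hU : IsAffineOpen U) {m : ℕ} :
    ∀ {q : ℕ} (v : Fin q → Fin m → sc (𝔛.Osh h𝔛.1) U), ∃ (κ : Type) (_ : Fintype κ)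
      (e : κ → Fin m → sc (𝔛.Osh h𝔛.1) U), (∀ k a, ∑ j, e k j * v a j = 0) ∧
      ∀ ⦃V : (𝔛.X 0).Opens⦄ (h : V ≤ U) (d : Fin m → sc (𝔛.Osh h𝔛.1) V),
        (∀ a, ∑ j, d j * rsR h (v a j) = 0) → ∀ y ∈ V, ∃ (W : (𝔛.X 0).Opens) (hW : W ≤ V), y ∈ W ∧
          ∃ f : κ → sc (𝔛.Osh h𝔛.1) W, ∀ j, ∑ k, f k * rsR (hW.trans h) (e k j) = rsR hW (d j)
  | 0, v => by
    refine ⟨Fin m, inferInstance, fun k => Pi.single k 1, fun k a => a.elim0, fun V h d _ y hy =>
      ⟨V, le_rfl, hy, d, fun j => ?_⟩⟩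
    rw [RSFin.rsR_self, Finset.sum_eq_single j (fun k _ hk => by simp [Ne.symm hk]) (by simp)]
    simp
  | q + 1, v => by
    obtain ⟨κ, hκ, e, he, hgen⟩ := exists_vec_rel hU (fun a : Fin q => v a.succ)
    let z : κ → ModSite.sect (ModSite.unit (𝔛.Osh h𝔛.1)) U := fun k => (∑ j, e k j * v 0 j : sc (𝔛.Osh h𝔛.1) U)
    obtain ⟨lam, hlam, r, hr⟩ := exists_rel h𝔛 (isFinitePresentation_unit _) hU z
    refine ⟨lam, hlam, fun l j => ∑ k, r l k * e k j, fun l a => ?_, fun V h d hd y hy => ?_⟩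
    · simp only [Finset.sum_mul, mul_assoc]
      rw [Finset.sum_comm]
      simp only [← Finset.mul_sum]
      induction a using Fin.cases with
      | zero => exact hr.1 l
      | succ a => simp [he _ a]
    · obtain ⟨W, hW, hyW, f, hf⟩ := hgen h d (fun a => hd a.succ) y hy
      have hf0 : ∑ k, f k * rsR (hW.trans h) (∑ j, e k j * v 0 j) = 0 := by
        simp only [map_sum, map_mul, Finset.mul_sum, ← mul_assoc]
        rw [Finset.sum_comm]
        simp only [← Finset.sum_mul, hf]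
        have := congrArg (rsR hW) (hd 0)
        simpa only [map_sum, map_mul, RSFin.rsR_rsR, map_zero] using this
      obtain ⟨W', hW', hyW', hm⟩ := hr.2 (hW.trans h) f hf0 y hyW
      obtain ⟨g, hg⟩ := (Submodule.mem_span_range_iff_exists_fun _).1 hm
      refine ⟨W', hW'.trans hW, hyW', g, fun j => ?_⟩
      rw [← RSFin.rsR_rsR hW' hW, ← hf j]
      simp only [map_sum, map_mul, RSFin.rsR_rsR, Finset.mul_sum, ← mul_assoc]
      rw [Finset.sum_comm]
      simp only [← Finset.sum_mul]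
      refine Finset.sum_congr rfl fun k _ => congrArg (· * _) ?_
      have := congrFun hg k
      simpa only [Finset.sum_apply, Pi.smul_apply, smul_eq_mul] using this

omit h𝔛 in
theorem exists_finite_support {h : 𝔛.IsFormal} {U₀ U : (𝔛.X 0).Opens} (hU : IsAffineOpen U) (e : U ≤ U₀)
    {F : FSch.ModF 𝔛 h} {I : Type u} (s : I → ModSite.sect F U₀) (r : I → sc (𝔛.Osh h) U₀)
    (hr : ∀ y ∈ U₀, ∃ (W : (𝔛.X 0).Opens) (hW : W ≤ U₀) (S : Finset I), y ∈ W ∧
      (∀ i ∉ S, rsR hW (r i) = 0) ∧ ∑ i ∈ S, rsR hW (r i) • RSFin.rs F hW (s i) = 0) :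
    ∃ S : Finset I, (∀ i ∉ S, rsR e (r i) = 0) ∧ ∑ i ∈ S, rsR e (r i) • RSFin.rs F e (s i) = 0 := by
  classical
  choose W hW S hyW hS₀ hSum using fun y : U => hr y.1 (e y.2)
  obtain ⟨T, hT⟩ := hU.isCompact.elim_finite_subcover (fun y : U => (W y : Set _)) (fun y => (W y).isOpen)
    (fun y hy => (Set.mem_iUnion (s := fun a : U => (W a : Set (𝔛.X 0)))).2 ⟨⟨y, hy⟩, hyW ⟨y, hy⟩⟩)
  refine ⟨T.biUnion S, fun i hi => RSFin.sc_eq_of_locally _ _ fun y hy => ?_, RSFin.eq_zero_of_locally _ _ fun y hy => ?_⟩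
  · obtain ⟨a, haT, hya⟩ := Set.mem_iUnion₂.1 (hT hy)
    refine ⟨U ⊓ W a, inf_le_left, ⟨hy, hya⟩, ?_⟩
    rw [map_zero, RSFin.rsR_rsR, ← RSFin.rsR_rsR (inf_le_right : U ⊓ W a ≤ W a) (hW a),
      hS₀ a i (fun h' => hi (Finset.mem_biUnion.2 ⟨a, haT, h'⟩)), map_zero]
  · obtain ⟨a, haT, hya⟩ := Set.mem_iUnion₂.1 (hT hy)
    refine ⟨U ⊓ W a, inf_le_left, ⟨hy, hya⟩, ?_⟩
    have h1 := congrArg (RSFin.rs F (inf_le_right : U ⊓ W a ≤ W a)) (hSum a)
    simp only [map_sum, map_zero, RSFin.rs_smul, RSFin.rs_rs, RSFin.rsR_rsR] at h1 ⊢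
    rw [← h1]
    refine (Finset.sum_subset (fun i hi => Finset.mem_biUnion.2 ⟨a, haT, hi⟩) fun i _ hi => ?_).symm
    rw [← RSFin.rsR_rsR (inf_le_right : U ⊓ W a ≤ W a) (hW a), hS₀ a i hi, map_zero, zero_smul]

/-- a quasi-coherent module of finite type is coherent -/
theorem isCohF_of_qcoh_of_isFiniteType {G : FSch.ModF 𝔛 h𝔛.1}
    [SheafOfModules.IsQuasicoherent.{u} (R := ModSite.ringSh (𝔛.Osh h𝔛.1)) G]
    [SheafOfModules.IsFiniteType.{u} (R := ModSite.ringSh (𝔛.Osh h𝔛.1)) G] :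
    FSch.IsCohF 𝔛 h𝔛.1 G := by
  classical
  refine RSFin.isFinitePresentation_of_forall _ fun x => ?_
  obtain ⟨U₁, n, g₁, hx₁, hg₁⟩ := RSFin.exists_gen_of_isFiniteType G x
  obtain ⟨U₀, I, J, s, r, hx₀, hs, hsupp, hrel⟩ := QCPres.exists_pres G x
  obtain ⟨W₂, hW₂, hxW₂, hP⟩ := RSFin.exists_common (U := U₁ ⊓ U₀) (x := x) ⟨hx₁, hx₀⟩
    (fun k W hW => RSFin.rs G (hW.trans inf_le_left) (g₁ k) ∈ spanOn G (hW.trans inf_le_right) s)
    (fun k W W' h h' hk => by simpa only [RSFin.rs_rs] using RSFin.rs_mem_spanOn G (h.trans inf_le_right) h' s hk)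
    (fun k => by
      obtain ⟨W, hW, hxW, hm⟩ := hs (V := U₁ ⊓ U₀) inf_le_right (RSFin.rs G inf_le_left (g₁ k)) x ⟨hx₁, hx₀⟩
      exact ⟨W, hW, hxW, by simpa only [RSFin.rs_rs] using hm⟩)
  obtain ⟨U, hU, hxU, hle⟩ := exists_isAffineOpen_mem_and_subset (X := 𝔛.X 0) (x := x) (U := W₂) hxW₂
  have e₁ : U ≤ U₁ := (show U ≤ W₂ from hle).trans (hW₂.trans inf_le_left)
  have e₀ : U ≤ U₀ := (show U ≤ W₂ from hle).trans (hW₂.trans inf_le_right)
  let t : Fin n → ModSite.sect G U := fun k => RSFin.rs G e₁ (g₁ k)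
  have ht : ∀ k, t k ∈ spanOn G e₀ s := fun k => by
    have := RSFin.rs_mem_spanOn G (hW₂.trans inf_le_right) (show U ≤ W₂ from hle) s (hP k)
    rw [RSFin.rs_rs] at this
    exact this
  choose c hc using fun k => Finsupp.mem_span_range_iff_exists_finsupp.1 (ht k)
  let S : Finset I := Finset.univ.biUnion fun k => (c k).support
  let idx : Fin S.card → I := fun a => S.equivFin.symm a
  let σ : Fin S.card → ModSite.sect G U := fun a => RSFin.rs G e₀ (s (idx a))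
  have hidx : ∀ {M : Type u} [AddCommMonoid M] (q : I → M), ∑ a, q (idx a) = ∑ i ∈ S, q i := fun q =>
    (S.equivFin.symm.sum_comp fun i : S => q i).trans (Finset.sum_coe_sort S q)
  have htσ : ∀ k, t k ∈ spanOn G (le_refl U) σ := fun k => by
    rw [← hc k, Finsupp.sum]
    refine Submodule.sum_mem _ fun i hi => Submodule.smul_mem _ _ (Submodule.subset_span
      ⟨S.equivFin ⟨i, Finset.mem_biUnion.2 ⟨k, Finset.mem_univ k, hi⟩⟩, ?_⟩)
    simp only [σ, idx, Equiv.symm_apply_apply, RSFin.rs_self]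
  have hσ : Gen G σ := fun V hV z y hy => by
    obtain ⟨W, hW, b, hyW, hb⟩ := (hg₁.mono e₁).exists_fun hV z hy
    refine ⟨W, hW, hyW, ?_⟩
    rw [← hb]
    exact Submodule.sum_mem _ fun k _ =>
      Submodule.smul_mem _ _ (RSFin.rs_mem_spanOn G (le_refl U) (hW.trans hV) σ (htσ k))
  haveI := (main 𝔛 h𝔛.1 h𝔛 hU).1
  let φ : (Fin S.card → OA 𝔛 h𝔛.1 U) →ₗ[OA 𝔛 h𝔛.1 U] ModSite.sect G U :=
    Fintype.linearCombination (OA 𝔛 h𝔛.1 U) σ
  obtain ⟨p, w, hw⟩ := Submodule.fg_iff_exists_fin_generating_family.1 (IsNoetherian.noetherian (LinearMap.ker φ))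
  refine ⟨U, Fin S.card, Fin p, inferInstance, inferInstance, σ, w, hxU, hσ, fun k => ?_, fun V hV cc hcc y hy => ?_⟩
  · have hk : w k ∈ LinearMap.ker φ := hw ▸ Submodule.subset_span ⟨k, rfl⟩
    rw [LinearMap.mem_ker, Fintype.linearCombination_apply] at hk
    exact hk
  · let C : I → sc (𝔛.Osh h𝔛.1) V := fun i => if hi : i ∈ S then cc (S.equivFin ⟨i, hi⟩) else 0
    have hC : ∀ a, C (idx a) = cc a := fun a => by simp [C, idx]
    obtain ⟨W₁, hW₁, T, d, hyW₁, hd⟩ := hrel (hV.trans e₀) S C (by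
      rw [← hidx fun i => C i • RSFin.rs G (hV.trans e₀) (s i)]
      refine Eq.trans ?_ hcc
      simp only [hC, σ, RSFin.rs_rs]) y hy
    let jdx : Fin T.card → J := fun a => T.equivFin.symm a
    have hjdx : ∀ {M : Type u} [AddCommMonoid M] (q : J → M), ∑ a, q (jdx a) = ∑ j ∈ T, q j := fun q =>
      (T.equivFin.symm.sum_comp fun j : T => q j).trans (Finset.sum_coe_sort T q)
    choose S' hS'0 hS'sum using fun a => exists_finite_support hU e₀ s (r (jdx a)) (hsupp (jdx a))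
    let S₁ : Finset I := (Finset.univ.biUnion S') \ S
    obtain ⟨κ, hκ, ev, hev, hgen⟩ := exists_vec_rel h𝔛 hU
      (fun (b : Fin S₁.card) (a : Fin T.card) => rsR e₀ (r (jdx a) (S₁.equivFin.symm b)))
    have hd0 : ∀ b, ∑ a, d (jdx a) * rsR (hW₁.trans hV) (rsR e₀ (r (jdx a) (S₁.equivFin.symm b))) = 0 := fun b => by
      simp only [RSFin.rsR_rsR]
      rw [hjdx (fun j => d j * rsR _ (r j (S₁.equivFin.symm b))), hd]
      exact if_neg (Finset.mem_sdiff.1 (S₁.equivFin.symm b).2).2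
    obtain ⟨W, hW, hyW, f, hf⟩ := hgen (hW₁.trans hV) (fun a => d (jdx a)) hd0 y hyW₁
    refine ⟨W, hW.trans hW₁, hyW, ?_⟩
    let w' : κ → Fin S.card → OA 𝔛 h𝔛.1 U := fun k i => ∑ a, ev k a * rsR e₀ (r (jdx a) (idx i))
    have hw' : ∀ k, w' k ∈ LinearMap.ker φ := fun k => by
      rw [LinearMap.mem_ker, Fintype.linearCombination_apply]
      show ∑ i, (∑ a, ev k a * rsR e₀ (r (jdx a) (idx i))) • σ i = 0
      rw [hidx (fun i => (∑ a, ev k a * rsR e₀ (r (jdx a) i)) • RSFin.rs G e₀ (s i)),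
        Finset.sum_subset (Finset.subset_union_left (s₂ := S₁)) (fun i hi hiS => ?_)]
      · simp only [Finset.sum_smul, mul_smul]
        rw [Finset.sum_comm]
        refine Finset.sum_eq_zero fun a _ => ?_
        rw [← Finset.smul_sum, ← Finset.sum_subset (show S' a ⊆ S ∪ S₁ from fun i hi => ?_) (fun i _ hi => ?_),
          hS'sum a, smul_zero]
        · rw [Finset.mem_union, Finset.mem_sdiff]
          exact (em (i ∈ S)).imp_right fun h => ⟨Finset.mem_biUnion.2 ⟨a, Finset.mem_univ a, hi⟩, h⟩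
        · rw [hS'0 a i hi, zero_smul]
      · have hi₁ : i ∈ S₁ := (Finset.mem_union.1 hi).resolve_left hiS
        have := hev k (S₁.equivFin ⟨i, hi₁⟩)
        simp only [Equiv.symm_apply_apply] at this
        rw [this, zero_smul]
    have key : (fun i => rsR (hW.trans hW₁) (cc i)) =
        ∑ k, f k • fun i => rsR ((hW.trans hW₁).trans hV) (w' k i) := by
      funext i
      simp only [Finset.sum_apply, Pi.smul_apply, smul_eq_mul, w', map_sum, map_mul, Finset.mul_sum, ← mul_assoc]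
      rw [Finset.sum_comm]
      simp only [← Finset.sum_mul, hf, RSFin.rsR_rsR]
      rw [← RSFin.rsR_rsR hW hW₁]
      have := congrArg (rsR hW) (hd (idx i))
      rw [if_pos (S.equivFin.symm i).2, hC, map_sum] at this
      rw [← this, ← hjdx (fun j => rsR hW (d j * rsR (hW₁.trans (hV.trans e₀)) (r j (idx i))))]
      exact Finset.sum_congr rfl fun a _ => by rw [map_mul, RSFin.rsR_rsR]
    rw [key]
    refine Submodule.sum_mem _ fun k _ => Submodule.smul_mem _ _ ?_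
    obtain ⟨g, hg⟩ := (Submodule.mem_span_range_iff_exists_fun _).1 (hw.ge (hw' k))
    refine (Submodule.mem_span_range_iff_exists_fun _).2
      ⟨fun l => rsR ((hW.trans hW₁).trans hV) (g l), funext fun i => ?_⟩
    rw [← hg]
    simp only [Finset.sum_apply, Pi.smul_apply, smul_eq_mul, map_sum, map_mul]

/-- a quasi-coherent quotient of a coherent module is coherent -/
theorem isCohF_of_epi_of_qcoh {F G : FSch.ModF 𝔛 h𝔛.1} (hF : FSch.IsCohF 𝔛 h𝔛.1 F)
    [SheafOfModules.IsQuasicoherent.{u} (R := ModSite.ringSh (𝔛.Osh h𝔛.1)) G] (π : F ⟶ G) [Epi π] :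
    FSch.IsCohF 𝔛 h𝔛.1 G := by
  haveI : SheafOfModules.IsFinitePresentation (R := ModSite.ringSh (𝔛.Osh h𝔛.1)) F := hF
  haveI : SheafOfModules.IsFiniteType (R := ModSite.ringSh (𝔛.Osh h𝔛.1)) G :=
    RSFin.isFiniteType_of_forall _ fun x => by
      obtain ⟨U, n, g, hx, hg⟩ := RSFin.exists_gen_of_isFiniteType F x
      refine ⟨U, Fin n, inferInstance, fun k => RSFin.ap π U (g k), hx, fun V hV z y hy => ?_⟩
      obtain ⟨W₁, hW₁, a, hyW₁, ha⟩ := RSFin.epi_locally π z hy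
      obtain ⟨W, hW, b, hyW, hb⟩ := hg.exists_fun (hW₁.trans hV) a hyW₁
      refine ⟨W, hW.trans hW₁, hyW, (RSFin.mem_spanOn_iff _ _ _ _).2 ⟨b, ?_⟩⟩
      rw [← RSFin.rs_rs G hW hW₁, ← ha, ← RSFin.ap_rs, ← hb, map_sum]
      exact Finset.sum_congr rfl fun k _ => by rw [map_smul, RSFin.ap_rs]
  exact isCohF_of_qcoh_of_isFiniteType h𝔛

end Groth.Agent.FSchCoh
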