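import Groth.Agent.FSchCoh.Vanish
import Groth.Agent.RPushSite.Eps
import Groth.Agent.RPushSite.Bounded
import Groth.Agent.DQPush.Trunc

/-!
# Hypercohomology of complexes with ind-coherent cohomology on a formal scheme
-/

universe u

open CategoryTheory CategoryTheory.Limits AlgebraicGeometry TopologicalSpace Opposite

set_option autoImplicit false
set_option backward.isDefEq.respectTransparency false
set_option linter.style.haveILetI false

attribute [local instance] HasDerivedCategory.standard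

noncomputable section

namespace Groth.Agent.FSchCoh

variable (𝔛 : FSch.Sys.{u}) (h𝔛 : 𝔛.IsLocNoethFormal) (G : DerivedCategory (FSch.ModF 𝔛 h𝔛.1))
  (hG : ∀ i : ℤ, (ObjectProperty.ind.{u} fun H : FSch.ModF 𝔛 h𝔛.1 => FSch.IsCohF 𝔛 h𝔛.1 H)
    ((DerivedCategory.homologyFunctor (FSch.ModF 𝔛 h𝔛.1) i).obj G))

include hG in
theorem van_affine {U : (𝔛.X 0).Opens} (hU : IsAffineOpen U) (i k : ℤ) (hk : 0 < k) :
    (HDU.modData (𝔛.Osh h𝔛.1)).Van ((DerivedCategory.homologyFunctor (FSch.ModF 𝔛 h𝔛.1) i).obj G) k U := by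
  obtain ⟨k', rfl⟩ : ∃ k' : ℕ, k = ((k' + 1 : ℕ) : ℤ) := ⟨k.toNat - 1, by omega⟩
  exact HDU.modVan (𝔛.Osh h𝔛.1) _ (k' + 1) (Nat.succ_pos _) U (ind_acyclic 𝔛 h𝔛.1 h𝔛 _ (hG i) hU k')

include hG in
theorem η_bijective_affine {U : (𝔛.X 0).Opens} (hU : IsAffineOpen U) (q : ℤ) :
    Function.Bijective ((HDU.modData (𝔛.Osh h𝔛.1)).η G q U) := by
  haveI : IsGrothendieckAbelian.{u} (ModSite.Mod (𝔛.Osh h𝔛.1)) := KFlat.isGrothendieck _
  haveI := RPushSite.hasProduct_truncTower G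
  refine HDU.η_bijective_of_acyclic (HDU.modData (𝔛.Osh h𝔛.1)) G ?_ U
    (fun j hj i => van_affine 𝔛 h𝔛 G hG hU i j hj) q
  refine HDU.isRlimVia_of_locally_bounded (HDU.modData (𝔛.Osh h𝔛.1)) G {W : (𝔛.X 0).Opens | IsAffineOpen W}
    DQPush.exists_affine_cover fun V _ => ⟨fun _ => 0, fun T hT => ?_⟩
  refine ⟨{W : (𝔛.X 0).Opens // IsAffineOpen W ∧ ∃ h : W ≤ V, T.arrows (homOfLE h)}, Subtype.val,
    fun W => homOfLE W.2.2.1, fun W => W.2.2.2, fun x hx => ?_,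
    fun W m k hk => van_affine 𝔛 h𝔛 G hG W.2.1 _ _ hk⟩
  obtain ⟨U', g, hg, hxU⟩ := hT x hx
  obtain ⟨_, ⟨W, hW, rfl⟩, hxW, hWU⟩ := (𝔛.X 0).isBasis_affineOpens.exists_subset_of_mem_open hxU U'.isOpen
  have hWV : W ≤ V := le_trans hWU g.le
  have hmem : T.arrows (homOfLE hWV) := by
    convert T.downward_closed hg (homOfLE hWU) using 1
    exact Subsingleton.elim _ _
  exact ⟨W, homOfLE hWV, Sieve.ofArrows_mk _ _
    (⟨W, hW, hWV, hmem⟩ : {W : (𝔛.X 0).Opens // IsAffineOpen W ∧ ∃ h : W ≤ V, T.arrows (homOfLE h)}), hxW⟩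

include hG in
theorem subsingleton_hg_affine {U : (𝔛.X 0).Opens} (hU : IsAffineOpen U) (q : ℤ)
    (hq : IsZero ((DerivedCategory.homologyFunctor (FSch.ModF 𝔛 h𝔛.1) q).obj G)) :
    Subsingleton ((HDU.modData (𝔛.Osh h𝔛.1)).HG G q U) := by
  have hz := ((HDU.modData (𝔛.Osh h𝔛.1)).Φ).map_isZero hq
  haveI : Subsingleton (((HDU.modData (𝔛.Osh h𝔛.1)).HS G q).obj.obj (op U)) :=
    @Equiv.subsingleton _ _ (SiteCoh.secEquiv U _).symm.toEquiv ⟨fun a b => hz.eq_of_tgt a b⟩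
  exact (η_bijective_affine 𝔛 h𝔛 G hG hU q).1.subsingleton

end Groth.Agent.FSchCoh
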