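import Groth.Agent.FSchCoh.Adj
import Groth.Agent.PullFlat.PullLocal

/-!
# The system of inverse images of a module on a formal scheme
-/

universe u

open CategoryTheory CategoryTheory.Limits AlgebraicGeometry Opposite

set_option autoImplicit false
set_option backward.isDefEq.respectTransparency false
set_option linter.style.haveILetI false

noncomputable section

namespace Groth.Agent.FSchCoh

variable (𝔛 : FSch.Sys.{u}) (h : 𝔛.IsFormal)

/-- direct image along a transition map and then to the formal scheme -/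
def cmpIso (k : ℕ) :
    Scheme.Modules.pushforward (𝔛.ι k) ⋙ (FSch.levelMor 𝔛 h (k + 1)).push ≅ (FSch.levelMor 𝔛 h k).push where
  hom := FSch.pushCompare 𝔛 h k
  inv := FSch.pushCompareInv 𝔛 h k
  hom_inv_id := NatTrans.ext (funext fun G => FSch.pushCompare_pushCompareInv 𝔛 h k G)
  inv_hom_id := NatTrans.ext (funext fun G => FSch.pushCompareInv_pushCompare 𝔛 h k G)

/-- inverse image to a level through the next one -/
def pullIso (k : ℕ) :
    (FSch.levelMor 𝔛 h (k + 1)).pull ⋙ Scheme.Modules.pullback (𝔛.ι k) ≅ (FSch.levelMor 𝔛 h k).pull :=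
  Adjunction.leftAdjointUniq
    ((FSch.levelMor 𝔛 h (k + 1)).adj.comp (Scheme.Modules.pullbackPushforwardAdjunction (𝔛.ι k)))
    ((FSch.levelMor 𝔛 h k).adj.ofNatIsoRight (cmpIso 𝔛 h k).symm)

variable (F : FSch.ModF 𝔛 h)

/-- the system of inverse images -/
def pullSys : FSch.ModSys 𝔛 where
  F k := (FSch.levelMor 𝔛 h k).pull.obj F
  e k := (pullIso 𝔛 h k).app F

theorem unit_toPush (k : ℕ) :
    (FSch.levelMor 𝔛 h (k + 1)).adj.unit.app F ≫
      (FSch.levelMor 𝔛 h (k + 1)).push.map ((pullSys 𝔛 h F).toPush k) ≫ (FSch.pushCompare 𝔛 h k).app _ =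
    (FSch.levelMor 𝔛 h k).adj.unit.app F := by
  have h1 := Adjunction.unit_leftAdjointUniq_hom_app
    ((FSch.levelMor 𝔛 h (k + 1)).adj.comp (Scheme.Modules.pullbackPushforwardAdjunction (𝔛.ι k)))
    ((FSch.levelMor 𝔛 h k).adj.ofNatIsoRight (cmpIso 𝔛 h k).symm) F
  have h2 : (FSch.levelMor 𝔛 h (k + 1)).adj.unit.app F ≫
      (FSch.levelMor 𝔛 h (k + 1)).push.map ((pullSys 𝔛 h F).toPush k) =
      (FSch.levelMor 𝔛 h k).adj.unit.app F ≫ (FSch.pushCompareInv 𝔛 h k).app _ := by
    rw [FSch.ModSys.toPush, Adjunction.homEquiv_unit, Functor.map_comp]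
    refine Eq.trans ?_ (h1.trans ?_)
    · rw [Adjunction.comp_unit_app, Category.assoc]
      rfl
    · simp [Adjunction.ofNatIsoRight, Adjunction.mkOfHomEquiv, cmpIso]
  rw [← Category.assoc, h2, Category.assoc]
  exact (congrArg (fun t => (FSch.levelMor 𝔛 h k).adj.unit.app F ≫ t)
    (FSch.pushCompareInv_pushCompare 𝔛 h k _)).trans (Category.comp_id _)

/-- the comparison map to the module of the system of inverse images -/
def toReal : F ⟶ (pullSys 𝔛 h F).realMod h :=
  limit.lift (FSch.levelSysOf 𝔛 h (pullSys 𝔛 h F).F (pullSys 𝔛 h F).toPush)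
    { pt := F
      π := NatTrans.ofOpSequence (fun k => (FSch.levelMor 𝔛 h k).adj.unit.app F) fun k => by
        rw [FSch.levelSysOf_map_succ, Functor.const_obj_map]
        exact (Category.id_comp _).trans (unit_toPush 𝔛 h F k).symm }

theorem toReal_proj (k : ℕ) :
    toReal 𝔛 h F ≫ FSch.realProj 𝔛 h (pullSys 𝔛 h F).F (pullSys 𝔛 h F).toPush k =
      (FSch.levelMor 𝔛 h k).adj.unit.app F :=
  limit.lift_π _ (op k)

theorem isCoh_pullSys (h𝔛 : 𝔛.IsLocNoethFormal) (hF : FSch.IsCohF 𝔛 h F) : (pullSys 𝔛 h F).IsCoh := fun k => by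
  haveI : SheafOfModules.IsFinitePresentation (R := ModSite.ringSh (𝔛.X k).sheaf)
      ((FSch.levelMor 𝔛 h k).pull.obj F) :=
    @PullFlat.isFinitePresentation_pull _ _ _ _ _ _ _ _ (FSch.levelMor 𝔛 h k) F hF
  exact ⟨(inferInstance : SheafOfModules.IsQuasicoherent (R := ModSite.ringSh (𝔛.X k).sheaf)
      ((FSch.levelMor 𝔛 h k).pull.obj F)),
    (inferInstance : SheafOfModules.IsFiniteType (R := ModSite.ringSh (𝔛.X k).sheaf)
      ((FSch.levelMor 𝔛 h k).pull.obj F))⟩

end Groth.Agent.FSchCoh
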